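import Cfsg.Agent.Lib.D4.Fld

/-!
Elements, normality, commutators and orders in the Sylow subgroup of `³D₄(q)`.
-/

set_option autoImplicit false
set_option linter.unusedSimpArgs false
set_option linter.unnecessarySeqFocus false

namespace Cfsg.Agent.D4

open Subgroup

variable {K : Type} [Field K] [Fintype K] [Tf K]

/-- The element of `R` with coordinates `u, v, w` and `s = z = 0`. -/
def xr (u v w : K) : P K := ⟨0, u, v, w, 0, 0, by simp, by simp, by simp⟩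

/-- The element of `Z₂` with coordinates `s, z`. -/
def xz (s z : K) (hs : th s = s) (hz : th z = z) : P K := ⟨0, 0, 0, 0, s, z, by simp, hs, hz⟩

/-- The long simple root element. -/
def xt (t : K) (ht : th t = t) : P K := ⟨t, 0, 0, 0, 0, 0, ht, by simp, by simp⟩

@[simp] theorem xr_t (u v w : K) : (xr u v w).t = 0 := rfl
@[simp] theorem xr_u (u v w : K) : (xr u v w).u = u := rfl
@[simp] theorem xr_v (u v w : K) : (xr u v w).v = v := rfl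
@[simp] theorem xr_w (u v w : K) : (xr u v w).w = w := rfl
@[simp] theorem xr_s (u v w : K) : (xr u v w).s = 0 := rfl
@[simp] theorem xr_z (u v w : K) : (xr u v w).z = 0 := rfl
@[simp] theorem xz_t (s z : K) (hs hz) : (xz s z hs hz).t = 0 := rfl
@[simp] theorem xz_u (s z : K) (hs hz) : (xz s z hs hz).u = 0 := rfl
@[simp] theorem xz_v (s z : K) (hs hz) : (xz s z hs hz).v = 0 := rfl
@[simp] theorem xz_w (s z : K) (hs hz) : (xz s z hs hz).w = 0 := rfl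
@[simp] theorem xz_s (s z : K) (hs hz) : (xz s z hs hz).s = s := rfl
@[simp] theorem xz_z (s z : K) (hs hz) : (xz s z hs hz).z = z := rfl
@[simp] theorem xt_t (t : K) (ht) : (xt t ht).t = t := rfl
@[simp] theorem xt_u (t : K) (ht) : (xt t ht).u = 0 := rfl
@[simp] theorem xt_v (t : K) (ht) : (xt t ht).v = 0 := rfl
@[simp] theorem xt_w (t : K) (ht) : (xt t ht).w = 0 := rfl
@[simp] theorem xt_s (t : K) (ht) : (xt t ht).s = 0 := rfl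
@[simp] theorem xt_z (t : K) (ht) : (xt t ht).z = 0 := rfl

theorem xr_mem_R (u v w : K) : xr u v w ∈ R K := rfl
theorem xr_mem_Z4 (v w : K) : xr 0 v w ∈ Z4 K := ⟨rfl, rfl⟩
theorem xr_mem_Z3 (w : K) : xr 0 0 w ∈ Z3 K := ⟨rfl, rfl, rfl⟩
theorem xz_mem_Z2 (s z : K) (hs hz) : xz s z hs hz ∈ Z2 K := ⟨rfl, rfl, rfl, rfl⟩
theorem xz_mem_Z (z : K) (hs hz) : xz 0 z hs hz ∈ Z K := ⟨rfl, rfl, rfl, rfl, rfl⟩
theorem xt_mem_Q (t : K) (ht) : xt t ht ∈ Q K := rfl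

section Formulas

variable (g x : P K)

theorem conj_t : (g * x * g⁻¹).t = x.t := by simp
theorem conj_u : (g * x * g⁻¹).u = x.u := by simp
theorem conj_v : (g * x * g⁻¹).v = x.v + x.t * g.u - g.t * x.u := by simp; ring
theorem icj_t : (x⁻¹ * (g * x * g⁻¹)).t = 0 := by simp
theorem icj_u : (x⁻¹ * (g * x * g⁻¹)).u = 0 := by simp
theorem icj_v : (x⁻¹ * (g * x * g⁻¹)).v = x.t * g.u - g.t * x.u := by simp; ring

theorem conj_w : (g * x * g⁻¹).w = x.w + cr g.u x.v - cr x.u g.v + x.t * sh g.u -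
    g.t * sh x.u - g.t * cr g.u x.u + g.t * cr g.u x.u := by
  simp only [P.mul_t, P.mul_u, P.mul_v, P.mul_w, P.inv_t, P.inv_u, P.inv_v, P.inv_w, sh, cr,
    map_add, map_sub, map_mul, map_neg, P.ht]
  ring

end Formulas

/-- Commuting elements, coordinate by coordinate. -/
theorem commute_iff {x y : P K} : x * y = y * x ↔ y.t * x.u = x.t * y.u ∧
    cr x.u y.v + y.t * sh x.u = cr y.u x.v + x.t * sh y.u ∧
    tr (x.u * y.w) + tr (sh x.u * y.v) + y.t * nm x.u =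
      tr (y.u * x.w) + tr (sh y.u * x.v) + x.t * nm y.u ∧
    -(y.t * x.s) + tr (y.v * x.w) + y.t * tr (x.u * x.w) + tr (x.u * sh y.v) +
      y.t * tr (sh x.u * y.v) + y.t ^ 2 * nm x.u =
    -(x.t * y.s) + tr (x.v * y.w) + x.t * tr (y.u * y.w) + tr (y.u * sh x.v) +
      x.t * tr (sh y.u * x.v) + x.t ^ 2 * nm y.u := by
  rw [P.ext_iff]
  simp only [P.mul_t, P.mul_u, P.mul_v, P.mul_w, P.mul_s, P.mul_z]
  exact ⟨fun ⟨_, _, h₁, h₂, h₃, h₄⟩ => ⟨by linear_combination h₁, by linear_combination h₂,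
    by linear_combination h₃, by linear_combination h₄⟩, fun ⟨h₁, h₂, h₃, h₄⟩ =>
    ⟨by ring, by ring, by linear_combination h₁, by linear_combination h₂,
      by linear_combination h₃, by linear_combination h₄⟩⟩

section Special

variable {g x : P K}

/-- Conjugating an element of `Q`. -/
theorem conj_Q (g : P K) (hx : x ∈ Q K) : (g * x * g⁻¹).v = x.v + x.t * g.u ∧
    (g * x * g⁻¹).w = x.w + cr g.u x.v + x.t * sh g.u ∧
    (g * x * g⁻¹).s = x.s + tr (g.u * x.w) + tr (sh g.u * x.v) + x.t * nm g.u := by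
  have h : x.u = 0 := hx
  refine ⟨?_, ?_, ?_⟩ <;>
  simp only [P.mul_t, P.mul_u, P.mul_v, P.mul_w, P.mul_s, P.inv_t, P.inv_u, P.inv_v, P.inv_w,
    P.inv_s, h, tr, nm, sh, cr, map_add, map_sub, map_mul, map_neg, map_zero, P.ht, th3] <;>
  ring

theorem icj_Q (g : P K) (hx : x ∈ Q K) : (x⁻¹ * (g * x * g⁻¹)).v = x.t * g.u ∧
    (x⁻¹ * (g * x * g⁻¹)).w = cr g.u x.v + x.t * sh g.u ∧
    (x⁻¹ * (g * x * g⁻¹)).s = tr (g.u * x.w) + tr (sh g.u * x.v) + x.t * nm g.u := by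
  have h : x.u = 0 := hx
  obtain ⟨h₁, h₂, h₃⟩ := conj_Q g hx
  refine ⟨?_, ?_, ?_⟩ <;> simp [h₁, h₂, h₃, h, conj_t] <;> ring

/-- The commutator form on `Q`. -/
theorem icj_Q_z (hg : g ∈ Q K) (hx : x ∈ Q K) : (x⁻¹ * (g * x * g⁻¹)).z =
    g.t * x.s - x.t * g.s - tr (g.v * x.w) + tr (x.v * g.w) := by
  have h : x.u = 0 := hx
  have h' : g.u = 0 := hg
  simp only [P.mul_t, P.mul_u, P.mul_v, P.mul_w, P.mul_s, P.mul_z, P.inv_t, P.inv_u, P.inv_v,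
    P.inv_w, P.inv_s, P.inv_z, h, h', tr, nm, sh, cr, map_add, map_sub, map_mul, map_neg, map_zero,
    P.ht, th3]
  ring

theorem icj_R (hg : g ∈ R K) (hx : x ∈ R K) :
    (x⁻¹ * (g * x * g⁻¹)).w = cr g.u x.v - cr x.u g.v := by
  have h : x.t = 0 := hx
  have h' : g.t = 0 := hg
  simp only [P.mul_t, P.mul_u, P.mul_v, P.mul_w, P.inv_t, P.inv_u, P.inv_v,
    P.inv_w, h, h', sh, cr, map_add, map_sub, map_mul, map_neg, map_zero, P.ht, th3]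
  ring

/-- Conjugating an element of `Z₃`. -/
theorem icj_Z3 (g : P K) (hx : x ∈ Z3 K) : (x⁻¹ * (g * x * g⁻¹)).s = tr (g.u * x.w) ∧
    (x⁻¹ * (g * x * g⁻¹)).z = g.t * x.s - tr (g.v * x.w) + g.t * tr (g.u * x.w) := by
  obtain ⟨h₁, h₂, h₃⟩ := hx
  constructor <;>
  simp only [P.mul_t, P.mul_u, P.mul_v, P.mul_w, P.mul_s, P.mul_z, P.inv_t, P.inv_u, P.inv_v,
    P.inv_w, P.inv_s, P.inv_z, h₁, h₂, h₃, tr, nm, sh, cr, map_add, map_sub, map_mul, map_neg,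
    map_zero, P.ht, th3] <;>
  ring

/-- Conjugating by an element of `Z₃`. -/
theorem icj_Z3' (hg : g ∈ Z3 K) (x : P K) : (x⁻¹ * (g * x * g⁻¹)).s = -tr (x.u * g.w) ∧
    (x⁻¹ * (g * x * g⁻¹)).z = tr (x.v * g.w) - x.t * g.s := by
  obtain ⟨h₁, h₂, h₃⟩ := hg
  constructor <;>
  simp only [P.mul_t, P.mul_u, P.mul_v, P.mul_w, P.mul_s, P.mul_z, P.inv_t, P.inv_u, P.inv_v,
    P.inv_w, P.inv_s, P.inv_z, h₁, h₂, h₃, tr, nm, sh, cr, map_add, map_sub, map_mul, map_neg,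
    map_zero, P.ht, th3] <;>
  ring

/-- Conjugating by an element of `Q`, modulo `Z`. -/
theorem icj_Q' (hg : g ∈ Q K) (x : P K) : (x⁻¹ * (g * x * g⁻¹)).v = -(g.t * x.u) ∧
    (x⁻¹ * (g * x * g⁻¹)).w = g.t * sh x.u - cr x.u g.v ∧
    (x⁻¹ * (g * x * g⁻¹)).s = tr (sh x.u * g.v) - tr (x.u * g.w) - g.t * nm x.u := by
  have h : g.u = 0 := hg
  refine ⟨?_, ?_, ?_⟩ <;>
  simp only [P.mul_t, P.mul_u, P.mul_v, P.mul_w, P.mul_s, P.inv_t, P.inv_u, P.inv_v,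
    P.inv_w, P.inv_s, h, tr, nm, sh, cr, map_add, map_sub, map_mul, map_neg,
    map_zero, P.ht, th3] <;>
  ring

end Special

instance : (Q K).Normal := ⟨fun x hx g => by rw [mem_Q, conj_u]; exact hx⟩
instance : (R K).Normal := ⟨fun x hx g => by rw [mem_R, conj_t]; exact hx⟩
instance : (Z4 K).Normal := ⟨fun x hx g => by rw [mem_Z4, conj_t, conj_u]; exact hx⟩
instance : (Z3 K).Normal := ⟨fun x hx g => by
  rw [mem_Z3, conj_t, conj_u, conj_v]; simp [hx.1, hx.2.1, hx.2.2]⟩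
instance : (Z2 K).Normal := ⟨fun x hx g => by
  rw [mem_Z2, conj_t, conj_u, conj_v, conj_w]; simp [hx.1, hx.2.1, hx.2.2.1, hx.2.2.2]⟩
instance : (Z K).Normal := ⟨fun x hx g => by
  rw [mem_Z, conj_t, conj_u, conj_v, conj_w, (conj_Q g hx.2.1).2.2]
  simp [hx.1, hx.2.1, hx.2.2.1, hx.2.2.2.1, hx.2.2.2.2]⟩

theorem Z_le_Z2 : Z K ≤ Z2 K := fun _ h => ⟨h.1, h.2.1, h.2.2.1, h.2.2.2.1⟩
theorem Z2_le_Z3 : Z2 K ≤ Z3 K := fun _ h => ⟨h.1, h.2.1, h.2.2.1⟩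
theorem Z3_le_Z4 : Z3 K ≤ Z4 K := fun _ h => ⟨h.1, h.2.1⟩
theorem Z4_le_Q : Z4 K ≤ Q K := fun _ h => h.2
theorem Z4_le_R : Z4 K ≤ R K := fun _ h => h.1
theorem Z3_le_Q : Z3 K ≤ Q K := Z3_le_Z4.trans Z4_le_Q
theorem Z3_le_R : Z3 K ≤ R K := Z3_le_Z4.trans Z4_le_R
theorem Z2_le_Z4 : Z2 K ≤ Z4 K := Z2_le_Z3.trans Z3_le_Z4
theorem Z2_le_Q : Z2 K ≤ Q K := Z2_le_Z3.trans Z3_le_Q
theorem Z2_le_R : Z2 K ≤ R K := Z2_le_Z3.trans Z3_le_R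
theorem Z_le_Z3 : Z K ≤ Z3 K := Z_le_Z2.trans Z2_le_Z3
theorem Z_le_Z4 : Z K ≤ Z4 K := Z_le_Z3.trans Z3_le_Z4
theorem Z_le_Q : Z K ≤ Q K := Z_le_Z4.trans Z4_le_Q
theorem Z_le_R : Z K ≤ R K := Z_le_Z4.trans Z4_le_R

section Mem

variable {g x : P K}

theorem icj_mem_Z4 (g x : P K) : x⁻¹ * (g * x * g⁻¹) ∈ Z4 K := ⟨icj_t g x, icj_u g x⟩

theorem icj_mem_Z3 (g : P K) (hx : x ∈ Z4 K) : x⁻¹ * (g * x * g⁻¹) ∈ Z3 K :=
  ⟨icj_t g x, icj_u g x, by rw [icj_v]; simp [hx.1, hx.2]⟩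

theorem icj_mem_Z3' (hg : g ∈ Z4 K) (x : P K) : x⁻¹ * (g * x * g⁻¹) ∈ Z3 K :=
  ⟨icj_t g x, icj_u g x, by rw [icj_v]; simp [hg.1, hg.2]⟩

theorem icj_R_mem (hg : g ∈ R K) (hx : x ∈ R K) : x⁻¹ * (g * x * g⁻¹) ∈ Z3 K :=
  ⟨icj_t g x, icj_u g x, by rw [icj_v]; simp [mem_R.1 hg, mem_R.1 hx]⟩

theorem icj_mem_Z2 (g : P K) (hx : x ∈ Z3 K) : x⁻¹ * (g * x * g⁻¹) ∈ Z2 K := by
  obtain ⟨h₁, h₂, -⟩ := icj_Q g hx.2.1
  exact ⟨icj_t g x, icj_u g x, by simp [h₁, hx.1], by simp [h₂, hx.1, hx.2.2]⟩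

theorem icj_mem_Z2' (hg : g ∈ Z3 K) (x : P K) : x⁻¹ * (g * x * g⁻¹) ∈ Z2 K := by
  obtain ⟨h₁, h₂, -⟩ := icj_Q' hg.2.1 x
  exact ⟨icj_t g x, icj_u g x, by simp [h₁, hg.1], by simp [h₂, hg.1, hg.2.2]⟩

theorem icj_mem_Z (g : P K) (hx : x ∈ Z2 K) : x⁻¹ * (g * x * g⁻¹) ∈ Z K := by
  obtain ⟨h₁, h₂, h₃⟩ := icj_Q g hx.2.1
  exact ⟨icj_t g x, icj_u g x, by simp [h₁, hx.1], by simp [h₂, hx.1, hx.2.2.1],
    by simp [h₃, hx.1, hx.2.2.1, hx.2.2.2]⟩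

theorem icj_mem_Z' (hg : g ∈ Z2 K) (x : P K) : x⁻¹ * (g * x * g⁻¹) ∈ Z K := by
  obtain ⟨h₁, h₂, h₃⟩ := icj_Q' hg.2.1 x
  exact ⟨icj_t g x, icj_u g x, by simp [h₁, hg.1], by simp [h₂, hg.1, hg.2.2.1],
    by simp [h₃, hg.1, hg.2.2.1, hg.2.2.2]⟩

theorem icj_Q_mem (hg : g ∈ Q K) (hx : x ∈ Q K) : x⁻¹ * (g * x * g⁻¹) ∈ Z K := by
  obtain ⟨h₁, h₂, h₃⟩ := icj_Q g hx
  have h : g.u = 0 := hg
  exact ⟨icj_t g x, icj_u g x, by simp [h₁, h], by simp [h₂, h], by simp [h₃, h]⟩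

theorem comm_Z (hx : x ∈ Z K) (y : P K) : x * y = y * x := by
  rw [commute_iff]; simp [hx.1, hx.2.1, hx.2.2.1, hx.2.2.2.1, hx.2.2.2.2]

theorem comm_Z2 (hx : x ∈ Z2 K) {y : P K} (hy : y ∈ R K) : x * y = y * x := by
  rw [commute_iff]; simp [hx.1, hx.2.1, hx.2.2.1, hx.2.2.2, mem_R.1 hy]

theorem comm_Z3 (hx : x ∈ Z3 K) {y : P K} (hy : y ∈ Z3 K) : x * y = y * x := by
  rw [commute_iff]; simp [hx.1, hx.2.1, hx.2.2, hy.1, hy.2.1, hy.2.2]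

theorem conj_Z (hx : x ∈ Z K) (g : P K) : g * x * g⁻¹ = x := by
  rw [← comm_Z hx g, mul_inv_cancel_right]

theorem conj_Z2 (hx : x ∈ Z2 K) (hg : g ∈ R K) : g * x * g⁻¹ = x := by
  rw [← comm_Z2 hx hg, mul_inv_cancel_right]

theorem conj_Z3 (hx : x ∈ Z3 K) (hg : g ∈ Z3 K) : g * x * g⁻¹ = x := by
  rw [← comm_Z3 hx hg, mul_inv_cancel_right]

theorem eq_of_z {y : P K} (hx : x ∈ Z K) (hy : y ∈ Z K) (h : x.z = y.z) : x = y :=
  P.ext (hx.1.trans hy.1.symm) (hx.2.1.trans hy.2.1.symm) (hx.2.2.1.trans hy.2.2.1.symm)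
    (hx.2.2.2.1.trans hy.2.2.2.1.symm) (hx.2.2.2.2.trans hy.2.2.2.2.symm) h

theorem eq_of_sz {y : P K} (hx : x ∈ Z2 K) (hy : y ∈ Z2 K) (h : x.s = y.s) (h' : x.z = y.z) :
    x = y :=
  P.ext (hx.1.trans hy.1.symm) (hx.2.1.trans hy.2.1.symm) (hx.2.2.1.trans hy.2.2.1.symm)
    (hx.2.2.2.trans hy.2.2.2.symm) h h'

/-- `C_S(Z₂) = R`. -/
theorem mem_R_of_comm (h : ∀ y ∈ Z2 K, x * y = y * x) : x ∈ R K := by
  have := (commute_iff.1 (h (xz 1 0 (by simp) (by simp)) (xz_mem_Z2 ..))).2.2.2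
  show x.t = 0
  simpa using this

/-- `C_S(Z₃) = Z₃`. -/
theorem mem_Z3_of_comm (h : ∀ y ∈ Z3 K, x * y = y * x) : x ∈ Z3 K := by
  have ht : x.t = 0 := mem_R_of_comm fun y hy => h y (Z2_le_Z3 hy)
  refine ⟨ht, eq_zero_of_tr fun w => ?_, eq_zero_of_tr fun w => ?_⟩
  · simpa using (commute_iff.1 (h _ (xr_mem_Z3 w))).2.2.1
  · simpa [eq_comm] using (commute_iff.1 (h _ (xr_mem_Z3 w))).2.2.2

/-- `Z(R) = Z(Z₄) = Z₂`. -/
theorem mem_Z2_of_comm (h : ∀ y ∈ Z4 K, x * y = y * x) : x ∈ Z2 K := by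
  obtain ⟨h₁, h₂, h₃⟩ := mem_Z3_of_comm fun y hy => h y (Z3_le_Z4 hy)
  refine ⟨h₁, h₂, h₃, eq_zero_of_tr fun v => ?_⟩
  simpa [h₁, h₂, h₃, mul_comm] using (commute_iff.1 (h _ (xr_mem_Z4 v 0))).2.2.2

/-- `Z(Q) = Z`. -/
theorem mem_Z_of_comm (h : ∀ y ∈ Q K, x * y = y * x) : x ∈ Z K := by
  obtain ⟨h₁, h₂, h₃, h₄⟩ := mem_Z2_of_comm fun y hy => h y (Z4_le_Q hy)
  refine ⟨h₁, h₂, h₃, h₄, ?_⟩
  simpa [h₁, h₂, h₃, h₄] using (commute_iff.1 (h _ (xt_mem_Q 1 (by simp)))).2.2.2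

/-- `Q = C_S(Z₃ / Z)`. -/
theorem mem_Q_of_icj (h : ∀ y ∈ Z3 K, y⁻¹ * (x * y * x⁻¹) ∈ Z K) : x ∈ Q K :=
  eq_zero_of_tr fun w => by simpa [(icj_Z3 x (xr_mem_Z3 w)).1] using (h _ (xr_mem_Z3 w)).2.2.2.2

/-- Every element of `Z` is a commutator of `Z₄` and `Z₃`. -/
theorem exists_icj_Z (hx : x ∈ Z K) : ∃ g ∈ Z4 K, ∃ y ∈ Z3 K, x = y⁻¹ * (g * y * g⁻¹) := by
  obtain ⟨w, hw⟩ := exists_tr x.hz
  refine ⟨xr 0 (-1) 0, xr_mem_Z4 .., xr 0 0 w, xr_mem_Z3 _, eq_of_z hx (icj_Q_mem rfl rfl) ?_⟩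
  rw [(icj_Z3 _ (xr_mem_Z3 w)).2]
  simp [tr_neg, hw]

theorem pow_char {p : ℕ} [CharP K p] (hx : x ∈ Z3 K) : x ^ p = 1 := by
  have key : ∀ n : ℕ, (x ^ n).w = n * x.w ∧ (x ^ n).s = n * x.s ∧ (x ^ n).z = n * x.z := by
    intro n
    induction n with
    | zero => simp
    | succ n ih =>
      have h := pow_mem hx n
      rw [pow_succ]
      simp [ih, h.1, h.2.1, h.2.2, hx.1, hx.2.1, hx.2.2, add_mul]
  have h := pow_mem hx p
  obtain ⟨h₁, h₂, h₃⟩ := key p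
  ext <;> simp [h.1, h.2.1, h.2.2, h₁, h₂, h₃]

end Mem

section Card

/-- The index of the kernel of a coordinate that is additive on `A`. -/
theorem card_step {A B : Subgroup (P K)} (φ : P K → K) (C : AddSubgroup K)
    (hφ : ∀ x ∈ A, ∀ y ∈ A, φ (x * y) = φ x + φ y) (hB : ∀ x, x ∈ B ↔ x ∈ A ∧ φ x = 0)
    (hR : ∀ r, r ∈ C ↔ ∃ x ∈ A, φ x = r) : Nat.card A = Nat.card B * Nat.card C := by
  let f : A →* Multiplicative K := MonoidHom.mk' (fun x => Multiplicative.ofAdd (φ x))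
    fun x y => congrArg Multiplicative.ofAdd (hφ x x.2 y y.2)
  have hk : f.ker = B.subgroupOf A := by
    ext x
    rw [MonoidHom.mem_ker, mem_subgroupOf, hB]
    exact ⟨fun h => ⟨x.2, h⟩, fun h => h.2⟩
  have hr : f.range = C.toSubgroup := by
    ext r
    exact ⟨fun ⟨x, hx⟩ => (hR _).2 ⟨x, x.2, hx⟩, fun h => by
      obtain ⟨x, hx, e⟩ := (hR _).1 h
      exact ⟨⟨x, hx⟩, e⟩⟩
  rw [← f.ker.card_mul_index, index_ker, hk, hr,
    Nat.card_congr (subgroupOfEquivOfLe (fun x hx => ((hB x).1 hx).1)).toEquiv]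
  rfl

variable (K)

theorem card_kf' : Nat.card (kf K).toAddSubgroup = Tf.q K := card_kf K

theorem card_Z : Nat.card (Z K) = Tf.q K := by
  rw [card_step (A := Z K) (B := ⊥) P.z (kf K).toAddSubgroup (fun x hx y hy => by
      simp [hx.2.1, hx.2.2.2.1, hy.1]) (fun x => ⟨by rintro rfl; exact ⟨one_mem _, rfl⟩,
      fun ⟨h, h'⟩ => eq_of_z h (one_mem _) h'⟩) fun r => ⟨fun hr =>
      ⟨xz 0 r (by simp) hr, xz_mem_Z .., rfl⟩, by rintro ⟨x, -, rfl⟩; exact x.hz⟩, card_kf',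
    card_bot, one_mul]

theorem card_Z2 : Nat.card (Z2 K) = Tf.q K ^ 2 := by
  rw [card_step (A := Z2 K) (B := Z K) P.s (kf K).toAddSubgroup (fun x hx y hy => by
      simp [hx.2.1]) (fun x => by simp [mem_Z, mem_Z2, and_assoc]) fun r => ⟨fun hr =>
      ⟨xz r 0 hr (by simp), xz_mem_Z2 .., rfl⟩, by rintro ⟨x, -, rfl⟩; exact x.hs⟩, card_kf', card_Z]
  ring

theorem card_Z3 : Nat.card (Z3 K) = Tf.q K ^ 5 := by
  rw [card_step (A := Z3 K) (B := Z2 K) P.w ⊤ (fun x hx y hy => by simp [hx.2.1])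
    (fun x => by simp [mem_Z3, mem_Z2, and_assoc]) fun r => ⟨fun _ =>
      ⟨xr 0 0 r, xr_mem_Z3 _, rfl⟩, fun _ => trivial⟩, card_Z2, AddSubgroup.card_top, card_K]
  ring

theorem card_Z4 : Nat.card (Z4 K) = Tf.q K ^ 8 := by
  rw [card_step (A := Z4 K) (B := Z3 K) P.v ⊤ (fun x hx y hy => by simp [hx.2])
    (fun x => by simp [mem_Z3, mem_Z4, and_assoc]) fun r => ⟨fun _ =>
      ⟨xr 0 r 0, xr_mem_Z4 .., rfl⟩, fun _ => trivial⟩, card_Z3, AddSubgroup.card_top, card_K]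
  ring

theorem card_Q : Nat.card (Q K) = Tf.q K ^ 9 := by
  rw [card_step (A := Q K) (B := Z4 K) P.t (kf K).toAddSubgroup (fun x _ y _ => rfl)
    (fun x => by simp [mem_Q, mem_Z4, and_comm]) fun r => ⟨fun hr =>
      ⟨xt r hr, xt_mem_Q .., rfl⟩, by rintro ⟨x, -, rfl⟩; exact x.ht⟩, card_kf', card_Z4]
  ring

theorem card_R : Nat.card (R K) = Tf.q K ^ 11 := by
  rw [card_step (A := R K) (B := Z4 K) P.u ⊤ (fun x _ y _ => rfl)
    (fun x => by simp [mem_R, mem_Z4]) fun r => ⟨fun _ =>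
      ⟨xr r 0 0, xr_mem_R .., rfl⟩, fun _ => trivial⟩, card_Z4, AddSubgroup.card_top, card_K]
  ring

theorem card_top : Nat.card (⊤ : Subgroup (P K)) = Tf.q K ^ 12 := by
  rw [card_step (A := ⊤) (B := Q K) P.u ⊤ (fun x _ y _ => rfl)
    (fun x => by simp [mem_Q]) fun r => ⟨fun _ => ⟨xr r 0 0, trivial, rfl⟩, fun _ => trivial⟩,
    card_Q, AddSubgroup.card_top, card_K]
  ring

theorem card_P : Nat.card (P K) = Tf.q K ^ 12 := by rw [← card_top, Subgroup.card_top]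

theorem pg (p : ℕ) [Fact p.Prime] [CharP K p] : IsPGroup p (P K) := by
  obtain ⟨n, -, hn⟩ := exists_q_pow K p
  exact IsPGroup.of_card (n := n * 12) (by rw [card_P, hn, pow_mul])

theorem pg_top (p : ℕ) [Fact p.Prime] [CharP K p] : IsPGroup p (⊤ : Subgroup (P K)) :=
  (pg K p).to_subgroup _

end Card

end Cfsg.Agent.D4
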