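import Cfsg.Agent.Lib.D4.Final
import Cfsg.Agent.Lib.U5.Cmp1

/-!
The automizers of `Q` and `R` are determined by `Aut_F(S)`.
-/

set_option autoImplicit false

namespace Cfsg.Agent.D4

open Cfsg.Agent.Fus Cfsg.Agent.Fus2 Subgroup

namespace Cm

/-- Two lifts of the same Weyl element differ by an inner automorphism. -/
theorem cmp_gen {G : Type*} [Group G] [Finite G] {p : ℕ} [hp : Fact p.Prime] (hG : IsPGroup p G)
    {Γ H : Subgroup (MulAut G)} {C : Subgroup G} (hcop : ¬ p ∣ Nat.card H) (hI : Inn G ≤ Γ)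
    (hIC : ∀ g x : G, x⁻¹ * (g * x * g⁻¹) ∈ C) (hN : ∀ α ∈ Γ, TrivOn α ⊤ C → α ∈ Inn G)
    (hC : ∀ h ∈ H, ∀ x ∈ C, h x ∈ C) (hH : H ≤ Γ)
    (hfix : ∀ n, TrivOn n ⊤ C → (∀ h ∈ H, h * n = n * h) → n ∈ Inn G) {w w' : MulAut G}
    (hw' : w' ∈ Γ) (hn : TrivOn (w'⁻¹ * w) ⊤ C) (hw : ∀ h ∈ H, w * h * w⁻¹ ∈ Γ) : w ∈ Γ := by
  haveI : Finite (MulAut G) := Finite.of_injective (fun α : MulAut G => (α : G → G))
    DFunLike.coe_injective
  have hIp : IsPGroup p (Inn G) := hG.of_surjective _ (MonoidHom.rangeRestrict_surjective _)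
  haveI := hIp.isNilpotent
  haveI := innNormal G
  obtain ⟨k, hk⟩ := IsPGroup.iff_card.1 hIp
  obtain ⟨i, hi, hc⟩ := Solv.exists_mul_mem_centralizer (A := H) (N := Inn G)
    le_normalizer_of_normal (hk ▸ (((Nat.Prime.coprime_iff_not_dvd hp.out).2 hcop).symm.pow_right k))
    (.inr inferInstance) (w'⁻¹ * w) fun h hh => hN _ (by
      have := mul_mem (hH hh) (mul_mem (mul_mem (inv_mem hw') (hw _ (inv_mem hh))) hw')
      rwa [show h * (w'⁻¹ * (w * h⁻¹ * w⁻¹) * w') = h * (w'⁻¹ * w) * h⁻¹ * (w'⁻¹ * w)⁻¹ by group]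
        at this) ((hn.conj (fun _ _ => trivial) (hC h hh)).mul le_top (hn.inv le_top))
  have hiC : TrivOn i ⊤ C := by
    obtain ⟨g, rfl⟩ := hi
    exact fun x _ => hIC g x
  have := hfix _ (hiC.mul le_top hn) fun h hh => hc h hh
  rw [show w = w' * i⁻¹ * (i * (w'⁻¹ * w)) by group]
  exact mul_mem (mul_mem hw' (inv_mem (hI hi))) (hI this)

variable {K : Type} [Field K] [Fintype K] [Tf K]

variable (K) in
theorem exists_nm_one : ∃ l : Kˣ, nm (l : K) = 1 ∧ (l : K) ≠ 1 ∧ sh (l : K) ≠ 1 := by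
  obtain ⟨x, hx⟩ := exists_th_ne K
  have h0 : x ≠ 0 := by rintro rfl; simp at hx
  have h₁ : nm (th x / x) = 1 := by
    rw [div_eq_mul_inv, nm_mul, nm_inv, nm_th, mul_inv_cancel₀ (nm_ne_zero h0)]
  have h₂ : th x / x ≠ 1 := fun h => hx ((div_eq_one_iff_eq h0).1 h)
  exact ⟨Units.mk0 _ (div_ne_zero (th_ne_zero h0) h0), h₁, h₂, fun h => h₂ (by
    have := mul_sh (th x / x)
    rwa [show sh (th x / x) = 1 from h, h₁, mul_one] at this)⟩

/-- An additive map with the equivariance of `x ↦ x^#` vanishes. -/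
theorem van_sh (g : K → K) (hadd : ∀ x y, g (x + y) = g x + g y)
    (h : ∀ (l : Kˣ) x, g (l * x) = sh (l : K) * g x) (x : K) : g x = 0 := by
  have h0 : g 0 = 0 := by simpa using hadd 0 0
  have e : ∀ y, g y = sh y * g 1 := fun y => by
    by_cases hy : y = 0
    · simp [hy, h0]
    · simpa using h (Units.mk0 y hy) 1
  have h1 : g 1 = 0 := by
    by_contra h1
    refine one_ne_zero (eq_zero_of_cr_all (v := (1 : K)) fun u => mul_right_cancel₀ h1 ?_)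
    have := hadd u 1
    rw [e (u + 1), e u, sh_add, sh_one] at this
    linear_combination this
  rw [e, h1, mul_zero]

/-- An additive map on the fixed field with linear equivariance is linear. -/
theorem lin_k (g : K → K) (h0 : g 0 = 0)
    (h : ∀ (l : Kˣ) x, th x = x → g (nm (l : K) * x) = nm (l : K) * g x) {x : K} (hx : th x = x) :
    g x = x * g 1 := by
  obtain ⟨l, rfl⟩ := exists_nm hx
  by_cases hl : l = 0
  · simp [hl, h0]
  · simpa using h (Units.mk0 l hl) 1 (map_one _)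

/-- Automorphisms of `Q` trivial on `Q / Z` and commuting with the torus are inner. -/
theorem fixQ {n : P K → P K} (hm : ∀ x ∈ Q K, ∀ y ∈ Q K, n (x * y) = n x * n y)
    (hZ : ∀ x ∈ Q K, x⁻¹ * n x ∈ Z K)
    (hc : ∀ l m, ∀ x ∈ Q K, dg l m (RingEquiv.refl K) (n x) = n (dg l m (RingEquiv.refl K) x)) :
    ∃ g ∈ Q K, ∀ x ∈ Q K, n x = g * x * g⁻¹ := by
  classical
  obtain ⟨ζ, e, hZ⟩ : ∃ ζ : P K → P K, (∀ x, n x = x * ζ x) ∧ ∀ x ∈ Q K, ζ x ∈ Z K :=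
    ⟨fun x => x⁻¹ * n x, by simp, hZ⟩
  have hζ : ∀ x ∈ Q K, ∀ y ∈ Q K, (ζ (x * y)).z = (ζ x).z + (ζ y).z := fun x hx y hy => by
    have : ζ (x * y) = ζ x * ζ y := by
      rw [← mul_right_inj (x * y), ← e, hm x hx y hy, e x, e y, mul_assoc, ← mul_assoc (ζ x),
        comm_Z (hZ x hx) y]
      simp only [mul_assoc]
    obtain ⟨-, h₁, -, h₂, h₃⟩ := hZ x hx
    simp [this, h₁, h₂, h₃]
  have hq : ∀ l m, ∀ x ∈ Q K, (ζ (dg l m (RingEquiv.refl K) x)).z =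
      nm (l : K) * (m : Kˣ) ^ 2 * (ζ x).z := fun l m x hx => by
    have := hc l m x hx
    rw [e, e, map_mul, mul_right_inj] at this
    rw [← this]; rfl
  have h1 : (ζ 1).z = 0 := by simpa using hζ 1 (one_mem _) 1 (one_mem _)
  have hi : ∀ x ∈ Q K, (ζ x⁻¹).z = -(ζ x).z := fun x hx => by
    have := hζ _ (inv_mem hx) x hx
    rw [inv_mul_cancel, h1] at this
    linear_combination -this
  have hZ1 : ∀ z ∈ Z K, (ζ z).z = 0 := fun z hz => by
    obtain ⟨g, hg, y, hy, rfl⟩ := exists_icj_Z hz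
    replace hg := Z4_le_Q hg
    replace hy := Z3_le_Q hy
    rw [hζ _ (inv_mem hy) _ (mul_mem (mul_mem hg hy) (inv_mem hg)),
      hζ _ (mul_mem hg hy) _ (inv_mem hg), hζ _ hg _ hy, hi _ hy, hi _ hg]
    ring
  obtain ⟨l₀, hl, hl₁, hl₂⟩ := exists_nm_one K
  have hv := U5.van_of_fix (fun v => (ζ (xr 0 v 0)).z) (fun x y => by
    rw [← hζ _ rfl _ rfl]; congr 2; ext <;> simp) (β := l₀) (χ := 1) (fun x => by
    have := hq l₀ 1 (xr 0 x 0) rfl
    rw [show dg l₀ 1 (RingEquiv.refl K) (xr 0 x 0) = xr 0 (l₀ * x) 0 by ext <;> simp] at this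
    simpa [hl] using this) (.inl ⟨hl₁, rfl⟩)
  have hw := U5.van_of_fix (fun w => (ζ (xr 0 0 w)).z) (fun x y => by
    rw [← hζ _ rfl _ rfl]; congr 2; ext <;> simp) (β := sh (l₀ : K)) (χ := 1) (fun x => by
    have := hq l₀ 1 (xr 0 0 x) rfl
    rw [show dg l₀ 1 (RingEquiv.refl K) (xr 0 0 x) = xr 0 0 (sh (l₀ : K) * x) by ext <;> simp]
      at this
    simpa [hl] using this) (.inl ⟨hl₂, rfl⟩)
  have hs : ∀ s hs, (ζ (xz s 0 hs (map_zero _))).z =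
      s * (ζ (xz 1 0 (map_one _) (map_zero _))).z := fun s hs => by
    have := lin_k (fun s => if h : th s = s then (ζ (xz s 0 h (map_zero _))).z else 0)
      (by rw [dif_pos (map_zero _)]; exact h1) (fun l x hx => by
        have := hq l 1 (xz x 0 hx (map_zero _)) rfl
        rw [show dg l 1 (RingEquiv.refl K) (xz x 0 hx (map_zero _)) =
          xz (nm (l : K) * x) 0 (by simp [hx]) (map_zero _) by ext <;> simp] at this
        simpa [hx] using this) hs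
    simpa [hs] using this
  have ht : ∀ t ht, (ζ (xt t ht)).z = t * (ζ (xt 1 (map_one _))).z := fun t ht => by
    have := lin_k (fun t => if h : th t = t then (ζ (xt t h)).z else 0)
      (by rw [dif_pos (map_zero _)]; exact h1) (fun l x hx => by
        have hl := nm_ne_zero l.ne_zero
        have := hq l⁻¹ ⟨Units.mk0 _ hl, th_nm _⟩ (xt x hx) rfl
        rw [show dg l⁻¹ ⟨Units.mk0 _ hl, th_nm _⟩ (RingEquiv.refl K) (xt x hx) =
          xt (nm (l : K) * x) (by simp [hx]) by ext <;> simp] at this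
        simp only [hx, map_mul, th_nm, dif_pos, this, Units.val_inv_eq_inv_val, nm_inv,
          Units.val_mk0]
        field_simp) ht
    simpa [ht] using this
  refine ⟨xt (ζ (xz 1 0 (map_one _) (map_zero _))).z (P.hz _) *
    xz (-(ζ (xt 1 (map_one _))).z) 0 (by simp) (map_zero _), by simp [mem_Q], fun x hx => ?_⟩
  generalize hg : (xt _ _ * xz _ _ _ _ : P K) = g
  have hgQ : g ∈ Q K := by simp [← hg, mem_Q]
  rw [e, eq_comm, ← inv_mul_eq_iff_eq_mul]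
  refine eq_of_z (icj_Q_mem hgQ hx) (hZ x hx) ?_
  have hx' : x = xt x.t x.ht * xr 0 x.v 0 * xr 0 0 x.w * xz x.s 0 x.hs (map_zero _) *
      xz 0 (x.z) (map_zero _) x.hz := by
    ext <;> simp [mem_Q.1 hx]
  have : (ζ x).z = x.t * (ζ (xt 1 (map_one _))).z +
      x.s * (ζ (xz 1 0 (map_one _) (map_zero _))).z := by
    conv_lhs => rw [hx']
    rw [hζ _ (by simp [mem_Q]) _ rfl, hζ _ (by simp [mem_Q]) _ rfl, hζ _ (by simp [mem_Q]) _ rfl,
      hζ _ rfl _ rfl, hZ1 _ (xz_mem_Z ..), hs, ht]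
    simp [hv, hw]
  rw [icj_Q_z hgQ hx, this]
  simp [← hg]
  ring

/-- Automorphisms of `R` trivial on `R / Z₃` and commuting with the torus are trivial. -/
theorem fixR {n : P K → P K} (hm : ∀ x ∈ R K, ∀ y ∈ R K, n (x * y) = n x * n y)
    (hZ : ∀ x ∈ R K, x⁻¹ * n x ∈ Z3 K)
    (hc : ∀ l m, ∀ x ∈ R K, dg l m (RingEquiv.refl K) (n x) = n (dg l m (RingEquiv.refl K) x))
    {x : P K} (hx : x ∈ R K) : n x = x := by
  have h1 : n 1 = 1 := by simpa using hm 1 (one_mem _) 1 (one_mem _)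
  let Φ : Subgroup (P K) :=
    { carrier := {y | y ∈ R K ∧ n y = y}
      one_mem' := ⟨one_mem _, h1⟩
      mul_mem' := fun {a b} ha hb => ⟨mul_mem ha.1 hb.1, by rw [hm a ha.1 b hb.1, ha.2, hb.2]⟩
      inv_mem' := fun {a} ha => ⟨inv_mem ha.1, eq_inv_of_mul_eq_one_left (by
        rw [← ha.2, ← hm _ (by rw [ha.2]; exact inv_mem ha.1) _ ha.1, ha.2, inv_mul_cancel, h1])⟩ }
  obtain ⟨l₀, hl, hl₁, -⟩ := exists_nm_one K
  have key : ∀ r : K → P K, (∀ a, r a ∈ R K) → (∀ a b, r (a + b) = r a * r b) →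
      (∀ (l : Kˣ) a, dg l 1 (RingEquiv.refl K) (r a) = r (l * a)) →
      (∀ a, (r a).w = 0 ∧ (r a).s = 0 ∧ (r a).z = 0) →
      (∀ a b, cr (r a).u (r b).v = 0 ∧ tr (sh (r a).u * (r b).v) = 0 ∧
        tr ((r a).u * sh (r b).v) = 0) → ∀ a, r a ∈ Φ := fun r hr ha hd h0 h₀ => by
    have ht : ∀ a, (n (r a)).t = 0 := fun a => by
      have := (hZ _ (hr a)).1
      simpa [mem_R.1 (hr a)] using this
    have hu : ∀ a, (n (r a)).u = (r a).u := fun a => by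
      have := (hZ _ (hr a)).2.1
      simp at this
      linear_combination this
    have hv : ∀ a, (n (r a)).v = (r a).v := fun a => by
      have := (hZ _ (hr a)).2.2
      simp [ht, mem_R.1 (hr a)] at this
      linear_combination this
    have hq : ∀ (l : Kˣ) a, n (r (l * a)) = dg l 1 (RingEquiv.refl K) (n (r a)) := fun l a => by
      rw [← hd, hc _ _ _ (hr a)]
    have hw := van_sh (fun a => (n (r a)).w) (fun a b => by
      simp [ha, hm _ (hr a) _ (hr b), ht, hu, hv, (h₀ a b).1]) fun l a => by simp [hq]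
    have hs := U5.van_of_fix (fun a => (n (r a)).s) (fun a b => by
      simp [ha, hm _ (hr a) _ (hr b), ht, hu, hv, hw, (h₀ a b).2.1]) (β := l₀) (χ := 1)
      (fun a => by simp [hq, hl]) (.inl ⟨hl₁, rfl⟩)
    have hz := U5.van_of_fix (fun a => (n (r a)).z) (fun a b => by
      simp [ha, hm _ (hr a) _ (hr b), ht, hu, hv, hw, (h₀ a b).2.2]) (β := l₀) (χ := 1)
      (fun a => by simp [hq, hl]) (.inl ⟨hl₁, rfl⟩)
    exact fun a => ⟨hr a, P.ext ((ht a).trans (hr a).symm) (hu a) (hv a)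
      ((hw a).trans (h0 a).1.symm) ((hs a).trans (h0 a).2.1.symm) ((hz a).trans (h0 a).2.2.symm)⟩
  have hu : ∀ a, xr a 0 0 ∈ Φ := key (fun a => xr a 0 0) (fun _ => rfl)
    (fun a b => by ext <;> simp) (fun l a => by ext <;> simp) (by simp) (by simp)
  have hv : ∀ a, xr 0 a 0 ∈ Φ := key (fun a => xr 0 a 0) (fun _ => rfl)
    (fun a b => by ext <;> simp) (fun l a => by ext <;> simp) (by simp) (by simp)
  have hcm : ∀ g ∈ Φ, ∀ y ∈ Φ, y⁻¹ * (g * y * g⁻¹) ∈ Φ := fun g hg y hy =>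
    mul_mem (inv_mem hy) (mul_mem (mul_mem hg hy) (inv_mem hg))
  have hw : ∀ w, ∃ c ∈ Φ, c ∈ Z3 K ∧ c.w = w := fun w => by
    obtain ⟨y, hy, hy'⟩ := exists_perp w
    obtain ⟨v, hv'⟩ := exists_cr_of_perp hy (by rwa [mul_comm])
    exact ⟨_, hcm _ (hu y) _ (hv v), icj_R_mem rfl rfl, by rw [icj_R rfl rfl]; simp [hv']⟩
  obtain ⟨c, hc₁, hc₂, hc₃⟩ := hw 1
  have h₂ : Z2 K ≤ Φ := fun y hy => by
    obtain ⟨a, ha⟩ := exists_tr y.hs
    obtain ⟨b, hb⟩ := exists_tr y.hz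
    have e₁ := icj_Z3 (xr a 0 0) hc₂
    have e₂ := icj_Z3 (xr 0 (-b) 0) hc₂
    have m₁ := icj_mem_Z2 (xr a 0 0) hc₂
    have m₂ := icj_mem_Z2 (xr 0 (-b) 0) hc₂
    have := mul_mem (hcm _ (hu a) _ hc₁) (hcm _ (hv (-b)) _ hc₁)
    generalize c⁻¹ * (xr a 0 0 * c * (xr a 0 0)⁻¹) = d₁ at e₁ m₁ this
    generalize c⁻¹ * (xr 0 (-b) 0 * c * (xr 0 (-b) 0)⁻¹) = d₂ at e₂ m₂ this
    rwa [eq_of_sz hy (mul_mem m₁ m₂) (by simp [e₁, e₂, m₁.2.1, hc₃, ha])
      (by simp [e₁, e₂, m₁.2.1, m₁.2.2.2, m₂.1, hc₃, tr_neg, hb])]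
  have h₃ : Z3 K ≤ Φ := fun y hy => by
    obtain ⟨d, hd₁, hd₂, hd₃⟩ := hw y.w
    have := mul_mem hd₁ (h₂ (x := d⁻¹ * y)
      (by simp [mem_Z2, hd₂.1, hd₂.2.1, hd₂.2.2, hy.1, hy.2.1, hy.2.2, hd₃]))
    rwa [mul_inv_cancel_left] at this
  have := mul_mem (mul_mem (hu x.u) (hv x.v)) (h₃ (x := (xr x.u 0 0 * xr 0 x.v 0)⁻¹ * x)
    (by simp [mem_Z3, mem_R.1 hx]))
  rw [mul_inv_cancel_left] at this
  exact this.2

/-- The diagonal automorphisms. -/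
def dgHom : Kˣ × ku K →* MulAut (P K) := MonoidHom.mk' (fun x => dg x.1 x.2 (RingEquiv.refl K))
  fun x y => by rw [Fn.dg_mul]; rfl

/-- Restriction of the diagonal automorphisms to `A`. -/
def res (A : Subgroup (P K)) (h : ∀ x, ∀ y ∈ A, dgHom x y ∈ A) : Kˣ × ku K →* MulAut A :=
  MonoidHom.mk' (fun x =>
    { toFun := fun y => ⟨dgHom x y, h x y y.2⟩
      invFun := fun y => ⟨dgHom x⁻¹ y, h _ y y.2⟩
      left_inv := fun y => Subtype.ext (by simp)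
      right_inv := fun y => Subtype.ext (by simp)
      map_mul' := fun y z => Subtype.ext (by simp) })
    fun x y => MulEquiv.ext fun z => Subtype.ext (by simp)

theorem afn_res {A : Subgroup (P K)} (h : ∀ x, ∀ y ∈ A, dgHom x y ∈ A) (x : Kˣ × ku K) {y : P K}
    (hy : y ∈ A) : afn (res A h x) y = dgHom x y := by rw [afn_apply _ hy]; rfl

variable {p : ℕ} [hp : Fact p.Prime] [CharP K p] {F F' : FusionSystem (⊤ : Subgroup (P K))}

theorem not_dvd_tor {G : Type*} [Group G] (φ : Kˣ × ku K →* G) :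
    ¬ p ∣ Nat.card φ.range := fun h => by
  have h₁ := h.trans (card_range_dvd φ)
  rw [Nat.card_prod, hp.out.dvd_mul] at h₁
  replace h₁ : p ∣ Nat.card Kˣ := h₁.elim id fun h => h.trans (card_subgroup_dvd_card _)
  rw [Nat.card_units] at h₁
  obtain ⟨n, -, hn⟩ := FiniteField.card K p
  have h₂ : p ∣ Nat.card K := by
    rw [Nat.card_eq_fintype_card, hn]; exact dvd_pow_self p n.ne_zero
  exact hp.out.one_lt.ne' (Nat.dvd_one.1 (by
    have := Nat.dvd_sub h₂ h₁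
    rwa [Nat.sub_sub_self (Nat.card_pos (α := K))] at this))

/-- The comparison for one of the two subgroups. -/
theorem cmp_side (p : ℕ) [Fact p.Prime] [CharP K p] {A U C : Subgroup (P K)} (hU : U ≤ A)
    (hQ : ∀ x, ∀ y ∈ A, dgHom x y ∈ A) (hC : ∀ x, ∀ y ∈ C, dgHom x y ∈ C)
    (hIC : ∀ g ∈ A, ∀ x ∈ A, x⁻¹ * (g * x * g⁻¹) ∈ C) (hCU : C ≤ U)
    (hM : ∀ f, M F ⊤ f ↔ M F' ⊤ f) (hD : ∀ d, M F ⊤ (dgHom d))
    (hE : ∀ f, Au F A f → (∀ x ∈ U, f x ∈ U) → ∃ g, M F ⊤ g ∧ ∀ x ∈ A, g x = f x)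
    (hE' : ∀ f, Au F' A f → (∀ x ∈ U, f x ∈ U) → ∃ g, M F' ⊤ g ∧ ∀ x ∈ A, g x = f x)
    (hN : ∀ f, M F ⊤ f → (∀ x ∈ A, x⁻¹ * f x ∈ C) → ∃ g ∈ A, ∀ x ∈ A, f x = g * x * g⁻¹)
    (hfix : ∀ n : P K → P K, (∀ x ∈ A, ∀ y ∈ A, n (x * y) = n x * n y) → (∀ x ∈ A, x⁻¹ * n x ∈ C) →
      (∀ d, ∀ x ∈ A, dgHom d (n x) = n (dgHom d x)) → ∃ g ∈ A, ∀ x ∈ A, n x = g * x * g⁻¹)
    {w w' : P K → P K} (hw : Au F A w) (hw' : Au F' A w')
    (hww : ∀ x ∈ A, ∀ y ∈ A, w' y = w x → x⁻¹ * y ∈ C)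
    (hwU : ∀ d, ∀ y ∈ A, w y ∈ U → w (dgHom d y) ∈ U)
    (hB : ∀ f, Au F A f → (∀ x ∈ U, f x ∈ U) ∨ ∃ s, ∀ x ∈ U, w (s * f x * s⁻¹) ∈ U) [A.Normal]
    {f : P K → P K} (hf : Au F A f) : M F' A f := by
  have key : ∀ f, Au F A f → (∀ x ∈ U, f x ∈ U) → M F' A f := fun f hf h => by
    obtain ⟨g, hg, e⟩ := hE f hf h
    exact (((hM g).1 hg).mono le_top).congr e
  obtain ⟨α, hα, eα⟩ := hw.1.exists_aut' hw.2
  obtain ⟨α', hα', eα'⟩ := hw'.1.exists_aut' hw'.2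
  have hαF : α ∈ F'.autGroup A := by
    refine cmp_gen (p := p) ((pg K p).to_subgroup A) (C := C.subgroupOf A)
      (H := (res A hQ).range) (not_dvd_tor _) (Inn_le_autGroup le_top)
      (fun g x => hIC g g.2 x x.2) (fun β hβ h => ?_) ?_ ?_ (fun n hn h => ?_) hα'
      (fun x _ => ?_) ?_
    · have h' : ∀ x ∈ A, x⁻¹ * afn β x ∈ C := fun x hx => by
        rw [afn_apply _ hx]; exact h ⟨x, hx⟩ trivial
      obtain ⟨g, hg, e⟩ := hE' _ (au_afn hβ) fun x hx => by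
        simpa using mul_mem hx (hCU (h' x (hU hx)))
      obtain ⟨s, hs, e'⟩ := hN g ((hM g).2 hg) fun x hx => by rw [e x hx]; exact h' x hx
      exact Fus2.mem_Inn_iff.2 ⟨s, hs, fun x hx => by rw [← e x hx, e' x hx]⟩
    · rintro _ ⟨d, rfl⟩ x hx
      exact hC d x hx
    · rintro _ ⟨d, rfl⟩
      exact (((hM _).1 (hD d)).mono le_top).mem_autGroup fun x hx => afn_res hQ d hx
    · refine Fus2.mem_Inn_iff.2 (hfix _ (homOn_afn n) (fun x hx => by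
        rw [afn_apply _ hx]; exact hn ⟨x, hx⟩ trivial) (fun d x hx => ?_))
      rw [← afn_res hQ d hx, ← afn_res hQ d (afn_mem n hx), ← afn_mul, ← afn_mul, h _ ⟨d, rfl⟩]
    · refine hww x x.2 _ ((α'⁻¹ * α) x).2 ?_
      rw [← eα' _ ((α'⁻¹ * α) x).2, ← eα x x.2, afn_coe, afn_coe]
      simp
    · rintro _ ⟨d, rfl⟩
      have hd' : res A hQ d ∈ F.autGroup A :=
        ((hD d).mono le_top).mem_autGroup fun x hx => afn_res hQ d hx
      refine (key _ (au_afn (mul_mem (mul_mem hα hd') (inv_mem hα))) fun x hx => ?_).mem_autGroup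
        fun _ _ => rfl
      have hy := afn_mem α⁻¹ (hU hx)
      rw [afn_mul, afn_mul, afn_res hQ d hy, eα _ (hQ d _ hy)]
      exact hwU d _ hy (by rwa [← eα _ hy, afn_afn_inv])
  rcases hB f hf with h | ⟨s, h⟩
  · exact key f hf h
  have hs : ∀ s : P K, ∀ x ∈ A, s * x * s⁻¹ ∈ A := fun s x hx => ‹A.Normal›.conj_mem x hx s
  have h₁ := key (fun x => w (s * f x * s⁻¹)) ⟨(hf.1.comp (M_conj F le_top (mem_top s)) hf.2).comp
    hw.1 fun x hx => hs s _ (hf.2 x hx), fun x hx => hw.2 _ (hs s _ (hf.2 x hx))⟩ h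
  refine ((h₁.comp (M_afn le_top (inv_mem hαF)) fun x hx => hw.2 _ (hs s _ (hf.2 x hx))).comp
    (M_conj F' le_top (mem_top s⁻¹)) fun x hx => afn_mem _ (hw.2 _ (hs s _ (hf.2 x hx)))).congr
    fun x hx => ?_
  rw [← eα _ (hs s _ (hf.2 x hx)), afn_inv_afn]
  group

end Cm

open Cm in
theorem cmp (h₁ : L1Stmt) (h₂ : L2Stmt) (hE : ExtStmt) : CmpStmt := by
  intro K _ _ _ p _ _ F F' hF hF' hN hM m₁ m₂ m₁' m₂'
  have hN' : NF F' := fun f hf => hN f ((hM f).2 hf)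
  obtain ⟨hh', w₂, a₂, e₂, b₂⟩ := h₂ hF hN m₂
  obtain ⟨hh'', w₂', a₂', e₂', -⟩ := h₂ hF' hN' m₂'
  obtain ⟨hη, w₁, a₁, e₁, b₁⟩ := h₁ hF hN m₁ hh'
  obtain ⟨-, w₁', a₁', e₁', -⟩ := h₁ hF' hN' m₁' hh''
  refine ⟨fun f hf => cmp_side p (U := Z2 K) (C := Z K) Z2_le_Q
      (fun d y hy => by simp [mem_Q, dgHom, mem_Q.1 hy])
      (fun d y hy => by simp [mem_Z, dgHom, hy.1, hy.2.1, hy.2.2.1, hy.2.2.2.1, hy.2.2.2.2])
      (fun g hg x hx => icj_Q_mem hg hx) Z_le_Z2 hM (fun d => hη d.1 d.2) (hE hF).1 (hE hF').1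
      (fun f hf h => ?_) (fun n hm hn h => fixQ hm hn fun l m => h (l, m)) a₁ a₁'
      (fun x hx y hy e => ?_) (fun d y hy h => ?_) b₁ hf,
    fun f hf => cmp_side p (U := Z4 K) (C := Z3 K) Z4_le_R
      (fun d y hy => by simp [mem_R, dgHom, mem_R.1 hy])
      (fun d y hy => by simp [mem_Z3, dgHom, hy.1, hy.2.1, hy.2.2])
      (fun g hg x hx => icj_R_mem hg hx) Z3_le_Z4 hM (fun d => hη d.1 d.2) (hE hF).2 (hE hF').2
      (fun f hf h => ?_) (fun n hm hn h => ⟨1, one_mem _, fun x hx => by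
        simpa using fixR hm hn (fun l m => h (l, m)) hx⟩)
      a₂ a₂' (fun x hx y hy e => ?_) (fun d y hy h => ?_) b₂ hf⟩
  · obtain ⟨g, l, m, σ, e⟩ := hN f hf
    have hm : ((m : Kˣ) : K) = 1 := by
      have := (h (xt 1 (map_one _)) rfl).1
      simp [e] at this
      linear_combination this
    have ha : ∀ a, l * σ a = a := fun a => by
      have := (h (xr 0 a 0) rfl).2.2.1
      simp [e, hm] at this
      linear_combination this
    rw [Fn.dg_eq_one ha hm] at e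
    have := (h (xt 1 (map_one _)) rfl).2.2.1
    rw [e, MulAut.one_apply, icj_v] at this
    exact ⟨g, by simpa [mem_Q] using this, fun x _ => e x⟩
  · obtain ⟨h₁, h₂, h₃, h₄⟩ := e₁ x hx
    obtain ⟨h₁', h₂', h₃', h₄'⟩ := e₁' y hy
    rw [e] at h₁' h₂' h₃' h₄'
    simp [mem_Z, mem_Q.1 hx, mem_Q.1 hy, neg_inj.1 (h₁'.symm.trans h₁), h₂'.symm.trans h₂,
      neg_inj.1 (h₃'.symm.trans h₃), h₄'.symm.trans h₄]
  · have hy' : dgHom d y ∈ Q K := by simp [mem_Q, dgHom, mem_Q.1 hy]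
    obtain ⟨h₁, h₂, h₃, -⟩ := e₁ y hy
    obtain ⟨h₁', h₂', h₃', -⟩ := e₁ _ hy'
    refine ⟨?_, a₁.2 _ hy', ?_, ?_⟩
    · rw [h₁']; simp [dgHom, neg_eq_zero.1 (h₁.symm.trans h.1)]
    · rw [h₂']; simp [dgHom, ← h₂, h.2.2.1]
    · rw [h₃']; simp [dgHom, neg_eq_zero.1 (h₃.symm.trans h.2.2.2)]
  · obtain ⟨g, l, m, σ, e⟩ := hN f hf
    have ha : ∀ a, l * σ a = a := fun a => by
      have := (h (xr a 0 0) rfl).2.1
      simp [e] at this
      linear_combination this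
    have hl : (l : K) = 1 := by simpa using ha 1
    have hm : ((m : Kˣ) : K) = 1 := by
      have := (h (xr 0 1 0) rfl).2.2
      simp [e, hl] at this
      linear_combination this
    rw [Fn.dg_eq_one ha hm] at e
    have := (h (xr 1 0 0) rfl).2.2
    rw [e, MulAut.one_apply, icj_v] at this
    exact ⟨g, by simpa [mem_R] using this, fun x _ => e x⟩
  · obtain ⟨h₁, h₂⟩ := e₂ x hx
    obtain ⟨h₁', h₂'⟩ := e₂' y hy
    rw [e] at h₁' h₂'
    simp [mem_Z3, mem_R.1 hx, mem_R.1 hy, h₁'.symm.trans h₁, neg_inj.1 (h₂'.symm.trans h₂)]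
  · have hy' : dgHom d y ∈ R K := by simp [mem_R, dgHom, mem_R.1 hy]
    refine ⟨a₂.2 _ hy', ?_⟩
    rw [(e₂ _ hy').1]; simp [dgHom, (e₂ y hy).1.symm.trans h.2]

end Cfsg.Agent.D4
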