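import Cfsg.Agent.Lib.D4.CoreB

/-!
Row CORE of docs/D4_PLAN.md, part C: the Weyl elements.
-/

set_option autoImplicit false

namespace Cfsg.Agent.D4

namespace Co

open Cfsg.Agent.Fus Subgroup Equiv

variable {K : Type} [Field K] [Fintype K] [Tf K]

/-- The opposite root elements. -/
def yy (a : K) (x : V K) : V K :=
  ⟨x.t + tr (a * x.v) + tr (sh a * x.w) + x.s * nm a, x.v + cr a x.w + x.s * sh a, x.w + x.s * a,
    x.s, by simp, by simp⟩

theorem weyl_eq {a : K} (ha : a ≠ 0) (x : V K) :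
    (xx (-a⁻¹) (yy a (xx (-a⁻¹) x))).t = nm a * x.s ∧
      (xx (-a⁻¹) (yy a (xx (-a⁻¹) x))).v = -(sh a / a) * x.w ∧
      (xx (-a⁻¹) (yy a (xx (-a⁻¹) x))).w = a / sh a * x.v ∧
      (xx (-a⁻¹) (yy a (xx (-a⁻¹) x))).s = -x.t / nm a := by
  have h₁ := th_ne_zero ha
  have h₂ := th_ne_zero h₁
  simp only [yy, xx, tr, sh, nm, cr, map_add, map_mul, map_neg, map_inv₀, th3, V.ht, V.hs]
  refine ⟨?_, ?_, ?_, ?_⟩ <;> field_simp <;> ring

theorem ia (n : Perm (V K)) (x : V K) : n⁻¹ (n x) = x := n.symm_apply_apply x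

theorem ai (n : Perm (V K)) (x : V K) : n (n⁻¹ x) = x := n.apply_symm_apply x

theorem inF_fv (t : kf K) : InF (fv t) := ⟨rfl, rfl, rfl⟩

/-- `n` interchanges `ℓ` and `L₀`. -/
def Swap (n : Perm (V K)) : Prop := (∀ x, InL x → InF (n x)) ∧ ∀ x, InF x → InL (n x)

variable {p : ℕ} {A T : Subgroup (Perm (V K))} {α n : Perm (V K)}

theorem inF_inv (h : Hyp p A T) (hα : α ∈ A) (hF : ∀ x, InL x → InF (α x)) {y : V K} (hy : InF y) :
    InL (α⁻¹ y) := by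
  have h₁ := hF _ (inL_ev 1)
  have h₂ : (α (ev 1)).t ≠ 0 := fun e =>
    h.ne_zero hα ev_one_ne (V.ext e h₁.1 h₁.2.1 h₁.2.2)
  have : y = (⟨y.t / (α (ev 1)).t, by simp [mem_kf]⟩ : kf K) • α (ev 1) := by
    ext <;> simp [h₂, h₁.1, h₁.2.1, h₁.2.2, hy.1, hy.2.1, hy.2.2]
  rw [this]
  exact h.smul_L hα (inL_ev 1) _

theorem Swap.inv (h : Hyp p A T) (hn : n ∈ A) (hp : Pres n) (hs : Swap n) : Swap n⁻¹ := by
  refine ⟨fun x hx => ?_, fun _ => inF_inv h hn hs.1⟩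
  have h₁ := hs.2 _ (inF_fv 1)
  have h₂ := h₁.s_ne (h.ne_zero hn fun e => by simpa using congrArg V.t e)
  have : x = n ((⟨x.s / (n (fv 1)).s, by simp [mem_kf]⟩ : kf K) • fv 1) := by
    rw [hp.smul]
    ext <;> simp [h₂, h₁.1, h₁.2.1, h₁.2.2, hx.1, hx.2.1, hx.2.2]
  rw [this]
  simp [InF]

theorem Swap.mv_eq (h : Hyp p A T) (hn : n ∈ A) (hp : Pres n) (hs : Swap n) (v w : K) :
    n (mv v w) = mv (n (mv v w)).v (n (mv v w)).w := by
  have hi := hs.inv h hn hp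
  refine V.ext ?_ rfl rfl ?_
  · have := hp (n⁻¹ (ev 1)) (mv v w)
    obtain ⟨h₁, h₂, h₃⟩ := hi.1 _ (inL_ev 1)
    simpa [bf, h₁, h₂, h₃, ai, -Perm.coe_inv] using this
  · have := hp (n⁻¹ (fv 1)) (mv v w)
    obtain ⟨h₁, h₂, h₃⟩ := hi.2 _ (inF_fv 1)
    simpa [bf, h₁, h₂, h₃, ai, -Perm.coe_inv] using this

theorem dv_of_fix (h : Hy p A T) (hα : α ∈ A) (hs : StabL α) (hf : InF (α (fv 1))) :
    ∃ l m σ, ∀ x, α x = dv l m σ x := by
  obtain ⟨u, l, m, σ, e⟩ := h.nf α hα hs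
  have : u = 0 := by simpa [e] using hf.1
  exact ⟨l, m, σ, fun x => by rw [e, this, xx_zero]⟩

theorem Swap.dv_inv (h : Hy p A T) (hn : n ∈ A) (hp : Pres n) (hs : Swap n) {l : Kˣ} {m : ku K}
    {σ : K ≃+* K} (hd : DV A l m σ) (r : K) : ∃ r', n (mv 0 r') = dv l m σ (n (mv 0 r)) := by
  obtain ⟨δ, hδ, e⟩ := hd
  have hi := hs.inv h.toHyp hn hp
  obtain ⟨l', m', σ', e'⟩ := dv_of_fix h (mul_mem (mul_mem (inv_mem hn) hδ) hn)
    (fun x hx => hi.2 _ (by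
      obtain ⟨h₁, h₂, h₃⟩ := hs.1 x hx
      simp [InF, e, h₁, h₂, h₃]))
    (hi.1 _ (by
      obtain ⟨h₁, h₂, h₃⟩ := hs.2 _ (inF_fv 1)
      simp [InL, e, h₁, h₂, h₃]))
  refine ⟨sh (l' : K) * (m' : Kˣ) * σ' r, ?_⟩
  rw [← e, ← Perm.eq_inv_iff_eq, ← Perm.mul_apply, ← Perm.mul_apply, e']
  ext <;> simp

theorem mv_sub (v w v' w' : K) : mv v w - mv v' w' = mv (v - v') (w - w') := by ext <;> simp

variable [CharP K p] [Fact p.Prime]

theorem form' (h : Hy p A T) (hγ : ∃ γ ∈ A, ¬ StabL γ) {m : V K} (hm : Cn A m) (ht : m.t ≠ 0) :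
    m = xx (m.v / m.t) (fv ⟨m.t, m.ht⟩) := by
  obtain ⟨h₁, h₂, h₃⟩ := form h hγ hm ht
  rw [show fv ⟨m.t, m.ht⟩ = xx (-(m.v / m.t)) m from V.ext rfl h₁.symm h₂.symm h₃.symm, xx_xx]
  simp

theorem exists_swap (h : Hy p A T) (hγ : ∃ γ ∈ A, ¬ StabL γ) : ∃ n ∈ A, Pres n ∧ Swap n := by
  obtain ⟨γ, hγ, hs⟩ := hγ
  obtain ⟨u, hu⟩ := orb h hγ hs
  have hβ := mul_mem (h.xp_mem u) hγ
  replace hu : ∀ x, InL x → InF ((xp u * γ) x) := hu
  generalize xp u * γ = β at hβ hu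
  have ht := mul_mem (mul_mem (inv_mem (inv_mem hβ)) (h.xp_mem 1)) (inv_mem hβ)
  have hp := pres_conj h.toHyp (inv_mem hβ) (pres_xp 1)
  have hn : ¬ StabL (β⁻¹⁻¹ * xp 1 * β⁻¹) := fun hs => by
    obtain ⟨u', e⟩ := h.conj_mem (inv_mem hβ) hs
    have := h.ti (inv_mem hβ) (fun h0 => by simpa [h0] using congrArg V.v (e (β (fv 1)))) e
    simpa using (hu _ (this _ (inL_ev 1))).2.2
  generalize β⁻¹⁻¹ * xp 1 * β⁻¹ = t at ht hp hn
  obtain ⟨u₁, h₁⟩ := orb h ht hn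
  obtain ⟨u₂, h₂⟩ := orb h (inv_mem ht) fun hs => hn (h.stab_inv (inv_mem ht) hs)
  refine ⟨xp u₁ * t * xp (-u₂), mul_mem (mul_mem (h.xp_mem _) ht) (h.xp_mem _),
    ((pres_xp _).mul hp).mul (pres_xp _), fun x hx => by simpa [xx_L _ hx] using h₁ x hx,
    fun x hx => ?_⟩
  have : InL (t (xx (-u₂) x)) := inF_inv h.toHyp (mul_mem (h.xp_mem u₂) (inv_mem ht)) h₂ hx
  simpa [xx_L _ this] using this

theorem excl (h : Hy p A T) (h2 : (2 : K) = 0) (hq : Tf.q K = 2) (hn : n ∈ A) (hp : Pres n)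
    (hs : Swap n) (hw : ∀ r, (n (mv 0 r)).v = 0) : False := by
  have hL : ∀ x : V K, InL x → x ≠ 0 → x = ev 1 := fun x hx h0 =>
    V.ext hx.1 hx.2.1 hx.2.2 ((eq_of_q_two hq x.hs).resolve_left (hx.s_ne h0))
  have hF : ∀ x : V K, InF x → x ≠ 0 → x = fv 1 := fun x hx h0 =>
    V.ext ((eq_of_q_two hq x.ht).resolve_left fun e => h0 (V.ext e hx.1 hx.2.1 hx.2.2)) hx.1 hx.2.1
      hx.2.2
  have e₁ : n (ev 1) = fv 1 := hF _ (hs.1 _ (inL_ev 1)) (h.ne_zero hn ev_one_ne)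
  have e₂ : n (fv 1) = ev 1 := hL _ (hs.2 _ (inF_fv 1))
    (h.ne_zero hn fun e => by simpa using congrArg V.t e)
  have hγ : ∃ γ ∈ A, ¬ StabL γ := ⟨n, hn, fun h => by simpa [e₁] using (h _ (inL_ev 1)).1⟩
  have hc : Cn A (n (xx 1 (fv 1))) :=
    (((e₁ ▸ (cn_L A (inL_ev 1)).map hn : Cn A (fv 1))).map (h.xp_mem 1)).map hn
  have ht : (n (xx 1 (fv 1))).t ≠ 0 := fun e => by
    have := hL _ (hc.inL' h e) (h.ne_zero hn fun e => by simpa using congrArg V.t e)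
    simpa using congrArg V.v (n.injective (this.trans e₂.symm))
  obtain ⟨b, eb⟩ : ∃ b, n (xx 1 (fv 1)) = xx b (fv 1) := ⟨_, (form' h hγ hc ht).trans (by
    congr 2
    exact Subtype.ext ((eq_of_q_two hq (V.ht _)).resolve_left ht))⟩
  have hb : b ≠ 0 := fun e => by
    rw [e, xx_zero, ← e₁] at eb
    simpa [e₁] using congrArg V.t (n.injective eb)
  have sq : ∀ (a : K) x, xx a (xx a x) = x := fun a x => by
    rw [xx_xx, ← two_mul, h2, zero_mul, xx_zero]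
  have i₁ : n⁻¹ (fv 1) = ev 1 := Perm.inv_eq_iff_eq.2 e₁.symm
  have i₂ : n⁻¹ (ev 1) = fv 1 := Perm.inv_eq_iff_eq.2 e₂.symm
  have hg := mul_mem (mul_mem (mul_mem (mul_mem (mul_mem (inv_mem hn) (h.xp_mem b)) hn)
    (h.xp_mem 1)) (inv_mem hn)) (h.xp_mem b)
  obtain ⟨l, m, σ, e⟩ := dv_of_fix h hg (h.stab_of hg (inL_ev 1) ev_one_ne (by
    simp only [Perm.mul_apply, xp_apply, xx_L _ (inL_ev 1), i₂, eb, sq, i₁, inL_ev])) (by
    simp only [Perm.mul_apply, xp_apply, ← eb, ia, sq, e₂, xx_L _ (inL_ev 1), i₂,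
      inF_fv])
  obtain ⟨r, hr⟩ := exists_tr (c := (1 : K)) (map_one _)
  have ex := hs.mv_eq h.toHyp hn hp 0 r
  rw [hw] at ex
  generalize (n (mv 0 r)).w = w at ex
  have e₃ : xx b (mv 0 w) = n (mv 0 r + (⟨tr (b * w), th_tr _⟩ : kf K) • fv 1) := by
    rw [h.add n hn, hp.smul, ex, e₂]
    ext <;> simp
  have e₄ : xx 1 (mv 0 r + (⟨tr (b * w), th_tr _⟩ : kf K) • fv 1) =
      mv 0 r + ev 1 + (⟨tr (b * w), th_tr _⟩ : kf K) • xx 1 (fv 1) := by ext <;> simp [hr]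
  have := e (mv 0 w)
  simp only [Perm.mul_apply, xp_apply, e₃, ia, e₄, Perm.inv_eq_iff_eq] at this
  simp only [h.add n hn, hp.smul, ex, e₁, eb] at this
  have e₅ : dv l m σ (mv 0 w) = mv 0 (sh (l : K) * (m : Kˣ) * σ w) := by ext <;> simp
  have := congrArg V.v this
  rw [e₅, hw] at this
  simp only [xx_v, V.add_v, V.add_t, mv_v, mv_t, fv_v, fv_t, V.smul_v, V.smul_t, xx_t,
    OneMemClass.coe_one] at this
  exact hb (by linear_combination this - tr (b * w) * b * h2)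

theorem Swap.w_eq (h : Hy p A T) (hn : n ∈ A) (hp : Pres n) (hs : Swap n) (r : K) :
    (n (mv 0 r)).w = 0 := by
  let ξ : K → K → Prop := fun v w => ∃ r, n (mv 0 r) = mv v w
  have sub : ∀ {v w v' w'}, ξ v w → ξ v' w' → ξ (v - v') (w - w') := fun ⟨r, e⟩ ⟨r', e'⟩ =>
    ⟨r - r', by rw [← mv_sub, ← e, ← e', ← h.map_sub hn, mv_sub, sub_zero]⟩
  have inv : ∀ {v w l m}, DV A l m (RingEquiv.refl K) → ξ v w →
      ξ (l * (m : Kˣ) * v) (sh (l : K) * (m : Kˣ) * w) := fun hd ⟨r, e⟩ =>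
    (hs.dv_inv h hn hp hd r).imp fun r' e' => by rw [e', e]; ext <;> simp
  have h₀ : ξ _ _ := ⟨r, hs.mv_eq h.toHyp hn hp 0 r⟩
  have hS : ¬ StabL n := fun hS => h.ne_zero hn ev_one_ne
    (V.ext (hS _ (inL_ev 1)).1 (hS _ (inL_ev 1)).2.1 (hS _ (inL_ev 1)).2.2 (hs.1 _ (inL_ev 1)).2.2)
  generalize (n (mv 0 r)).v = v at h₀
  generalize (n (mv 0 r)).w = w at h₀ ⊢
  by_contra hw
  by_cases hq : Tf.q K = 2
  · have h2 : (2 : K) = 0 := by_contra fun h2 => q_ne_two h2 hq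
    have tor : ∀ {v w} (l : K), l ≠ 0 → ξ v w → ξ (l * v) (l⁻¹ * w) := fun l hl hξ => by
      have := inv (tor_two h ((two_eq_zero_iff p).1 h2) hq ⟨n, hn, hS⟩ (Units.mk0 l hl)) hξ
      have e : sh l = l⁻¹ := eq_inv_of_mul_eq_one_right (by
        rw [mul_sh, (eq_of_q_two hq (th_nm l)).resolve_left (nm_ne_zero hl)])
      simpa [e] using this
    obtain ⟨l, hl⟩ := exists_th_ne K
    have h₁ : l ≠ 0 := fun e => hl (by simp [e])
    have h₂ : l - 1 ≠ 0 := fun e => hl (by simp [sub_eq_zero.1 e])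
    have h₃ : l⁻¹ * w - w - (l - 1)⁻¹ * w ≠ 0 := fun e => hl (fix_of_th2 (by
      have : l ^ 2 = l + 1 := mul_left_cancel₀ hw (by
        field_simp at e
        linear_combination -e - w * h2)
      rw [Tf.th_eq, Tf.th_eq, hq, this]
      linear_combination this + (l + 1) * h2))
    have h₄ := sub (sub (tor l h₁ h₀) h₀) (tor _ h₂ h₀)
    rw [show l * v - v - (l - 1) * v = 0 by ring] at h₄
    have h₅ : ∀ w', ξ 0 w' := fun w' => by
      rcases eq_or_ne w' 0 with rfl | h0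
      · simpa using sub h₀ h₀
      have := tor _ (div_ne_zero h₃ h0) h₄
      rwa [mul_zero, inv_div, div_mul_cancel₀ _ h₃] at this
    choose φ hφ using h₅
    have : Function.Surjective φ := Finite.injective_iff_surjective.1 fun a b e => by
      simpa using congrArg V.w ((hφ a).symm.trans (e ▸ hφ b : n (mv 0 (φ a)) = mv 0 b))
    refine excl h h2 hq hn hp hs fun r => ?_
    obtain ⟨a, rfl⟩ := this r
    rw [hφ, mv_v]
  · obtain ⟨μ, hμ⟩ := exists_ku_ne hq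
    have h0 : ((μ : Kˣ) : K) ≠ 0 := (μ : Kˣ).ne_zero
    obtain ⟨r₁, e₁⟩ := sub (inv (h.hh μ) h₀) h₀
    have h₁ : ξ v 0 := ⟨(((μ : Kˣ) : K) - 1)⁻¹ * r₁, by
      have := hp.smul ⟨(((μ : Kˣ) : K) - 1)⁻¹, by simp [mem_kf]⟩ (mv 0 r₁)
      rw [e₁] at this
      have h₁ := sub_ne_zero.2 hμ
      convert this using 2 <;> ext <;> simp [sh_inv, sh_of_fix (th_ku μ)]
      field_simp⟩
    obtain ⟨r₂, e₂⟩ := sub h₀ h₁
    refine hS (three h hq hn (m := mv 0 r₂) (fun e => hw ?_) rfl rfl (by simp [e₂]) (by simp [e₂]))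
    simpa [e, h.map_zero hn, eq_comm] using congrArg V.w e₂

theorem exists_yy (h : Hy p A T) (hγ : ∃ γ ∈ A, ¬ StabL γ) (a : K) :
    ∃ β ∈ A, ∀ x, β x = yy a x := by
  obtain ⟨n, hn, hp, hs⟩ := exists_swap h hγ
  let B : K → K := fun v => (n (mv v 0)).w
  let C : K → K := fun w => (n (mv 0 w)).v
  have eC : ∀ w, n (mv 0 w) = mv (C w) 0 := fun w => by
    rw [hs.mv_eq h.toHyp hn hp, hs.w_eq h hn hp]
  have eB : ∀ v, n (mv v 0) = mv 0 (B v) := fun v => by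
    have hi := hs.inv h.toHyp hn hp
    have e : ∀ r, n⁻¹ (mv 0 r) = mv (n⁻¹ (mv 0 r)).v 0 := fun r => by
      rw [hi.mv_eq h.toHyp (inv_mem hn) hp.inv, hi.w_eq h (inv_mem hn) hp.inv]; rfl
    obtain ⟨r, rfl⟩ := Finite.surjective_of_injective (f := fun r => (n⁻¹ (mv 0 r)).v)
      (fun r r' e' => by
        have := e r
        rw [show (n⁻¹ (mv 0 r)).v = _ from e', ← e r'] at this
        simpa using congrArg V.w (n⁻¹.injective this)) v
    simp only [B, ← e, ai, mv_w]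
  set c₁ := (n (fv 1)).s
  set c₂ := (n (ev 1)).t
  have en : ∀ x, (n x).t = c₂ * x.s ∧ (n x).v = C x.w ∧ (n x).w = B x.v ∧ (n x).s = c₁ * x.t :=
    fun x => by
      have : x = (⟨x.t, x.ht⟩ : kf K) • fv 1 + mv x.v 0 + mv 0 x.w + (⟨x.s, x.hs⟩ : kf K) • ev 1 := by
        ext <;> simp
      obtain ⟨h₁, h₂, h₃⟩ := hs.1 _ (inL_ev 1)
      obtain ⟨h₄, h₅, h₆⟩ := hs.2 _ (inF_fv 1)
      have e := congrArg n this
      rw [h.add n hn, h.add n hn, h.add n hn, hp.smul, hp.smul, eB, eC] at e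
      simp [e, h₁, h₂, h₃, h₄, h₅, h₆, c₁, c₂, mul_comm]
  have h₁ : th c₁ = c₁ := V.hs _
  have h₂ : th c₂ = c₂ := V.ht _
  have hc : c₁ * c₂ = -1 := by
    have := hp (fv 1) (ev 1)
    simp only [bf, en, fv_t, fv_v, fv_w, fv_s, ev_t, ev_v, ev_w, ev_s, show B 0 = 0 by
      simpa using (en 0).2.2.1.symm.trans (congrArg V.w (h.map_zero hn))] at this
    simp only [mul_zero, tr_zero, OneMemClass.coe_one] at this
    linear_combination -this
  have Ba : ∀ x y, B (x + y) = B x + B y := fun x y => by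
    simpa [en] using congrArg V.w (h.add n hn (mv x 0) (mv y 0))
  have Ca : ∀ x y, C (x + y) = C x + C y := fun x y => by
    simpa [en] using congrArg V.v (h.add n hn (mv 0 x) (mv 0 y))
  have Bs : ∀ c, th c = c → ∀ x, B (c * x) = c * B x := fun c hc x => by
    simpa [en] using congrArg V.w (hp.smul ⟨c, hc⟩ (mv x 0))
  have Cs : ∀ c, th c = c → ∀ x, C (c * x) = c * C x := fun c hc x => by
    simpa [en] using congrArg V.v (hp.smul ⟨c, hc⟩ (mv 0 x))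
  have BC : ∀ v w, tr (C w * B v) = -tr (v * w) := fun v w => by
    simpa [bf, eB, eC] using hp (mv v 0) (mv 0 w)
  have hc₂ : c₂ ≠ 0 := fun e => by simp [e] at hc
  have cone : ∀ u, sh (B u) = c₁ * C (sh u) ∧ nm (B u) = c₁ ^ 2 * c₂ * nm u := fun u => by
    rcases eq_or_ne u 0 with rfl | hu
    · have := Bs 0 (by simp) 0
      have := Cs 0 (by simp) 0
      simp_all
    have hc : Cn A (n (xx u (fv 1))) :=
      (Cn.map ⟨n, hn, hs.2 _ (inF_fv 1)⟩ (h.xp_mem u)).map hn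
    have ht : (n (xx u (fv 1))).t = c₂ * nm u := by simp [en]
    have h0 : c₂ * nm u ≠ 0 := mul_ne_zero hc₂ (nm_ne_zero hu)
    have e := form' h hγ hc (ht ▸ h0)
    have e₁ := congrArg V.v e
    have e₂ := congrArg V.w e
    have e₃ := congrArg V.s e
    generalize (n (xx u (fv 1))).v / (n (xx u (fv 1))).t = b at e₁ e₂ e₃
    simp only [en, xx_t, xx_v, xx_w, xx_s, fv_t, fv_v, fv_w, fv_s, OneMemClass.coe_one, zero_add,
      one_mul, mul_one, mul_zero, tr_zero, cr_zero_right] at e₁ e₂ e₃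
    have hk : th (c₂ * nm u) = c₂ * nm u := by simp [h₂]
    rw [e₁, e₂, e₃, sh_mul, nm_mul (c₂ * nm u), sh_of_fix hk, nm_of_fix hk, sh_sh, nm_sh]
    exact ⟨by ring, by ring⟩
  have pol : ∀ u v, cr (B u) (B v) = c₁ * C (cr u v) := fun u v => by
    have := (cone (u + v)).1
    rw [Ba, sh_add, sh_add, Ca, Ca, (cone u).1, (cone v).1] at this
    linear_combination this
  obtain ⟨u, hu⟩ := Finite.surjective_of_injective (f := B) (fun x y e => by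
    have := eB x
    rw [e, ← eB] at this
    simpa using congrArg V.v (n.injective this)) (c₁ * a)
  have ha : a = -c₂ * B u := by rw [hu]; linear_combination a * hc
  have hk : th (-c₂) = -c₂ := by simp [h₂]
  refine ⟨n * xp u * n⁻¹, mul_mem (mul_mem hn (h.xp_mem u)) (inv_mem hn), fun x => ?_⟩
  obtain ⟨x, rfl⟩ := n.surjective x
  simp only [Perm.mul_apply, ia, xp_apply]
  ext <;> simp only [yy, en, xx_t, xx_v, xx_w, xx_s, ha]
  · rw [mul_assoc, tr_smul hk, mul_comm (B u), BC, sh_mul, sh_of_fix hk, (cone u).1, ← mul_assoc,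
      mul_assoc, tr_smul (c := (-c₂) ^ 2 * c₁) (by simp [h₁, h₂]), BC, nm_mul, nm_of_fix hk,
      (cone u).2, mul_comm x.v]
    linear_combination (c₂ * tr (sh u * x.v) +
      c₂ * x.t * nm u * ((c₁ * c₂) ^ 2 - c₁ * c₂ + 1)) * hc
  · rw [Ca, Ca, Cs _ x.ht, cr_smul_left hk, pol, sh_mul, sh_of_fix hk, (cone u).1]
    linear_combination (C (cr u x.v) + x.t * C (sh u) * (1 - c₁ * c₂)) * hc
  · rw [Ba, Bs _ x.ht]
    linear_combination (x.t * B u) * hc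

end Co

open Co in
theorem core : CoreStmt := by
  intro K _ _ _ p _ _ A T h₁ h₂ h₃ h₄ h₅ h₆ h₇ hγ
  have h : Hy p A T := ⟨⟨h₁, h₂, h₃, h₄, fun h2 => h₅ ((two_eq_zero_iff p).1 h2),
    fun α hα hs u => by
      obtain ⟨y, l, m, σ, e⟩ := h₆ α hα hs
      exact ⟨l * σ u, fun x => by rw [e, e, dv_xx, xx_xx, xx_xx, add_comm]⟩⟩, h₆, h₇⟩
  refine ⟨fun a ha => ?_, fun α hα => or_iff_not_imp_left.2 (orb h hα)⟩
  obtain ⟨β, hβ, e⟩ := exists_yy h hγ a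
  exact ⟨xp (-a⁻¹) * β * xp (-a⁻¹), mul_mem (mul_mem (h.xp_mem _) hβ) (h.xp_mem _), fun x => by
    simpa only [Equiv.Perm.mul_apply, xp_apply, e] using weyl_eq ha x⟩

end Cfsg.Agent.D4
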