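import Cfsg.Agent.Lib.D4.Vec

/-!
Row CORE of docs/D4_PLAN.md, part A: two lines of the orbit of `ℓ` are never perpendicular.
-/

set_option autoImplicit false

namespace Cfsg.Agent.D4.Co

open Cfsg.Agent.Fus Subgroup Equiv

variable {K : Type} [Field K] [Fintype K] [Tf K]

theorem sum_kk [Fintype (kf K)] (hq : Tf.q K ≠ 2) (F : kf K × kf K → K) (c₁ c₂ c₃ : K)
    (hF : ∀ a b : kf K, F (a, b) + F (0, 0) = F (0, b) + F (a, 0) + a * b * (c₁ + a * c₂ + b * c₃)) :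
    ∑ x, F x = 0 := by
  have h0 : (Fintype.card (kf K) : K) = 0 := by
    rw [← map_natCast (kf K).subtype, FiniteField.cast_card_eq_zero, map_zero]
  have h1 : ∑ a : kf K, (a : K) = 0 := by
    have := FiniteField.sum_pow_lt_card_sub_one (kf K) 1 (by
      rw [← Nat.card_eq_fintype_card, card_kf]
      have := two_le_q K
      omega)
    simpa using congrArg (kf K).subtype this
  have e : ∀ x : kf K × kf K, F x = (F (0, x.2) + x.1 * (x.2 * x.2 * c₃)) +
      (F (x.1, 0) - F (0, 0) + x.2 * (x.1 * (c₁ + x.1 * c₂))) := fun x => by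
    linear_combination hF x.1 x.2
  rw [Finset.sum_congr rfl fun x _ => e x, Finset.sum_add_distrib, Fintype.sum_prod_type_right,
    Fintype.sum_prod_type]
  simp only [Finset.sum_add_distrib, Finset.sum_const, Finset.card_univ, nsmul_eq_mul, h0, zero_mul,
    ← Finset.sum_mul, h1, Finset.sum_const_zero, add_zero]

theorem sum_xx [Fintype (kf K)] (hq : Tf.q K ≠ 2) (u₁ u₂ : K) (y : V K) :
    ∑ x : kf K × kf K, xx (x.1 * u₁ + x.2 * u₂) y = 0 := by
  ext
  · exact (map_sum (AddMonoidHom.mk' (V.t (K := K)) V.add_t) _ _).trans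
      (sum_kk hq _ 0 0 0 fun a b => by simp)
  · exact (map_sum (AddMonoidHom.mk' (V.v (K := K)) V.add_v) _ _).trans
      (sum_kk hq _ 0 0 0 fun a b => by simp; ring)
  · exact (map_sum (AddMonoidHom.mk' (V.w (K := K)) V.add_w) _ _).trans
      (sum_kk hq _ (y.t * cr u₁ u₂) 0 0 fun a b => by
        simp only [AddMonoidHom.mk'_apply, xx_w, sh, cr, map_add, map_mul, th_kf,
          ZeroMemClass.coe_zero, map_zero]; ring)
  · exact (map_sum (AddMonoidHom.mk' (V.s (K := K)) V.add_s) _ _).trans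
      (sum_kk hq _ (tr (cr u₁ u₂ * y.v)) (y.t * tr (sh u₁ * u₂)) (y.t * tr (u₁ * sh u₂))
        fun a b => by
          simp only [AddMonoidHom.mk'_apply, xx_s, tr, nm, sh, cr, map_add, map_mul, th_kf, th3,
            ZeroMemClass.coe_zero, map_zero]; ring)

/-- `α` preserves the form. -/
def Pres (α : Perm (V K)) : Prop := ∀ x y, bf (α x) (α y) = bf x y

theorem Pres.mul {α β : Perm (V K)} (hα : Pres α) (hβ : Pres β) : Pres (α * β) := fun x y =>
  (hα _ _).trans (hβ x y)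

theorem Pres.inv {α : Perm (V K)} (hα : Pres α) : Pres α⁻¹ := fun x y => by
  simpa using (hα (α⁻¹ x) (α⁻¹ y)).symm

theorem pres_xp (u : K) : Pres (xp u) := bf_xx u

theorem Pres.smul {α : Perm (V K)} (hα : Pres α) (c : kf K) (x : V K) : α (c • x) = c • α x :=
  eq_of_bf fun z => by
    obtain ⟨z, rfl⟩ := α.surjective z
    rw [hα, bf_smul_left, bf_smul_left, hα]

/-- The union of the lines in the orbit of `ℓ`. -/
def Cn (A : Subgroup (Perm (V K))) (m : V K) : Prop := ∃ α ∈ A, InL (α m)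

theorem Cn.map {A : Subgroup (Perm (V K))} {m : V K} (hm : Cn A m) {β : Perm (V K)} (hβ : β ∈ A) :
    Cn A (β m) := by
  obtain ⟨α, hα, e⟩ := hm
  exact ⟨α * β⁻¹, mul_mem hα (inv_mem hβ), by simpa using e⟩

theorem Cn.of_map {A : Subgroup (Perm (V K))} {m : V K} {β : Perm (V K)} (hm : Cn A (β m))
    (hβ : β ∈ A) : Cn A m := by simpa using hm.map (inv_mem hβ)

theorem cn_L (A : Subgroup (Perm (V K))) {m : V K} (hm : InL m) : Cn A m := ⟨1, one_mem _, hm⟩

/-- The hypotheses of row CORE. -/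
structure Hy (p : ℕ) (A T : Subgroup (Perm (V K))) : Prop extends Hyp p A T where
  nf : ∀ α ∈ A, StabL α → ∃ u l m σ, ∀ x, α x = xx u (dv l m σ x)
  hh : ∀ μ : ku K, ∃ α ∈ A, ∀ x, α x = dv (μ : Kˣ)⁻¹ (μ ^ 2) (RingEquiv.refl K) x

variable {p : ℕ} {A T : Subgroup (Perm (V K))} {α : Perm (V K)}

theorem pres_conj (h : Hyp p A T) (hα : α ∈ A) {β : Perm (V K)} (hβ : Pres β) :
    Pres (α⁻¹ * β * α) := fun x y => by
  simpa using h.hb _ (inv_mem hα) _ _ _ _ (hβ (α x) (α y))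

variable [CharP K p]

theorem Cn.inL (h : Hyp p A T) {m : V K} (hm : Cn A m) (h₁ : m.t = 0) (h₂ : m.v = 0) : InL m := by
  obtain ⟨α, hα, e⟩ := hm
  rcases eq_or_ne m 0 with rfl | h0
  · exact ⟨rfl, rfl, rfl⟩
  simpa using h.stab_of_M (inv_mem hα) e (h.ne_zero hα h0) (by simpa) (by simpa) _ e

omit [CharP K p] in
theorem Cn.qf (h : Hyp p A T) (h2 : (2 : K) = 0) {m : V K} (hm : Cn A m) : qf m = 0 := by
  obtain ⟨α, hα, e⟩ := hm
  simpa using h.hq h2 _ (inv_mem hα) (α m) (by simp [D4.qf, e.1, e.2.1])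

theorem Cn.add (h : Hyp p A T) (h2 : (2 : K) = 0) {m₁ m₂ : V K} (h₁ : Cn A m₁) (h₂ : Cn A m₂)
    (hb : bf m₁ m₂ = 0) : Cn A (m₁ + m₂) := by
  obtain ⟨α, hα, he⟩ := h₁
  refine Cn.of_map ?_ hα
  have hm := h₂.map hα
  have hb' := h.perp hα hb
  rw [h.add α hα]
  generalize α m₁ = e at he hb'
  generalize α m₂ = m at hm hb'
  rcases eq_or_ne e 0 with rfl | h0
  · rwa [zero_add]
  have ht : m.t = 0 := by simpa [bf_L he, he.s_ne h0] using hb'
  by_cases hv : m.v = 0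
  · have := hm.inL h ht hv
    exact cn_L A ⟨by simp [ht, he.1], by simp [hv, he.2.1], by simp [this.2.2, he.2.2]⟩
  have hq : tr (m.v * m.w) = 0 := by simpa [D4.qf, ht] using hm.qf h h2
  obtain ⟨c, hc, hc'⟩ := exists_sq h2 (c := e.s / nm m.v) (by simp)
  have : e + m = xp (c * m.v) m := by
    ext
    · simp [he.1]
    · simp [he.2.1, ht]
    · simp [he.2.2, ht, cr_smul_left hc, cr_self, h2]
    · have hn := nm_ne_zero hv
      rw [xp_apply, xx_s, mul_assoc, tr_smul hc, hq, sh_mul, sh_of_fix hc, mul_assoc,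
        tr_smul (by simp [hc]), mul_comm (sh _), tr_mul_sh, ht, sq, hc', V.add_s]
      field_simp
      linear_combination (-e.s) * h2
  rw [this]
  exact hm.map (h.xp_mem _)

theorem two (h : Hyp p A T) (h2 : (2 : K) = 0) {m : V K} (hm : Cn A m) (ht : m.t = 0) : InL m := by
  refine hm.inL h ht (eq_zero_of_cr_all fun u => ?_)
  have := ((hm.add h h2 (hm.map (h.xp_mem u)) (by
    simp only [bf, xp_apply, xx_t, xx_v, xx_w, xx_s, ht, zero_mul, add_zero, mul_add, tr_add]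
    rw [tr_cr, cr_self, h2]; simp)).inL h (by simp [ht]) (by
      simp only [V.add_v, xp_apply, xx_v, ht]; linear_combination m.v * h2)).2.2
  simp only [V.add_w, xp_apply, xx_w, ht] at this
  linear_combination this - m.w * h2

omit [CharP K p] in
theorem fix_H (h : Hy p A T) (hα : α ∈ A) (hp : Pres α) (hs : StabL α) {m : V K} (h₁ : m.t = 0)
    (h₂ : m.v = 0) (h₃ : m.w ≠ 0) (e : α m = m) : α (ev 1) = ev 1 := by
  obtain ⟨u, l, μ, σ, eα⟩ := h.nf α hα hs
  have hb : ∀ c : kf K, nm (l : K) * (μ : Kˣ) ^ 2 * σ c = c := fun c => by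
    have := hp (fv 1) (ev c)
    rw [eα, eα, bf_xx, bf_dv] at this
    simpa [bf] using this
  have hb1 : nm (l : K) * (μ : Kˣ) ^ 2 = 1 := by simpa using hb 1
  have hw : sh (l : K) * (μ : Kˣ) * σ m.w = m.w := by simpa [eα, h₁, h₂] using congrArg V.w e
  have hn := congrArg nm hw
  have := hb ⟨nm m.w, th_nm _⟩
  rw [hb1, one_mul] at this
  rw [nm_mul, nm_mul, nm_sh, nm_of_fix (th_ku μ), ← map_nm, this, mul_eq_right₀ (nm_ne_zero h₃)] at hn
  have hμ : ((μ : Kˣ) : K) = 1 := by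
    linear_combination (nm (l : K) * (μ : Kˣ) ^ 2 + 1) * hb1 - ((μ : Kˣ) : K) * hn
  ext <;> simp [eα, hμ]
  simpa [hμ] using hb1

theorem fix_e (h : Hy p A T) (hq : Tf.q K ≠ 2) {m : V K} (h₁ : m.t = 0) (h₂ : m.v = 0)
    (h₃ : m.w ≠ 0) (hα : α ∈ A) (hp : Pres α) (e : α m = m) : α (ev 1) = ev 1 := by
  classical
  have := Fintype.ofFinite (V K)
  have := Fintype.ofFinite (kf K)
  let L : Subgroup (Perm (V K)) :=
    { carrier := {g | g ∈ A ∧ Pres g ∧ g m = m}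
      one_mem' := ⟨one_mem _, fun _ _ => rfl, rfl⟩
      mul_mem' := fun ha hb => ⟨mul_mem ha.1 hb.1, ha.2.1.mul hb.2.1, by simp [ha.2.2, hb.2.2]⟩
      inv_mem' := fun ha => ⟨inv_mem ha.1, ha.2.1.inv, Perm.inv_eq_iff_eq.2 ha.2.2.symm⟩ }
  let O : Finset (V K) := Finset.univ.filter fun y => ∃ g ∈ L, y = g (ev 1)
  have hO : ∀ y, y ∈ O ↔ ∃ g ∈ L, y = g (ev 1) := fun y => by simp [O]
  have hO' : ∀ g ∈ L, ∀ y ∈ O, g y ∈ O := fun g hg y hy => by
    obtain ⟨g', hg', rfl⟩ := (hO y).1 hy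
    exact (hO _).2 ⟨g * g', mul_mem hg hg', rfl⟩
  obtain ⟨u₁, hu₁, hu₁'⟩ := exists_perp m.w
  obtain ⟨u₂, hu₂', hu₂⟩ := exists_perp_not m.w u₁
  have hU : ∀ x : kf K × kf K, xp (x.1 * u₁ + x.2 * u₂) ∈ L := fun x =>
    ⟨h.xp_mem _, pres_xp _, by
      have : tr ((x.1 * u₁ + x.2 * u₂) * m.w) = 0 := by
        rw [add_mul, tr_add, mul_assoc, mul_assoc, tr_smul (th_kf _), tr_smul (th_kf _),
          mul_comm u₁, mul_comm u₂, hu₁', hu₂']; simp
      ext <;> simp [h₁, h₂, this]⟩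
  let R : Setoid (V K) := ⟨fun y y' => ∃ x : kf K × kf K, y = xx (x.1 * u₁ + x.2 * u₂) y',
    fun y => ⟨0, by simp⟩, fun {_ y} ⟨x, e⟩ => ⟨-x, by
      rw [e, xx_xx, ← xx_zero y, xx_xx]; congr 1; simp; ring⟩,
    fun ⟨x, e⟩ ⟨x', e'⟩ => ⟨x + x', by rw [e, e', xx_xx]; congr 1; simp; ring⟩⟩
  have hs : ∑ y ∈ O.erase (ev 1), y = 0 := Finset.sum_cancels_of_partition_cancels R fun y hy => by
    obtain ⟨hy, hy'⟩ := Finset.mem_erase.1 hy
    rw [← sum_xx hq u₁ u₂ y]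
    refine (Finset.sum_bij (fun x _ => xx (x.1 * u₁ + x.2 * u₂) y) (fun x _ => ?_)
      (fun x _ x' _ e => ?_) (fun z hz => ?_) fun _ _ => rfl).symm
    · refine Finset.mem_filter.2 ⟨Finset.mem_erase.2 ⟨fun e => hy ?_, hO' _ (hU x) y hy'⟩, x, rfl⟩
      exact (xp _).injective (e.trans (xx_L _ (inL_ev 1)).symm)
    · by_contra hne
      obtain ⟨g, hg, rfl⟩ := (hO y).1 hy'
      refine hy (fix_H h hg.1 hg.2.1 (h.ti' hg.1 (inL_ev 1) ev_one_ne
        (u := (x.1 - x'.1) * u₁ + (x.2 - x'.2) * u₂) (fun h0 => ?_) ?_) h₁ h₂ h₃ hg.2.2)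
      · by_cases hb : (x.2 : K) - x'.2 = 0
        · rw [hb, zero_mul, add_zero, mul_eq_zero] at h0
          exact hne (Prod.ext (Subtype.ext (sub_eq_zero.1 (h0.resolve_right hu₁)))
            (Subtype.ext (sub_eq_zero.1 hb)))
        · exact hu₂ (-(x.1 - x'.1) / (x.2 - x'.2)) (by simp) (by field_simp; linear_combination h0)
      · refine (xp (x'.1 * u₁ + x'.2 * u₂)).injective ?_
        rw [xp_apply, xp_apply, xx_xx, ← e]
        congr 1; ring
    · obtain ⟨x, e⟩ := (Finset.mem_filter.1 hz).2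
      exact ⟨x, Finset.mem_univ _, e.symm⟩
  have hs' : ∑ y ∈ O, y = ev 1 := by
    rw [← Finset.add_sum_erase O _ ((hO (ev 1)).2 ⟨1, one_mem _, rfl⟩), hs, add_zero]
  have hL : α ∈ L := ⟨hα, hp, e⟩
  rw [← hs']
  refine (map_sum (AddMonoidHom.mk' α (h.add α hα)) _ _).trans ?_
  exact Finset.sum_bij (fun y _ => α y) (fun y hy => hO' _ hL y hy)
    (fun _ _ _ _ e => α.injective e)
    (fun y hy => ⟨α⁻¹ y, hO' _ (inv_mem hL) y hy, by simp⟩) fun _ _ => rfl

/-- `M₂ ∩ α M₂ = 0` unless `α` stabilises `ℓ`. -/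
theorem three (h : Hy p A T) (hq : Tf.q K ≠ 2) (hα : α ∈ A) {m : V K} (h0 : m ≠ 0) (h₁ : m.t = 0)
    (h₂ : m.v = 0) (h₃ : (α m).t = 0) (h₄ : (α m).v = 0) : StabL α := by
  by_cases hw : m.w = 0
  · exact h.stab_of_M hα ⟨h₁, h₂, hw⟩ h0 h₃ h₄
  obtain ⟨y, hy, hy'⟩ := exists_perp (α m).w
  have e : xx y (α m) = α m := by ext <;> simp [h₃, h₄, mul_comm y, hy']
  have := fix_e h hq h₁ h₂ hw (mul_mem (mul_mem (inv_mem hα) (h.xp_mem y)) hα)
    (pres_conj h.toHyp hα (pres_xp y)) (by simp [e])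
  exact h.ti' hα (inL_ev 1) ev_one_ne hy (Perm.inv_eq_iff_eq.1 this)

/-- The involution `h(-1)`. -/
def sg (x : V K) : V K := ⟨x.t, -x.v, x.w, -x.s, x.ht, by simp⟩

omit [CharP K p] in
theorem exists_sg (h : Hy p A T) : ∃ δ ∈ A, ∀ x, δ x = sg x := by
  obtain ⟨δ, hδ, e⟩ := h.hh ⟨-1, by simp [mem_ku]⟩
  exact ⟨δ, hδ, fun x => by rw [e]; ext <;> simp [sg, sh_neg, nm_neg]⟩

theorem q_ne_two (h2 : (2 : K) ≠ 0) : Tf.q K ≠ 2 := fun hq => h2 <| by
  have := FiniteField.cast_card_eq_zero K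
  rw [Tf.card_eq, hq] at this
  exact pow_eq_zero_iff (n := 3) (by norm_num) |>.1 (by exact_mod_cast this)

theorem four (h : Hy p A T) (h2 : (2 : K) ≠ 0) {m : V K} (hm : Cn A m) (ht : m.t = 0) : InL m := by
  refine hm.inL h.toHyp ht (by_contra fun hv => ?_)
  obtain ⟨u, hu⟩ := exists_cr h2 hv (-m.w)
  obtain ⟨α, hα, he⟩ := hm.map (h.xp_mem u)
  have h₁ : (xp u m).t = 0 := ht
  have h₂ : (xp u m).v ≠ 0 := by simpa [ht] using hv
  have h₃ : (xp u m).w = 0 := by simp [ht, cr_comm u, hu]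
  generalize xp u m = n at he h₁ h₂ h₃
  have h0 : α n ≠ 0 := h.ne_zero hα fun e => h₂ (by simp [e])
  obtain ⟨δ, hδ, eδ⟩ := exists_sg h
  have hβ : α * δ * α⁻¹ ∈ A := mul_mem (mul_mem hα hδ) (inv_mem hα)
  have e₁ : (α * δ * α⁻¹) (α n) = -α n := by
    rw [← h.map_neg hα]
    simp only [Perm.mul_apply, Perm.coe_inv, symm_apply_apply, eδ]
    congr 1
    ext <;> simp [sg, h₁, h₃]
  obtain ⟨y, l, μ, τ, e⟩ := h.nf _ hβ (h.stab_of hβ he h0 (by
    rw [e₁]; exact ⟨by simp [he.1], by simp [he.2.1], by simp [he.2.2]⟩))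
  have hb : ∀ c : kf K, nm (l : K) * (μ : Kˣ) ^ 2 * τ c = -c := fun c => by
    have := h.hb α hα (δ (α⁻¹ (fv 1))) (δ (α⁻¹ (ev c))) (α⁻¹ (-fv 1)) (α⁻¹ (ev c)) (by
      rw [h.map_neg (inv_mem hα), bf_neg_left, eδ, eδ]
      simp only [bf, sg, mul_neg, neg_mul, tr_neg]; ring)
    rw [← Perm.mul_apply, ← Perm.mul_apply, ← Perm.mul_apply α δ, ← Perm.mul_apply (α * δ), e, e,
      bf_xx, bf_dv] at this
    simpa [bf] using this
  have hb1 : nm (l : K) * (μ : Kˣ) ^ 2 = -1 := by simpa using hb 1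
  have hτ : ∀ c, th c = c → τ c = c := fun c hc => by simpa [hb1] using hb ⟨c, hc⟩
  have hn : nm (l : K) * (μ : Kˣ) = -1 := by
    have := congrArg V.s e₁
    rw [e] at this
    simp only [xx_s, dv_t, dv_v, dv_w, dv_s, he.1, he.2.1, he.2.2, map_zero, mul_zero, tr_zero,
      zero_mul, add_zero, V.neg_s, hτ _ (α n).hs] at this
    exact mul_right_cancel₀ (he.s_ne h0) (by linear_combination this)
  have hμ : ((μ : Kˣ) : K) = 1 := by linear_combination ((μ : Kˣ) : K) * hn - hb1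
  have hv : ∀ v, (l : K) * τ (l * τ v) = v := fun v => by
    have : (α * δ * α⁻¹) ((α * δ * α⁻¹) (mv v 0)) = mv v 0 := by
      have : ∀ x : V K, sg (sg x) = x := fun x => by ext <;> simp [sg]
      simp [eδ, this]
    simpa [e, hμ] using congrArg V.v this
  have hτ' : ∀ v, τ v = v := fun v => by
    have e₂ : τ (τ v) = v := by
      have := hv v
      rw [map_mul, ← mul_assoc, show (l : K) * τ l = 1 by simpa using hv 1, one_mul] at this
      exact this
    rcases gal_apply hτ v with e | e | e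
    · exact e
    · rw [e, map_th, e] at e₂
      rw [e, fix_of_th2 e₂]
    · rw [e, map_th, map_th, e, th3] at e₂
      rw [e, e₂, e₂]
  have hl : (l : K) = -1 := by
    have := hv 1
    rw [hτ', hτ', mul_one, mul_self_eq_one_iff] at this
    refine this.resolve_left fun e => h2 ?_
    rw [e, hμ, nm_one] at hn
    linear_combination hn
  let z : K → V K := fun w => ⟨0, 0, w, tr (y * w) / 2, by simp, by simp [map_ofNat]⟩
  have hz : ∀ w, sg (α⁻¹ (z w)) = α⁻¹ (z w) := fun w => α.injective <| by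
    rw [← eδ, ← Perm.mul_apply, ← Perm.mul_apply, e]
    ext <;> simp [z, hl, hμ, hτ', sh_neg, nm_neg]
    field_simp; ring
  obtain ⟨w, w', hne, ew⟩ : ∃ w w', w ≠ w' ∧ (α⁻¹ (z w)).t = (α⁻¹ (z w')).t := by
    have := Fintype.ofFinite (kf K)
    obtain ⟨w, w', hne, ew⟩ := Fintype.exists_ne_map_eq_of_card_lt
      (fun w => (⟨(α⁻¹ (z w)).t, V.ht _⟩ : kf K)) (by
        rw [← Nat.card_eq_fintype_card, card_kf, Tf.card_eq]
        exact lt_self_pow₀ (two_le_q K) (by norm_num))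
    exact ⟨w, w', hne, congrArg Subtype.val ew⟩
  have hv0 : ∀ w, (α⁻¹ (z w)).v = 0 := fun w => by
    have : -(α⁻¹ (z w)).v = _ := congrArg V.v (hz w)
    exact (mul_eq_zero.1 (by linear_combination -this : 2 * (α⁻¹ (z w)).v = 0)).resolve_left h2
  have := three h (q_ne_two h2) (inv_mem hα) (m := z w - z w')
    (fun e => hne (sub_eq_zero.1 (by simpa [z] using congrArg V.w e))) (by simp [z]) (by simp [z])
    (by rw [h.map_sub (inv_mem hα), V.sub_t, ew, sub_self])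
    (by rw [h.map_sub (inv_mem hα), V.sub_v, hv0, hv0, sub_self])
  exact h₂ (by simpa using (this _ he).2.1)

theorem Cn.inL' (h : Hy p A T) {m : V K} (hm : Cn A m) (ht : m.t = 0) : InL m := by
  by_cases h2 : (2 : K) = 0
  exacts [two h.toHyp h2 hm ht, four h h2 hm ht]

theorem perp_perp (h : Hy p A T) {m m' : V K} (hm : Cn A m) (hm' : Cn A m') (h0 : m ≠ 0)
    (hb : bf m m' = 0) {z : V K} (hz : bf m z = 0) : bf m' z = 0 := by
  obtain ⟨α, hα, he⟩ := hm
  have h0' := he.s_ne (h.ne_zero hα h0)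
  have he' := (hm'.map hα).inL' h (by simpa [bf_L he, h0'] using h.perp hα hb)
  have : (α z).t = 0 := by simpa [bf_L he, h0'] using h.perp hα hz
  simpa using h.perp (inv_mem hα) (show bf (α m') (α z) = 0 by simp [bf_L he', this])

end Cfsg.Agent.D4.Co
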