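import Cfsg.Agent.Lib.D4.CoreA

/-!
Row CORE of docs/D4_PLAN.md, part B: the orbit of `ℓ` is `{ℓ} ∪ T L₀`.
-/

set_option autoImplicit false

namespace Cfsg.Agent.D4.Co

open Cfsg.Agent.Fus Subgroup Equiv

variable {K : Type} [Field K] [Fintype K] [Tf K]

theorem exists_root_odd (h2 : (2 : K) ≠ 0) {t w : K} (ht : th t = t) (h0 : t ≠ 0) (hw : w ≠ 0) :
    ∃ u ≠ 0, t * nm u + 2 * tr (u * w) = 0 := by
  classical
  have key : ∀ u ≠ 0, tr (u * w) ≠ 0 → quadraticChar K (-2 * t * nm u * tr (u * w)) = 1 →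
      ∃ u ≠ 0, t * nm u + 2 * tr (u * w) = 0 := fun u hu htr hs => by
    have hn := nm_ne_zero hu
    have hX : -2 * t * nm u * tr (u * w) ≠ 0 := by simp [h2, h0, hn, htr]
    obtain ⟨d, hd⟩ := (quadraticChar_one_iff_isSquare hX).1 hs
    have hd' : th d = d := fix_of_sq (by rw [← hd]; simp [ht, map_ofNat])
    have hd0 : d ≠ 0 := fun e => hX (by rw [hd, e, mul_zero])
    have hc : th (d / (t * nm u)) = d / (t * nm u) := by simp [hd', ht]
    refine ⟨d / (t * nm u) * u, by simp [hd0, h0, hn, hu], ?_⟩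
    rw [nm_mul, nm_of_fix hc, mul_assoc _ u, tr_smul hc]
    field_simp
    linear_combination (-d) * hd
  obtain ⟨g, hg⟩ := quadraticChar_exists_neg_one (F := K) fun e => h2 (by
    exact_mod_cast (ringChar.spec K 2).2 (e ▸ dvd_rfl))
  have hth : ∀ x : K, quadraticChar K x = -1 → quadraticChar K (th x) = -1 := fun x hx => by
    rw [quadraticChar_neg_one_iff_not_isSquare] at hx ⊢
    exact fun ⟨r, hr⟩ => hx ⟨th (th r), by rw [← map_mul, ← map_mul, ← hr, th3]⟩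
  have hν : quadraticChar K (nm g) = -1 := by
    rw [nm, map_mul, map_mul, hg, hth _ hg, hth _ (hth _ hg)]; norm_num
  obtain ⟨a, ha⟩ := exists_th_ne K
  have ha0 : a ≠ 0 := fun e => ha (by simp [e])
  obtain ⟨y, hy, hy'⟩ := exists_tr_two hw (b := a * a * w) (fun c hc e =>
    ha (fix_of_sq (by rw [mul_right_cancel₀ hw e, hc]))) (c := 1) (d := nm g) (by simp) (by simp)
  have hy0 : y ≠ 0 := fun e => by simp [e] at hy
  have hg0 : nm g ≠ 0 := fun e => by simp [e] at hν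
  have hX : -2 * t * nm y ≠ 0 := by simp [h2, h0, nm_ne_zero hy0]
  rcases quadraticChar_dichotomy hX with e | e
  · exact key y hy0 (by simp [mul_comm y, hy]) (by rw [mul_comm y, hy, mul_one, e])
  · have e' : tr (a * a * y * w) = nm g := by rw [← hy']; congr 1; ring
    refine key (a * a * y) (by simp [ha0, hy0]) (by rwa [e']) ?_
    rw [e', show -2 * t * nm (a * a * y) * nm g = -2 * t * nm y * nm g * nm a ^ 2 by
      rw [nm_mul, nm_mul]; ring, map_mul, map_mul _ _ (nm g), e, hν,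
      quadraticChar_sq_one' (nm_ne_zero ha0)]
    norm_num

theorem exists_root_two (h2 : (2 : K) = 0) {t w : K} (ht : th t = t) (h0 : t ≠ 0) (hw : w ≠ 0) :
    ∃ u ≠ 0, t * nm u + tr (u * w) = 0 := by
  obtain ⟨y, hy⟩ := exists_tr_mul hw (c := 1) (by simp)
  have hy0 : y ≠ 0 := fun e => by simp [e] at hy
  have hn := nm_ne_zero hy0
  obtain ⟨c, hc, e⟩ := exists_sq h2 (c := (t * nm y)⁻¹) (by simp [ht])
  have hc0 : c ≠ 0 := fun h => inv_ne_zero (mul_ne_zero h0 hn) (by rw [← e, h, mul_zero])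
  refine ⟨c * y, mul_ne_zero hc0 hy0, ?_⟩
  rw [nm_mul, nm_of_fix hc, mul_assoc c y, tr_smul hc, mul_comm y, hy]
  field_simp at e
  linear_combination c * e + c * h2

variable {p : ℕ} {A T : Subgroup (Perm (V K))} {α : Perm (V K)}

/-- `dv l m σ` belongs to `A`. -/
def DV (A : Subgroup (Perm (V K))) (l : Kˣ) (m : ku K) (σ : K ≃+* K) : Prop :=
  ∃ β ∈ A, ∀ x, β x = dv l m σ x

theorem dv_of_stab (h : Hy p A T) (hα : α ∈ A) (hs : StabL α) :
    ∃ u l m σ, DV A l m σ ∧ ∀ x, α x = xx u (dv l m σ x) := by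
  obtain ⟨u, l, m, σ, e⟩ := h.nf α hα hs
  exact ⟨u, l, m, σ, ⟨xp (-u) * α, mul_mem (h.xp_mem _) hα, fun x => by simp [e, xx_xx]⟩, e⟩

theorem mem_T (h : Hyp p A T) (hα : α ∈ A) (hs : StabL α) (hp : α ^ p = 1) :
    ∃ u, ∀ x, α x = xx u x :=
  (h.memT _).1 <| h.syl.le_of_le_normalizer (zpowers_le.2 hα)
    (isPGroup_zpowers_of_pow (k := 1) (by rwa [pow_one])) (zpowers_le.2 (mem_normalizer_fintype
      fun t ht => by
        obtain ⟨a, ea⟩ := (h.memT t).1 ht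
        obtain ⟨b, eb⟩ := h.nrm _ hα hs a
        exact (h.memT _).2 ⟨b, fun x => by
          rw [Perm.mul_apply, Perm.mul_apply, ea, eb, Perm.coe_inv, apply_symm_apply]⟩))
    (mem_zpowers _)

/-- Two involutions are conjugate or commute with a common involution. -/
theorem dihedral {G : Type*} [Group G] [Finite G] {a c : G} (ha : a * a = 1) (hc : c * c = 1) :
    (∃ n : ℕ, (a * c) ^ n * a * ((a * c) ^ n)⁻¹ = c) ∨
      ∃ n : ℕ, (a * c) ^ n ≠ 1 ∧ ((a * c) ^ n) ^ 2 = 1 ∧ (a * c) ^ n * a = a * (a * c) ^ n ∧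
        (a * c) ^ n * c = c * (a * c) ^ n := by
  have ha' : a⁻¹ = a := inv_eq_of_mul_eq_one_right ha
  have hc' : c⁻¹ = c := inv_eq_of_mul_eq_one_right hc
  have e : ∀ n : ℕ, a * ((a * c) ^ n)⁻¹ = (a * c) ^ n * a := fun n => by
    have := conj_pow (a := a) (b := (a * c)⁻¹) (i := n)
    rw [mul_inv_rev, ha', hc', show a * (c * a) * a = a * c * (a * a) by group, ha, mul_one] at this
    rw [← inv_pow, mul_inv_rev, ha', hc', this, mul_assoc, ha, mul_one]
  have ho := pow_orderOf_eq_one (a * c)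
  obtain ⟨n, hn | hn⟩ := Nat.even_or_odd' (orderOf (a * c))
  · have hi : ((a * c) ^ n)⁻¹ = (a * c) ^ n :=
      inv_eq_of_mul_eq_one_right (by rw [← pow_add, ← two_mul, ← hn, ho])
    have h₁ : (a * c) ^ n * a = a * (a * c) ^ n := by rw [← e, hi]
    have := orderOf_pos (a * c)
    refine .inr ⟨n, pow_ne_one_of_lt_orderOf (by omega) (by omega), by
      rw [← pow_mul, mul_comm n, ← hn, ho], h₁, mul_left_cancel (a := a) ?_⟩
    rw [← mul_assoc, ← h₁, mul_assoc, ← pow_succ, ← mul_assoc, ← pow_succ']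
  · refine .inl ⟨n, ?_⟩
    rw [mul_assoc, e, ← mul_assoc, ← pow_add, ← two_mul]
    rw [hn, pow_succ] at ho
    rw [eq_inv_of_mul_eq_one_left ho, mul_inv_rev, ha', hc', mul_assoc, ha, mul_one]

variable [CharP K p]

theorem key (h : Hy p A T) {m m' : V K} (hm : Cn A m) (hm' : Cn A m') (hv : m.v = 0) (hv' : m'.v = 0)
    (ht : m.t ≠ 0) (ht' : m'.t ≠ 0) {u : K} (hu : u ≠ 0) :
    m.t * m'.t * nm u + tr (u * (m.t * m'.w + m'.t * m.w)) + (m.t * m'.s - m'.t * m.s) ≠ 0 := by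
  intro e
  have := eq_zero_of_tr (e := m'.t * u) fun r => by
    simpa [bf, hv'] using perp_perp h hm (hm'.map (h.xp_mem u)) (fun e => ht (by simp [e]))
      (by
        rw [← e]
        simp only [bf, xp_apply, xx_t, xx_v, xx_w, xx_s, hv, hv', tr, sh, nm, cr, map_add, map_mul,
          map_zero, V.ht]
        ring) (z := mv 0 r) (by simp [bf, hv])
  exact mul_ne_zero ht' hu this

theorem five_odd (h : Hy p A T) (h2 : (2 : K) ≠ 0) {m : V K} (hm : Cn A m) (hv : m.v = 0)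
    (ht : m.t ≠ 0) : m.w = 0 ∧ m.s = 0 := by
  have hw : m.w = 0 := by_contra fun hw => by
    obtain ⟨u, hu, e⟩ := exists_root_odd h2 m.ht ht hw
    refine key h hm hm hv hv ht ht hu ?_
    rw [mul_add, tr_add, mul_left_comm u, tr_smul m.ht]
    linear_combination m.t * e
  refine ⟨hw, by_contra fun hs => ?_⟩
  obtain ⟨δ, hδ, eδ⟩ := exists_sg h
  obtain ⟨u, hu⟩ := exists_nm (c := 2 * m.s / m.t) (by simp [map_ofNat])
  refine key h hm (hm.map hδ) hv (by simp [eδ, sg, hv]) ht (by simpa [eδ, sg]) (u := u)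
    (fun e => div_ne_zero (mul_ne_zero h2 hs) ht (by rw [← hu, e, nm_zero])) ?_
  simp only [eδ, sg, hw, hu, mul_zero, add_zero, tr_zero]
  field_simp
  ring

theorem conj_two (h : Hy p A T) (hp : p = 2) {γ : Perm (V K)} (hγ : γ ∈ A) (hs : ¬ StabL γ) {u : K}
    (hu : u ≠ 0) : ∃ g ∈ A, g * xp u * g⁻¹ = γ * xp 1 * γ⁻¹ := by
  subst hp
  have h2 : (2 : K) = 0 := CharTwo.two_eq_zero
  have sq : ∀ a : K, xp a * xp a = 1 := fun a => by rw [xp_mul, ← two_mul, h2, zero_mul, xp_zero]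
  have hc : γ * xp 1 * γ⁻¹ ∈ A := mul_mem (mul_mem hγ (h.xp_mem _)) (inv_mem hγ)
  rcases dihedral (sq u) (c := γ * xp 1 * γ⁻¹) (by
    rw [show γ * xp 1 * γ⁻¹ * (γ * xp 1 * γ⁻¹) = γ * (xp 1 * xp 1) * γ⁻¹ by group, sq]; simp) with
    ⟨n, e⟩ | ⟨n, h₁, h₂, h₃, h₄⟩
  · exact ⟨_, pow_mem (mul_mem (h.xp_mem u) hc) n, e⟩
  have hz := pow_mem (mul_mem (h.xp_mem u) hc) n
  generalize (xp u * (γ * xp 1 * γ⁻¹)) ^ n = z at h₁ h₂ h₃ h₄ hz
  obtain ⟨y, ey⟩ := mem_T h.toHyp hz (h.ti hz hu fun x => DFunLike.congr_fun h₃ x) h₂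
  have hz' : γ⁻¹ * z * γ ∈ A := mul_mem (mul_mem (inv_mem hγ) hz) hγ
  obtain ⟨y', ey'⟩ := mem_T h.toHyp hz' (h.ti hz' one_ne_zero (u' := 1) fun x => γ.injective <| by
    simpa using DFunLike.congr_fun h₄ (γ x)) (by
      have := conj_pow (a := γ⁻¹) (b := z) (i := 2)
      rw [inv_inv] at this
      rw [this, h₂]; simp)
  refine absurd (h.ti' hγ (inL_ev 1) ev_one_ne (u := y) (fun e => h₁ (Perm.ext fun x => by
    simp [ey, e])) ?_) hs
  have := ey' (ev 1)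
  rw [xx_L _ (inL_ev 1)] at this
  rw [← ey]
  exact Perm.inv_eq_iff_eq.1 this

theorem tor_two (h : Hy p A T) (hp : p = 2) (hq : Tf.q K = 2) (hγ : ∃ γ ∈ A, ¬ StabL γ) (l : Kˣ) :
    DV A l 1 (RingEquiv.refl K) := by
  classical
  obtain ⟨γ, hγ, hs⟩ := hγ
  have h₁ : ∀ l : Kˣ, ∃ σ, DV A l 1 σ := fun l => by
    obtain ⟨g, hg, e⟩ := conj_two h hp hγ hs (u := 1) one_ne_zero
    obtain ⟨g', hg', e'⟩ := conj_two h hp hγ hs l.ne_zero
    have e₁ : ∀ x, (g'⁻¹ * g) (xx 1 x) = xx (l : K) ((g'⁻¹ * g) x) := fun x => g'.injective <| by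
      simpa using DFunLike.congr_fun (e.trans e'.symm) (g x)
    have hm := mul_mem (inv_mem hg') hg
    obtain ⟨u, l', m, σ, hd, e₂⟩ := dv_of_stab h hm (h.ti hm one_ne_zero e₁)
    have hm1 : m = 1 := Subtype.ext (Units.ext
      ((eq_of_q_two hq (th_ku m)).resolve_left (m : Kˣ).ne_zero))
    have := congrArg V.v (e₁ (fv 1))
    rw [e₂, e₂] at this
    obtain rfl : l' = l := Units.ext (by simpa [hm1, add_comm] using this)
    exact ⟨σ, hm1 ▸ hd⟩
  choose σ hσ using h₁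
  have hc : Nat.card Kˣ = 7 := by rw [Nat.card_units, card_K, hq]; rfl
  obtain ⟨ζ, hζ⟩ := IsCyclic.exists_monoid_generator (α := Kˣ)
  obtain ⟨l₁, -, l₂, -, hne, e⟩ := Finset.exists_ne_map_eq_of_card_lt_of_maps_to
    (s := Finset.univ) (t := {(ζ : K), th (ζ : K), th (th (ζ : K))}) (f := fun l => σ l ζ)
    (Finset.card_le_three.trans_lt (by rw [Finset.card_univ, ← Nat.card_eq_fintype_card, hc]; omega))
    fun l _ => by
      simpa using gal_apply (σ := σ l) (fun c hc => by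
        rcases eq_of_q_two hq hc with rfl | rfl <;> simp) ζ
  have e' : ∀ x, σ l₁ x = σ l₂ x := fun x => by
    rcases eq_or_ne x 0 with rfl | h0
    · simp
    obtain ⟨n, hn⟩ := hζ (Units.mk0 x h0)
    rw [show x = (ζ : K) ^ n by simpa using (congrArg Units.val hn).symm, map_pow, map_pow]
    exact congrArg (· ^ n) e
  let S : Subgroup Kˣ :=
    { carrier := {l | DV A l 1 (RingEquiv.refl K)}
      one_mem' := ⟨1, one_mem _, fun x => by ext <;> simp⟩
      mul_mem' := fun ⟨β, hβ, e⟩ ⟨β', hβ', e'⟩ => ⟨β * β', mul_mem hβ hβ', fun x => by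
        ext <;> simp [e, e', sh_mul, nm_mul, mul_assoc]⟩
      inv_mem' := fun {l} ⟨β, hβ, e⟩ => ⟨β⁻¹, inv_mem hβ, fun x => Perm.inv_eq_iff_eq.2 <| by
        have := sh_ne_zero l.ne_zero
        have := nm_ne_zero l.ne_zero
        ext <;> simp [e, sh_inv, nm_inv, *]⟩ }
  have : Fact (Nat.card Kˣ).Prime := ⟨by rw [hc]; norm_num⟩
  refine ((S.eq_bot_or_eq_top_of_prime_card).resolve_left fun hS => hne ?_).ge (mem_top l)
  obtain ⟨β₁, hβ₁, e₁⟩ := hσ l₁
  obtain ⟨β₂, hβ₂, e₂⟩ := hσ l₂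
  refine mul_inv_eq_one.1 (mem_bot.1 (hS.le ⟨β₁ * β₂⁻¹, mul_mem hβ₁ (inv_mem hβ₂), fun x => ?_⟩))
  obtain ⟨x, rfl⟩ := β₂.surjective x
  have := sh_ne_zero l₂.ne_zero
  have := nm_ne_zero l₂.ne_zero
  rw [Perm.mul_apply, Perm.coe_inv, symm_apply_apply]
  ext <;> simp [e₁, e₂, e', sh_mul, nm_mul, sh_inv, nm_inv, mul_assoc, *]

theorem five (h : Hy p A T) [Fact p.Prime] (hγ : ∃ γ ∈ A, ¬ StabL γ) {m : V K} (hm : Cn A m)
    (hv : m.v = 0) (ht : m.t ≠ 0) : m.w = 0 ∧ m.s = 0 := by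
  by_cases h2 : (2 : K) = 0
  swap
  · exact five_odd h h2 hm hv ht
  have hs : m.s = 0 := by simpa [qf, hv, ht] using hm.qf h.toHyp h2
  refine ⟨by_contra fun hw => ?_, hs⟩
  obtain ⟨l, μ, hl, β, hβ, e⟩ : ∃ (l : Kˣ) (μ : ku K), (l : K) ≠ 1 ∧ DV A l μ (RingEquiv.refl K) := by
    by_cases hq : Tf.q K = 2
    · obtain ⟨l, hl, hl'⟩ := exists_nm_one K
      exact ⟨Units.mk0 l fun e => by simp [e] at hl, 1, hl',
        tor_two h ((two_eq_zero_iff p).1 h2) hq hγ _⟩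
    · obtain ⟨μ, hμ⟩ := exists_ku_ne hq
      exact ⟨(μ : Kˣ)⁻¹, _, by simpa using hμ, h.hh μ⟩
  obtain ⟨u, hu, eu⟩ := exists_root_two h2 m.ht ht (w := (sh (l : K) + 1) * m.w)
    (mul_ne_zero (fun e => hl (by
      have e' : sh (l : K) = 1 := by linear_combination e - h2
      have := sh_of_fix (fix_of_sh (by rw [e', map_one]))
      rw [e', eq_comm, sq_eq_one_iff] at this
      rcases this with e | e
      · exact e
      · linear_combination e - h2)) hw)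
  refine key h hm (hm.map hβ) hv (by simp [e, hv]) ht (by simp [e, ht]) hu ?_
  have : u * (m.t * (β m).w + (β m).t * m.w) = (μ : Kˣ) * m.t * (u * ((sh (l : K) + 1) * m.w)) := by
    simp [e]; ring
  rw [this, tr_smul (by simp)]
  simp only [e, dv_t, dv_s, hs, RingEquiv.refl_apply]
  linear_combination ((μ : Kˣ) * m.t) * eu

/-- The line `L₀`. -/
def InF (x : V K) : Prop := x.v = 0 ∧ x.w = 0 ∧ x.s = 0

theorem form (h : Hy p A T) [Fact p.Prime] (hγ : ∃ γ ∈ A, ¬ StabL γ) {m : V K} (hm : Cn A m)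
    (ht : m.t ≠ 0) : InF (xx (-(m.v / m.t)) m) := by
  have hv : (xx (-(m.v / m.t)) m).v = 0 := by simp only [xx_v]; field_simp; ring
  exact ⟨hv, five h hγ (hm.map (h.xp_mem _)) hv ht⟩

theorem orb (h : Hy p A T) [Fact p.Prime] (hα : α ∈ A) (hs : ¬ StabL α) :
    ∃ u, ∀ x, InL x → InF (xx u (α x)) := by
  have hc : ∀ x, InL x → Cn A (α x) := fun x hx => (cn_L A hx).map hα
  have ht : (α (ev 1)).t ≠ 0 := fun e =>
    hs (h.stab_of hα (inL_ev 1) ev_one_ne ((hc _ (inL_ev 1)).inL' h e))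
  have hf := form h ⟨α, hα, hs⟩ (hc _ (inL_ev 1)) ht
  generalize -((α (ev 1)).v / (α (ev 1)).t) = u at hf
  refine ⟨u, fun x hx => ?_⟩
  have := fun z => perp_perp h ((hc _ (inL_ev 1)).map (h.xp_mem u)) ((hc _ hx).map (h.xp_mem u))
    (fun e => ht (by simpa using congrArg V.t e)) (by
      rw [xp_apply, xp_apply, bf_xx]
      exact h.perp hα (by simp [bf_L (inL_ev 1), hx.1])) (z := z)
  simp only [xp_apply] at this
  generalize xx _ (α (ev 1)) = m at hf this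
  generalize xx _ (α x) = m' at this
  refine ⟨eq_zero_of_tr fun r => ?_, eq_zero_of_tr fun r => ?_, ?_⟩
  · simpa [bf] using this (mv 0 r) (by simp [bf, hf.1])
  · simpa [bf, mul_comm] using this (mv r 0) (by simp [bf, hf.2.1])
  · simpa [bf] using this (fv 1) (by simp [bf, hf.2.2])

end Cfsg.Agent.D4.Co
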