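import Cfsg.Prelude.Def_LieTwisted
import Cfsg.Agent.Lib.U5.QF
import Cfsg.Agent.Lib.U5.Final

/-!
The Sylow subgroup of `³D₄(q)` in coordinates and the interface statements (docs/D4_PLAN.md).
-/

set_option autoImplicit false

namespace Cfsg.Agent.D4

open Cfsg.Agent.Fus Cfsg.Agent.Fus2 Subgroup

/-- A finite field of order `q³` with the automorphism `x ↦ x ^ q`. -/
class Tf (K : Type) [Field K] [Fintype K] where
  q : ℕ
  th : K ≃+* K
  th_eq : ∀ x : K, th x = x ^ q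
  card_eq : Fintype.card K = q ^ 3

export Tf (th)

variable {K : Type} [Field K] [Fintype K] [Tf K]

@[simp] theorem th3 (x : K) : th (th (th x)) = x := by
  simp only [Tf.th_eq, ← pow_mul]
  rw [show Tf.q K * Tf.q K * Tf.q K = Fintype.card K by rw [Tf.card_eq]; ring,
    FiniteField.pow_card]

theorem map_th (σ : K ≃+* K) (x : K) : σ (th x) = th (σ x) := by
  rw [Tf.th_eq, Tf.th_eq, map_pow]

/-- The trace to the fixed field `k`. -/
def tr (x : K) : K := x + th x + th (th x)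

/-- The adjoint `x^# = x^(q + q²)`. -/
def sh (x : K) : K := th x * th (th x)

/-- The norm to the fixed field `k`. -/
def nm (x : K) : K := x * th x * th (th x)

/-- The polarisation of the adjoint. -/
def cr (x y : K) : K := th x * th (th y) + th (th x) * th y

@[simp] theorem th_tr (x : K) : th (tr x) = tr x := by simp only [tr, map_add, th3]; ring
@[simp] theorem th_nm (x : K) : th (nm x) = nm x := by simp only [nm, map_mul, th3]; ring

/-- The elements `x_β(t) x_{α+β}(v) x_{2α+β}(w) x_{3α+β}(s) x_{3α+2β}(z) x_α(u)`. -/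
@[ext] structure P (K : Type) [Field K] [Fintype K] [Tf K] where
  t : K
  u : K
  v : K
  w : K
  s : K
  z : K
  ht : th t = t
  hs : th s = s
  hz : th z = z

attribute [simp] P.ht P.hs P.hz

namespace P

instance : Mul (P K) := ⟨fun x y =>
  { t := x.t + y.t
    u := x.u + y.u
    v := x.v + y.v + y.t * x.u
    w := x.w + y.w + cr x.u y.v + y.t * sh x.u
    s := x.s + y.s + tr (x.u * y.w) + tr (sh x.u * y.v) + y.t * nm x.u
    z := x.z + y.z - y.t * x.s + tr (y.v * x.w) + y.t * tr (x.u * x.w) + tr (x.u * sh y.v) +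
      y.t * tr (sh x.u * y.v) + y.t ^ 2 * nm x.u
    ht := by simp
    hs := by simp
    hz := by simp }⟩

instance : One (P K) := ⟨⟨0, 0, 0, 0, 0, 0, by simp, by simp, by simp⟩⟩

instance : Inv (P K) := ⟨fun x =>
  { t := -x.t
    u := -x.u
    v := x.t * x.u - x.v
    w := cr x.u x.v - x.w - x.t * sh x.u
    s := tr (x.u * x.w) - x.s - tr (sh x.u * x.v) + x.t * nm x.u
    z := tr (x.v * x.w) - x.z - x.t * x.s - tr (x.u * sh x.v) + x.t * tr (sh x.u * x.v) -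
      x.t ^ 2 * nm x.u
    ht := by simp
    hs := by simp
    hz := by simp }⟩

@[simp] theorem mul_t (x y : P K) : (x * y).t = x.t + y.t := rfl
@[simp] theorem mul_u (x y : P K) : (x * y).u = x.u + y.u := rfl
@[simp] theorem mul_v (x y : P K) : (x * y).v = x.v + y.v + y.t * x.u := rfl
@[simp] theorem mul_w (x y : P K) : (x * y).w = x.w + y.w + cr x.u y.v + y.t * sh x.u := rfl
@[simp] theorem mul_s (x y : P K) : (x * y).s =
    x.s + y.s + tr (x.u * y.w) + tr (sh x.u * y.v) + y.t * nm x.u := rfl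
@[simp] theorem mul_z (x y : P K) : (x * y).z =
    x.z + y.z - y.t * x.s + tr (y.v * x.w) + y.t * tr (x.u * x.w) + tr (x.u * sh y.v) +
      y.t * tr (sh x.u * y.v) + y.t ^ 2 * nm x.u := rfl
@[simp] theorem one_t : (1 : P K).t = 0 := rfl
@[simp] theorem one_u : (1 : P K).u = 0 := rfl
@[simp] theorem one_v : (1 : P K).v = 0 := rfl
@[simp] theorem one_w : (1 : P K).w = 0 := rfl
@[simp] theorem one_s : (1 : P K).s = 0 := rfl
@[simp] theorem one_z : (1 : P K).z = 0 := rfl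
@[simp] theorem inv_t (x : P K) : x⁻¹.t = -x.t := rfl
@[simp] theorem inv_u (x : P K) : x⁻¹.u = -x.u := rfl
@[simp] theorem inv_v (x : P K) : x⁻¹.v = x.t * x.u - x.v := rfl
@[simp] theorem inv_w (x : P K) : x⁻¹.w = cr x.u x.v - x.w - x.t * sh x.u := rfl
@[simp] theorem inv_s (x : P K) : x⁻¹.s =
    tr (x.u * x.w) - x.s - tr (sh x.u * x.v) + x.t * nm x.u := rfl
@[simp] theorem inv_z (x : P K) : x⁻¹.z =
    tr (x.v * x.w) - x.z - x.t * x.s - tr (x.u * sh x.v) + x.t * tr (sh x.u * x.v) -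
      x.t ^ 2 * nm x.u := rfl

instance : Group (P K) := Group.ofLeftAxioms
  (fun x y w => by
    ext <;> simp only [mul_t, mul_u, mul_v, mul_w, mul_s, mul_z, tr, sh, nm, cr, map_add, map_mul,
      th3, ht] <;> ring)
  (fun x => by ext <;> simp [tr, sh, nm, cr])
  (fun x => by
    ext <;> simp only [mul_t, mul_u, mul_v, mul_w, mul_s, mul_z, inv_t, inv_u, inv_v, inv_w, inv_s,
      inv_z, one_t, one_u, one_v, one_w, one_s, one_z, tr, sh, nm, cr, map_add, map_sub, map_neg,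
      map_mul, th3, ht] <;> ring)

instance : Finite (P K) :=
  Finite.of_injective (fun x : P K => (x.t, x.u, x.v, x.w, x.s, x.z)) fun x y h => by
    simp only [Prod.mk.injEq] at h
    exact P.ext h.1 h.2.1 h.2.2.1 h.2.2.2.1 h.2.2.2.2.1 h.2.2.2.2.2

end P

variable (K)

/-- `Q = q^{1+8}`, of order `q⁹`. -/
def Q : Subgroup (P K) where
  carrier := {x | x.u = 0}
  one_mem' := rfl
  mul_mem' := fun {x y} hx hy => by simp_all
  inv_mem' := fun {x} hx => by simp_all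

/-- `R = C_S(Z₂)`, of order `q¹¹`. -/
def R : Subgroup (P K) where
  carrier := {x | x.t = 0}
  one_mem' := rfl
  mul_mem' := fun {x y} hx hy => by simp_all
  inv_mem' := fun {x} hx => by simp_all

/-- `Z₄ = S' = Q ∩ R`, of order `q⁸`. -/
def Z4 : Subgroup (P K) where
  carrier := {x | x.t = 0 ∧ x.u = 0}
  one_mem' := ⟨rfl, rfl⟩
  mul_mem' := fun {x y} hx hy => by simp_all
  inv_mem' := fun {x} hx => by simp_all

/-- `Z₃`, elementary abelian of order `q⁵`. -/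
def Z3 : Subgroup (P K) where
  carrier := {x | x.t = 0 ∧ x.u = 0 ∧ x.v = 0}
  one_mem' := ⟨rfl, rfl, rfl⟩
  mul_mem' := fun {x y} hx hy => by simp_all
  inv_mem' := fun {x} hx => by simp_all

/-- `Z₂ = Z(R)`, of order `q²`. -/
def Z2 : Subgroup (P K) where
  carrier := {x | x.t = 0 ∧ x.u = 0 ∧ x.v = 0 ∧ x.w = 0}
  one_mem' := ⟨rfl, rfl, rfl, rfl⟩
  mul_mem' := fun {x y} hx hy => by simp_all [cr]
  inv_mem' := fun {x} hx => by simp_all [cr]

/-- `Z(S)`, of order `q`. -/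
def Z : Subgroup (P K) where
  carrier := {x | x.t = 0 ∧ x.u = 0 ∧ x.v = 0 ∧ x.w = 0 ∧ x.s = 0}
  one_mem' := ⟨rfl, rfl, rfl, rfl, rfl⟩
  mul_mem' := fun {x y} hx hy => by simp_all [cr, tr]
  inv_mem' := fun {x} hx => by simp_all [cr, tr]

/-- The units of the fixed field. -/
def ku : Subgroup Kˣ where
  carrier := {m | th (m : K) = m}
  one_mem' := by simp
  mul_mem' := fun {x y} hx hy => by simp_all
  inv_mem' := fun {x} hx => by simp_all

variable {K}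

theorem mem_Q {x : P K} : x ∈ Q K ↔ x.u = 0 := Iff.rfl
theorem mem_R {x : P K} : x ∈ R K ↔ x.t = 0 := Iff.rfl
theorem mem_Z4 {x : P K} : x ∈ Z4 K ↔ x.t = 0 ∧ x.u = 0 := Iff.rfl
theorem mem_Z3 {x : P K} : x ∈ Z3 K ↔ x.t = 0 ∧ x.u = 0 ∧ x.v = 0 := Iff.rfl
theorem mem_Z2 {x : P K} : x ∈ Z2 K ↔ x.t = 0 ∧ x.u = 0 ∧ x.v = 0 ∧ x.w = 0 := Iff.rfl
theorem mem_Z {x : P K} : x ∈ Z K ↔ x.t = 0 ∧ x.u = 0 ∧ x.v = 0 ∧ x.w = 0 ∧ x.s = 0 := Iff.rfl
theorem mem_ku {m : Kˣ} : m ∈ ku K ↔ th (m : K) = m := Iff.rfl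

@[simp] theorem th_ku (m : ku K) : th ((m : Kˣ) : K) = (m : Kˣ) := m.2

/-- The underlying map of `dg`. -/
def dgFun (l m : K) (hm : th m = m) (σ : K ≃+* K) (x : P K) : P K where
  t := m * σ x.t
  u := l * σ x.u
  v := l * m * σ x.v
  w := sh l * m * σ x.w
  s := nm l * m * σ x.s
  z := nm l * m ^ 2 * σ x.z
  ht := by simp [← map_th, hm]
  hs := by simp [← map_th, hm]
  hz := by simp [← map_th, hm]

/-- Diagonal and field automorphisms. -/
def dg (l : Kˣ) (m : ku K) (σ : K ≃+* K) : MulAut (P K) where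
  toFun := dgFun l (m : Kˣ) m.2 σ
  invFun := dgFun (σ.symm (l⁻¹ : Kˣ)) (σ.symm ((m⁻¹ : ku K) : Kˣ)) (by rw [← map_th, th_ku]) σ.symm
  left_inv x := by
    have hl : (l : K) ≠ 0 := l.ne_zero
    have hm : ((m : Kˣ) : K) ≠ 0 := (m : Kˣ).ne_zero
    have h₁ : th (l : K) ≠ 0 := (map_ne_zero _).2 hl
    have h₂ : th (th (l : K)) ≠ 0 := (map_ne_zero _).2 h₁
    ext <;> apply σ.injective <;> simp [dgFun, map_th, sh, nm] <;> field_simp
  right_inv x := by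
    have hl : (l : K) ≠ 0 := l.ne_zero
    have hm : ((m : Kˣ) : K) ≠ 0 := (m : Kˣ).ne_zero
    have h₁ : th (l : K) ≠ 0 := (map_ne_zero _).2 hl
    have h₂ : th (th (l : K)) ≠ 0 := (map_ne_zero _).2 h₁
    ext <;> simp [dgFun, map_th, sh, nm] <;> field_simp
  map_mul' x y := by
    ext <;> simp only [dgFun, P.mul_t, P.mul_u, P.mul_v, P.mul_w, P.mul_s, P.mul_z, tr, sh, nm, cr,
      map_add, map_sub, map_mul, map_pow, map_th, th3, th_ku] <;> ring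

@[simp] theorem dg_t (l : Kˣ) (m : ku K) (σ : K ≃+* K) (x : P K) :
    (dg l m σ x).t = (m : Kˣ) * σ x.t := rfl
@[simp] theorem dg_u (l : Kˣ) (m : ku K) (σ : K ≃+* K) (x : P K) :
    (dg l m σ x).u = l * σ x.u := rfl
@[simp] theorem dg_v (l : Kˣ) (m : ku K) (σ : K ≃+* K) (x : P K) :
    (dg l m σ x).v = l * (m : Kˣ) * σ x.v := rfl
@[simp] theorem dg_w (l : Kˣ) (m : ku K) (σ : K ≃+* K) (x : P K) :
    (dg l m σ x).w = sh (l : K) * (m : Kˣ) * σ x.w := rfl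
@[simp] theorem dg_s (l : Kˣ) (m : ku K) (σ : K ≃+* K) (x : P K) :
    (dg l m σ x).s = nm (l : K) * (m : Kˣ) * σ x.s := rfl
@[simp] theorem dg_z (l : Kˣ) (m : ku K) (σ : K ≃+* K) (x : P K) :
    (dg l m σ x).z = nm (l : K) * (m : Kˣ) ^ 2 * σ x.z := rfl

/-- The torus of the long root `SL₂(q)`: weights `μ², μ⁻¹, μ, 1, μ⁻¹, μ` on `t, u, v, w, s, z`. -/
def hh (μ : ku K) : MulAut (P K) := dg (μ : Kˣ)⁻¹ (μ ^ 2) (RingEquiv.refl K)

/-- `f` is an `F`-automorphism of `E`. -/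
def Au (F : FusionSystem (⊤ : Subgroup (P K))) (E : Subgroup (P K)) (f : P K → P K) : Prop :=
  M F E f ∧ ∀ x ∈ E, f x ∈ E

/-- Normal form: `Aut_F(S)` consists of inner times diagonal-field automorphisms. -/
def NF (F : FusionSystem (⊤ : Subgroup (P K))) : Prop :=
  ∀ f, M F ⊤ f → ∃ (x : P K) (l : Kˣ) (m : ku K) (σ : K ≃+* K), ∀ y, f y = x * dg l m σ y * x⁻¹

/-- `Aut_F(Q)` moves `Z₂`. -/
def MvQ (F : FusionSystem (⊤ : Subgroup (P K))) : Prop :=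
  ∃ f, Au F (Q K) f ∧ ∃ x ∈ Z2 K, f x ∉ Z2 K

/-- `Aut_F(R)` moves `Z₄`. -/
def MvR (F : FusionSystem (⊤ : Subgroup (P K))) : Prop :=
  ∃ f, Au F (R K) f ∧ ∃ x ∈ Z4 K, f x ∉ Z4 K

/-- The module `Q / Z` with coordinates `(t, v, w, s)`. -/
@[ext] structure V (K : Type) [Field K] [Fintype K] [Tf K] where
  t : K
  v : K
  w : K
  s : K
  ht : th t = t
  hs : th s = s

attribute [simp] V.ht V.hs

namespace V

instance : Add (V K) := ⟨fun x y => ⟨x.t + y.t, x.v + y.v, x.w + y.w, x.s + y.s, by simp, by simp⟩⟩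
instance : Zero (V K) := ⟨⟨0, 0, 0, 0, by simp, by simp⟩⟩
instance : Neg (V K) := ⟨fun x => ⟨-x.t, -x.v, -x.w, -x.s, by simp, by simp⟩⟩

@[simp] theorem add_t (x y : V K) : (x + y).t = x.t + y.t := rfl
@[simp] theorem add_v (x y : V K) : (x + y).v = x.v + y.v := rfl
@[simp] theorem add_w (x y : V K) : (x + y).w = x.w + y.w := rfl
@[simp] theorem add_s (x y : V K) : (x + y).s = x.s + y.s := rfl
@[simp] theorem zero_t : (0 : V K).t = 0 := rfl
@[simp] theorem zero_v : (0 : V K).v = 0 := rfl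
@[simp] theorem zero_w : (0 : V K).w = 0 := rfl
@[simp] theorem zero_s : (0 : V K).s = 0 := rfl
@[simp] theorem neg_t (x : V K) : (-x).t = -x.t := rfl
@[simp] theorem neg_v (x : V K) : (-x).v = -x.v := rfl
@[simp] theorem neg_w (x : V K) : (-x).w = -x.w := rfl
@[simp] theorem neg_s (x : V K) : (-x).s = -x.s := rfl

instance : AddCommGroup (V K) :=
  { AddGroup.ofLeftAxioms (fun x y w => by ext <;> simp [add_assoc]) (fun x => by ext <;> simp)
      (fun x => by ext <;> simp) with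
    add_comm := fun x y => by ext <;> simp [add_comm] }

instance : Finite (V K) :=
  Finite.of_injective (fun x : V K => (x.t, x.v, x.w, x.s)) fun x y h => by
    simp only [Prod.mk.injEq] at h
    exact V.ext h.1 h.2.1 h.2.2.1 h.2.2.2

end V

/-- The commutator form on `Q / Z`. -/
def bf (x y : V K) : K := x.t * y.s - y.t * x.s - tr (x.v * y.w) + tr (y.v * x.w)

/-- The squaring form on `Q / Z` in characteristic two. -/
def qf (x : V K) : K := x.t * x.s + tr (x.v * x.w)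

/-- The action on `Q / Z` of an element of `S` with `u`-coordinate `u`. -/
def xx (u : K) (x : V K) : V K :=
  ⟨x.t, x.v + x.t * u, x.w + cr u x.v + x.t * sh u,
    x.s + tr (u * x.w) + tr (sh u * x.v) + x.t * nm u, by simp, by simp⟩

/-- The action of `dg l m σ` on `Q / Z`. -/
def dv (l : Kˣ) (m : ku K) (σ : K ≃+* K) (x : V K) : V K :=
  ⟨(m : Kˣ) * σ x.t, l * (m : Kˣ) * σ x.v, sh (l : K) * (m : Kˣ) * σ x.w,
    nm (l : K) * (m : Kˣ) * σ x.s, by simp [← map_th], by simp [← map_th]⟩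

/-- The line `Z₂ / Z`. -/
def InL (x : V K) : Prop := x.t = 0 ∧ x.v = 0 ∧ x.w = 0

/-- `α` stabilises the line `Z₂ / Z`. -/
def StabL (α : Equiv.Perm (V K)) : Prop := ∀ x, InL x → InL (α x)

/-- Row Y: `Z₃` is invariant as soon as `Z₂` is (used with `E = Z₄` and for essential `E`). -/
def YStmt : Prop :=
  ∀ {K : Type} [Field K] [Fintype K] [Tf K] {p : ℕ} [Fact p.Prime] [CharP K p]
    {E : Subgroup (P K)}, Z3 K ≤ E → E ≤ R K → ∀ {H : Subgroup (MulAut E)},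
    IsSylowIn p (autInducedBy ⊤ E) H → (∀ β ∈ H, ∀ x ∈ Z2 K, afn β x ∈ Z2 K) →
    ∀ β ∈ H, ∀ x ∈ Z3 K, afn β x ∈ Z3 K

/-- Row EXT: automorphisms stabilising `Z₂` resp. `Z₄` extend to `S`. -/
def ExtStmt : Prop :=
  ∀ {K : Type} [Field K] [Fintype K] [Tf K] {p : ℕ} [Fact p.Prime] [CharP K p]
    {F : FusionSystem (⊤ : Subgroup (P K))}, F.IsSaturated p →
    (∀ f, Au F (Q K) f → (∀ x ∈ Z2 K, f x ∈ Z2 K) → ∃ g, M F ⊤ g ∧ ∀ x ∈ Q K, g x = f x) ∧
    ∀ f, Au F (R K) f → (∀ x ∈ Z4 K, f x ∈ Z4 K) → ∃ g, M F ⊤ g ∧ ∀ x ∈ R K, g x = f x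

/-- Row TI: an `F`-automorphism of `Q` normalising a nontrivial subgroup of `Out_S(Q)` stabilises
`Z₂`. -/
def TiStmt : Prop :=
  ∀ {K : Type} [Field K] [Fintype K] [Tf K] {p : ℕ} [Fact p.Prime] [CharP K p]
    {F : FusionSystem (⊤ : Subgroup (P K))}, F.IsSaturated p → ∀ f, Au F (Q K) f →
    ∀ g g' : P K, g ∉ Q K → (∀ x ∈ Q K, f (g * x * g⁻¹) = g' * f x * g'⁻¹) →
    ∀ x ∈ Z2 K, f x ∈ Z2 K

/-- Row ESS1: essential subgroups inside `Q`, and `Z₂ ≤ E`. -/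
def Ess1Stmt : Prop :=
  ∀ {K : Type} [Field K] [Fintype K] [Tf K] {p : ℕ} [Fact p.Prime] [CharP K p]
    {F : FusionSystem (⊤ : Subgroup (P K))}, F.IsSaturated p → ∀ {E : Subgroup (P K)},
    F.IsEssential p E → (E ≤ Q K → E = Q K) ∧ Z2 K ≤ E

/-- Row ESS2: essential subgroups inside `R`. -/
def Ess2Stmt : Prop :=
  ∀ {K : Type} [Field K] [Fintype K] [Tf K] {p : ℕ} [Fact p.Prime] [CharP K p]
    {F : FusionSystem (⊤ : Subgroup (P K))}, F.IsSaturated p → ∀ {E : Subgroup (P K)},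
    F.IsEssential p E → E ≤ R K → ¬ E ≤ Q K → E = R K

/-- Row ESS3: every essential subgroup containing `Z₂` lies in `Q` or `R`. -/
def Ess3Stmt : Prop :=
  ∀ {K : Type} [Field K] [Fintype K] [Tf K] {p : ℕ} [Fact p.Prime] [CharP K p]
    {F : FusionSystem (⊤ : Subgroup (P K))}, F.IsSaturated p → ∀ {E : Subgroup (P K)},
    F.IsEssential p E → Z2 K ≤ E → E ≤ Q K ∨ E ≤ R K

/-- Row NRM: after conjugating by an automorphism of `S`, the system is in normal form. -/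
def NrmStmt : Prop :=
  ∀ {K : Type} [Field K] [Fintype K] [Tf K] {p : ℕ} [Fact p.Prime] [CharP K p]
    {F : FusionSystem (⊤ : Subgroup (P K))}, F.IsSaturated p → ∃ θ : MulAut (P K),
    ∀ f, M F ⊤ f → ∃ (x : P K) (l : Kˣ) (m : ku K) (σ : K ≃+* K), ∀ y,
      θ (f (θ⁻¹ y)) = x * dg l m σ y * x⁻¹

/-- Row CORE: recognition of `SL₂(q³)` on `Q / Z`. -/
def CoreStmt : Prop :=
  ∀ {K : Type} [Field K] [Fintype K] [Tf K] {p : ℕ} [Fact p.Prime] [CharP K p]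
    {A T : Subgroup (Equiv.Perm (V K))}, IsSylowIn p T A → (∀ α, α ∈ T ↔ ∃ u, ∀ x, α x = xx u x) →
    (∀ α ∈ A, ∀ x y, α (x + y) = α x + α y) →
    (∀ α ∈ A, ∀ x y x' y', bf x y = bf x' y' → bf (α x) (α y) = bf (α x') (α y')) →
    (p = 2 → ∀ α ∈ A, ∀ x, qf x = 0 → qf (α x) = 0) →
    (∀ α ∈ A, StabL α → ∃ u l m σ, ∀ x, α x = xx u (dv l m σ x)) →
    (∀ μ : ku K, ∃ α ∈ A, ∀ x, α x = dv (μ : Kˣ)⁻¹ (μ ^ 2) (RingEquiv.refl K) x) →
    (∃ γ ∈ A, ¬ StabL γ) →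
    (∀ a ≠ 0, ∃ n ∈ A, ∀ x, (n x).t = nm a * x.s ∧ (n x).v = -(sh a / a) * x.w ∧
      (n x).w = a / sh a * x.v ∧ (n x).s = -x.t / nm a) ∧
    ∀ α ∈ A, StabL α ∨ ∃ u, ∀ x, InL x → (xx u (α x)).v = 0 ∧ (xx u (α x)).w = 0 ∧
      (xx u (α x)).s = 0

/-- Row L1: the structure of `Aut_F(Q)`. -/
def L1Stmt : Prop :=
  ∀ {K : Type} [Field K] [Fintype K] [Tf K] {p : ℕ} [Fact p.Prime] [CharP K p]
    {F : FusionSystem (⊤ : Subgroup (P K))}, F.IsSaturated p → NF F → MvQ F →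
    (∀ μ, M F ⊤ (hh μ)) →
    (∀ l m, M F ⊤ (dg l m (RingEquiv.refl K))) ∧ ∃ n, Au F (Q K) n ∧
      (∀ x ∈ Q K, (n x).t = -x.s ∧ (n x).v = x.w ∧ (n x).w = -x.v ∧ (n x).s = x.t) ∧
      ∀ f, Au F (Q K) f → (∀ x ∈ Z2 K, f x ∈ Z2 K) ∨
        ∃ g, ∀ x ∈ Z2 K, n (g * f x * g⁻¹) ∈ Z2 K

/-- Row L2: the structure of `Aut_F(R)`. -/
def L2Stmt : Prop :=
  ∀ {K : Type} [Field K] [Fintype K] [Tf K] {p : ℕ} [Fact p.Prime] [CharP K p]
    {F : FusionSystem (⊤ : Subgroup (P K))}, F.IsSaturated p → NF F → MvR F →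
    (∀ μ, M F ⊤ (hh μ)) ∧ ∃ n, Au F (R K) n ∧
      (∀ x ∈ R K, (n x).u = x.v ∧ (n x).v = -x.u) ∧
      ∀ f, Au F (R K) f → (∀ x ∈ Z4 K, f x ∈ Z4 K) ∨
        ∃ g, ∀ x ∈ Z4 K, n (g * f x * g⁻¹) ∈ Z4 K

/-- Row CMP: the automizers of `Q`, `R` are determined by `Aut_F(S)`. -/
def CmpStmt : Prop :=
  ∀ {K : Type} [Field K] [Fintype K] [Tf K] {p : ℕ} [Fact p.Prime] [CharP K p]
    {F F' : FusionSystem (⊤ : Subgroup (P K))}, F.IsSaturated p → F'.IsSaturated p → NF F →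
    (∀ f, M F ⊤ f ↔ M F' ⊤ f) → MvQ F → MvR F → MvQ F' → MvR F' →
    (∀ f, Au F (Q K) f → M F' (Q K) f) ∧ ∀ f, Au F (R K) f → M F' (R K) f

/-- Row MODEL: the group `³D₄(q) ⋊ (field automorphisms)`. -/
def ModelStmt : Prop :=
  ∀ {K : Type} [Field K] [Fintype K] [Tf K] {p : ℕ} [Fact p.Prime] [CharP K p]
    (H : Subgroup (MulAut (P K))), (∀ h ∈ H, ∃ l m σ, h = dg l m σ) → ¬ p ∣ Nat.card H →
    (∀ l m, dg l m (RingEquiv.refl K) ∈ H) →
    ∃ (G : Type) (_ : Group G) (_ : Finite G) (ι : P K →* G), Function.Injective ι ∧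
      (∃ T : Sylow p G, (T : Subgroup G) = ι.range) ∧
      (∀ g : G, (∀ y, ∃ y', g * ι y * g⁻¹ = ι y') →
        ∃ x, ∃ h ∈ H, ∀ y, g * ι y * g⁻¹ = ι (x * h y * x⁻¹)) ∧
      (∀ h ∈ H, ∃ g : G, ∀ y, g * ι y * g⁻¹ = ι (h y)) ∧
      (∃ g : G, ∀ y ∈ Q K, ∃ y' ∈ Q K, g * ι y * g⁻¹ = ι y' ∧ y'.t = -y.s) ∧
      ∃ g : G, ∀ y ∈ R K, ∃ y' ∈ R K, g * ι y * g⁻¹ = ι y' ∧ y'.u = y.v

/-- Row SYL: Sylow subgroups of `³D₄(q)`. -/
def SylStmt.{v} : Prop :=
  ∀ {K : Type v} [Field K] [Fintype K] {p : ℕ} [Fact p.Prime] [CharP K p] (n : ℕ), 1 ≤ n →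
    Fintype.card K = (p ^ n) ^ 3 → ∀ T : Sylow p (Cfsg.Lie.twistedD4 K (p ^ n)),
    ∃ (K₀ : Type) (_ : Field K₀) (_ : Fintype K₀) (_ : Tf K₀) (_ : CharP K₀ p),
      Nonempty ((T : Subgroup (Cfsg.Lie.twistedD4 K (p ^ n))) ≃* P K₀)

end Cfsg.Agent.D4
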