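import Cfsg.Agent.Lib.D4.Basic
import Cfsg.Agent.Lib.U5.ESS12

/-!
Row ESS1: an essential subgroup inside `Q` is `Q`, and every essential subgroup contains `Z₂`.
-/

set_option autoImplicit false
set_option linter.unusedSectionVars false
set_option linter.style.haveILetI false

namespace Cfsg.Agent.D4

open Cfsg.Agent.Fus Cfsg.Agent.Fus2 Cfsg.Agent.Ess Subgroup
open U5.E3 (afn_icj afn_comm inv_of_inv relIndex_le le_relIndex)
open U5.E12 (pigeon comm_of_icj icj_of_comm eq_one_of_relIndex)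

namespace E1

variable {K : Type} [Field K] [Fintype K] [Tf K] {p : ℕ} [Fact p.Prime] [CharP K p]

omit [Fintype K] [Tf K] in
theorem eq_three (h : (3 : K) = 0) : p = 3 := by
  rwa [show (3 : K) = (3 : ℕ) by simp, CharP.cast_eq_zero_iff K p,
    Nat.prime_dvd_prime_iff_eq Fact.out Nat.prime_three] at h

/-- A regular element has order `p` only for `p ≠ 2`. -/
theorem two_ne {x : P K} (ht : x.t ≠ 0) (hu : x.u ≠ 0) (hp : x ^ p = 1) : (2 : K) ≠ 0 := fun h => by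
  obtain rfl := (two_eq_zero_iff p).1 h
  have := congrArg P.v hp
  simp only [sq, P.mul_v, P.one_v] at this
  exact mul_ne_zero ht hu (by linear_combination this - x.v * h)

/-- A regular element has order `p` only for `p ≠ 3`. -/
theorem three_ne {x : P K} (ht : x.t ≠ 0) (hu : x.u ≠ 0) (hp : x ^ p = 1) : (3 : K) ≠ 0 :=
  fun h => by
    obtain rfl := eq_three (p := p) h
    have := congrArg P.w hp
    simp only [pow_three, P.mul_w, P.mul_v, P.mul_t, P.one_w, cr_add_right, cr_smul_right x.ht,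
      cr_self] at this
    exact mul_ne_zero ht (sh_ne_zero hu) (by
      linear_combination (x.w + cr x.u x.v + 2 * x.t * sh x.u) * h - this)

theorem afn_pow_char {E : Subgroup (P K)} (β : MulAut E) {x : P K} (hx : x ∈ E) (h : x ∈ Z3 K) :
    afn β x ^ p = 1 := by
  rw [← (homOn_afn β).map_pow hx, pow_char h, (homOn_afn β).map_one]

theorem afn_cen {E : Subgroup (P K)} (β : MulAut E) {z : P K} (hz : z ∈ E) (h : z ∈ Z K) {e : P K}
    (he : e ∈ E) : afn β z * e = e * afn β z := by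
  rw [← afn_afn_inv β e]
  exact afn_comm β hz (afn_mem _ he) (comm_Z h _)

/-- Elements outside `R` move by all of `Z` under `Z₂`. -/
theorem exists_icj_Z2 {x n : P K} (hx : x.t ≠ 0) (hn : n ∈ Z K) :
    ∃ a ∈ Z2 K, x⁻¹ * (a * x * a⁻¹) = n := by
  have ha : xz (-(n.z / x.t)) 0 (by simp) (by simp) ∈ Z2 K := xz_mem_Z2 ..
  refine ⟨_, ha, eq_of_z (icj_mem_Z' ha x) hn ?_⟩
  rw [(icj_Z3' (Z2_le_Z3 ha) x).2]
  simp only [xz_w, xz_s, mul_zero, tr_zero]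
  field_simp
  ring

/-- The commutator form on `Q`. -/
def bp (x y : P K) : K := x.t * y.s - y.t * x.s - tr (x.v * y.w) + tr (y.v * x.w)

theorem th_bp (x y : P K) : th (bp x y) = bp x y := by simp [bp]

theorem bp_mul (x : P K) {a b : P K} (ha : a ∈ Q K) : bp x (a⁻¹ * b) = bp x b - bp x a := by
  have h : a.u = 0 := ha
  simp only [bp, P.mul_t, P.mul_v, P.mul_w, P.mul_s, P.inv_t, P.inv_u, P.inv_v, P.inv_w, P.inv_s, h,
    tr, cr, sh, nm, map_add, map_sub, map_mul, map_neg, map_zero]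
  ring

theorem comm_Q_iff {x y : P K} (hx : x ∈ Q K) (hy : y ∈ Q K) : x * y = y * x ↔ bp x y = 0 := by
  refine ⟨fun h => ?_, fun h => comm_of_icj (eq_of_z (icj_Q_mem hx hy) (one_mem _) ?_)⟩
  · rw [bp, ← icj_Q_z hx hy, icj_of_comm h, P.one_z]
  · rw [icj_Q_z hx hy]; exact h

theorem exists_bp {x : P K} (hx : x ∈ Q K) (hx' : x ∉ Z K) {c : K} (hc : th c = c) :
    ∃ y ∈ Q K, bp x y = c := by
  by_cases ht : x.t = 0
  · by_cases hv : x.v = 0
    · by_cases hw : x.w = 0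
      · have hs : x.s ≠ 0 := fun hs => hx' ⟨ht, hx, hv, hw, hs⟩
        refine ⟨xt (-(c / x.s)) (by simp [hc]), xt_mem_Q .., ?_⟩
        simp [bp, hs]
      · obtain ⟨v, e⟩ := exists_tr_mul hw hc
        exact ⟨xr 0 v 0, rfl, by simp [bp, mul_comm v, e]⟩
    · obtain ⟨w, e⟩ := exists_tr_mul hv (c := -c) (by simp [hc])
      exact ⟨xr 0 0 w, rfl, by simp [bp, e]⟩
  · exact ⟨xz (c / x.t) 0 (by simp [hc]) (by simp), rfl, by simp [bp]; field_simp⟩

theorem exists_pair (a b : K) {c : K} (hc : th c = c) :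
    ∃ v w, tr (a * v) = 0 ∧ tr (b * w) = 0 ∧ tr (v * w) = c := by
  obtain ⟨v, h₁, h₂⟩ := exists_perp_not a b
  by_cases hb : b = 0
  · obtain ⟨w, e⟩ := exists_tr_mul (e := v) (by simpa using h₂ 0 (map_zero _)) hc
    exact ⟨v, w, h₁, by simp [hb], e⟩
  · obtain ⟨w, e, e'⟩ := exists_tr_two hb h₂ (map_zero _) hc
    exact ⟨v, w, h₁, e, e'⟩

variable {F : FusionSystem (⊤ : Subgroup (P K))} (hF : F.IsSaturated p) {E : Subgroup (P K)}
  (hE : F.IsEssential p E)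
include hE

theorem mem_of_comm {y : P K} (h : ∀ e ∈ E, y * e = e * y) : y ∈ E :=
  IsCentric_centralizerIn_le hE.1 (Fus.mem_centralizerIn.2 ⟨mem_top _, fun x hx => (h x hx).symm⟩)

theorem Z_le : Z K ≤ E := fun _ hz => mem_of_comm hE fun e _ => comm_Z hz e

include hF

theorem eq_Q (h : E ≤ Q K) : E = Q K := by
  have hZ := Z_le hE
  refine le_antisymm h (SP4.OB.le_of_chain (pg_top K p) hF hE le_top le_normalizer_of_normal
    (D₁ := Z K) le_rfl ?_ ?_ (fun g hg x hx => icj_Q_mem hg (h hx))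
    (fun g hg x hx _ => icj_Q_mem hg (h hx)) fun g _ x _ hx => conj_Z hx g)
  all_goals
    by_contra hn
    push Not at hn
    obtain ⟨β, -, z, hz, hz', hw⟩ := hn
    have wQ := h (afn_mem β hz)
    have cw : ∀ e ∈ E, bp (afn β z) e = 0 := fun e he =>
      (comm_Q_iff wQ (h he)).1 (afn_cen β hz hz' he)
    choose r r₁ r₂ using fun c : kf K => exists_bp wQ hw c.2
    have rinj : ∀ c c', (r c)⁻¹ * r c' ∈ E → c = c' := fun c c' e => by
      have := cw _ e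
      rw [bp_mul _ (r₁ c), r₂, r₂] at this
      exact Subtype.ext (sub_eq_zero.1 this).symm
    have hr : r 1 ∉ E := fun e => one_ne_zero ((r₂ 1).symm.trans (cw _ e))
    have k₁ := U5.qf (pg_top K p) hF hE (B := Q K) le_top (fun g hg e he => hZ (icj_Q_mem hg (h he)))
      (fun g hg e he g' _ => (comm_Z (icj_Q_mem hg (h he)) g').symm) _ (r₁ 1) hr
    have k₂ := relIndex_le (C := centralizer {r 1}) (E := E) (ι := kf K)
      (fun e => ⟨_, th_bp (r 1) e⟩) fun e e' he => by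
        have he : bp (r 1) e = bp (r 1) e' := congrArg Subtype.val he
        refine mem_centralizer_singleton_iff.2 ((comm_Q_iff (r₁ 1)
          (h (mul_mem (inv_mem e.2) e'.2))).2 ?_).symm
        rw [bp_mul _ (h e.2), he, sub_self]
    have key : ∀ y ∈ Q K, bp (afn β z) y = 0 → y ∈ E := fun y hy e => by
      have aux : ∀ y ∈ Q K, bp (afn β z) y = 0 → (r 0)⁻¹ * y ∈ E := fun y hy e => by
        obtain ⟨c, hc⟩ := pigeon r r₁ rinj (k₁.trans k₂) hy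
        have := cw _ hc
        rw [bp_mul _ (r₁ c), r₂, e, zero_sub, neg_eq_zero] at this
        rwa [show c = 0 from Subtype.ext this] at hc
      simpa using mul_mem (inv_mem (aux 1 (one_mem _) (by simp [bp]))) (aux y hy e)
    obtain ⟨v, w, e₁, e₂, e₃⟩ := exists_pair (afn β z).w (afn β z).v (c := -z.z) (by simp)
    have ha := key (xr 0 v 0) rfl (by simp [bp, mul_comm v, e₁])
    have hb := key (xr 0 0 w) rfl (by simp [bp, e₂])
    have e : z = (xr 0 0 w)⁻¹ * (xr 0 v 0 * xr 0 0 w * (xr 0 v 0)⁻¹) :=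
      eq_of_z hz' (icj_Q_mem rfl rfl) (by rw [icj_Q_z rfl rfl]; simp [e₃])
    rw [e, afn_icj β hb ha] at hw
    exact hw (icj_Q_mem (h (afn_mem β ha)) (h (afn_mem β hb)))

omit hF hE in
/-- The centraliser of `w` in `Z₃`. -/
def Hw (w y : P K) : Prop := y ∈ Z3 K ∧ tr (w.u * y.w) = 0 ∧ y.s = tr (w.v * y.w)

section Reg

variable {w : P K} (hw : w ∈ E) (ht : w.t = 1) (hu : w.u ≠ 0) (h2 : (2 : K) ≠ 0)
  (cw : ∀ e ∈ E, w * e = e * w)
include ht

omit hF hE in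
theorem hw_of_comm {y : P K} (hy : y ∈ Z3 K) (h : w * y = y * w) : Hw w y := by
  obtain ⟨-, -, h₁, h₂⟩ := commute_iff.1 h
  simp only [hy.1, hy.2.1, hy.2.2, ht, mul_zero, zero_mul, tr_zero, sh_zero, nm_zero] at h₁ h₂
  exact ⟨hy, by linear_combination h₁, by linear_combination h₂⟩

include cw

omit hF hE in
theorem u_eq {e : P K} (he : e ∈ E) : e.u = e.t * w.u := by
  have := (commute_iff.1 (cw e he)).1
  rw [ht] at this
  linear_combination -this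

include hu h2

omit hF hE in
theorem v_eq {e : P K} (he : e ∈ E) : 2 * e.v = 2 * e.t * w.v + (e.t ^ 2 - e.t) * w.u := by
  have h := (commute_iff.1 (cw e he)).2.1
  rw [ht, u_eq ht cw he] at h
  refine sub_eq_zero.1 (eq_zero_of_cr h2 hu ?_)
  simp only [cr, sh, map_add, map_sub, map_mul, map_pow, map_ofNat, e.ht] at h ⊢
  linear_combination 2 * h

omit hF hE in
theorem tr_v_eq {e y : P K} (he : e ∈ E) (hy : tr (w.u * y.w) = 0) :
    tr (e.v * y.w) = e.t * tr (w.v * y.w) := by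
  have h := congrArg (fun x => tr (x * y.w)) (v_eq ht hu h2 cw he)
  simp only [tr, map_add, map_sub, map_mul, map_pow, map_ofNat, e.ht] at h hy ⊢
  exact mul_left_cancel₀ h2 (by linear_combination h + (e.t ^ 2 - e.t) * hy)

omit hF hE in
theorem hw_of_mem {e : P K} (he : e ∈ E) (h : e.t = 0) : Hw w e := by
  have h₁ := u_eq ht cw he
  have h₂ := v_eq ht hu h2 cw he
  rw [h] at h₁ h₂
  exact hw_of_comm ht ⟨h, by simpa using h₁, mul_left_cancel₀ h2 (by linear_combination h₂)⟩ (cw e he)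

omit hF hE in
theorem comm_of_hw {y : P K} (hy : Hw w y) {e : P K} (he : e ∈ E) : y * e = e * y := by
  obtain ⟨h₁, h₂⟩ := icj_Z3' hy.1 e
  refine comm_of_icj (eq_of_sz (icj_mem_Z2' hy.1 e) (one_mem _) ?_ ?_)
  · rw [h₁, u_eq ht cw he, mul_assoc, tr_smul e.ht, hy.2.1]; simp
  · rw [h₂, tr_v_eq ht hu h2 cw he hy.2.1, hy.2.2]; simp

omit hF in
theorem mem_of_hw {y : P K} (hy : Hw w y) : y ∈ E :=
  mem_of_comm hE fun _ he => comm_of_hw ht hu h2 cw hy he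

include hw

omit hF in
/-- Every element of `Z` is a commutator with any element acting nontrivially on `E`. -/
theorem exists_icj (h3 : (3 : K) ≠ 0)
    (hs : ∀ c, th c = c → ∃ e ∈ E, e.t = c ∧ ∀ e' ∈ E, e * e' = e' * e) {y : P K}
    (hy : ∀ e ∈ E, y * e * y⁻¹ ∈ E) (hy' : ∃ e ∈ E, y * e * y⁻¹ ≠ e) {z : P K} (hz : z ∈ Z K) :
    ∃ e ∈ E, e⁻¹ * (y * e * y⁻¹) = z := by
  have hm : ∀ y : P K, (∀ e ∈ E, y * e * y⁻¹ ∈ E) → Hw w (w⁻¹ * (y * w * y⁻¹)) := fun y hy =>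
    hw_of_mem ht hu h2 cw (mul_mem (inv_mem hw) (hy w hw)) (icj_t y w)
  wlog h4 : y ∈ Z4 K generalizing y
  · obtain ⟨e₀, he₀, t₀, c₀⟩ := hs y.t y.ht
    have hc : ∀ e ∈ E, e₀⁻¹ * y * e * (e₀⁻¹ * y)⁻¹ = y * e * y⁻¹ := fun e he => by
      rw [show e₀⁻¹ * y * e * (e₀⁻¹ * y)⁻¹ = e₀⁻¹ * (y * e * y⁻¹ * e₀) by group, ← c₀ _ (hy e he)]
      group
    obtain ⟨e, he, h⟩ := hy'
    obtain ⟨e', he', h'⟩ := this (y := e₀⁻¹ * y) (fun e he => (hc e he).symm ▸ hy e he)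
      ⟨e, he, (hc e he).symm ▸ h⟩ ⟨by simp [t₀], by
        have h₁ := (hm y hy).1.2.2
        rw [icj_v, ht] at h₁
        rw [P.mul_u, P.inv_u, u_eq ht cw he₀, t₀]
        linear_combination h₁⟩
    exact ⟨e', he', hc e' he' ▸ h'⟩
  obtain ⟨-, m₁, m₂⟩ := hm y hy
  obtain ⟨-, k₁, k₂⟩ := icj_Q' (Z4_le_Q h4) w
  rw [k₁, h4.1, zero_mul, zero_sub] at m₁ m₂
  rw [mul_neg, tr_neg, tr_cr_self, neg_eq_zero, mul_eq_zero, or_iff_right h2] at m₁
  by_cases hv : y.v = 0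
  · have h₃ : y ∈ Z3 K := ⟨h4.1, h4.2, hv⟩
    have h₄ : tr (w.u * y.w) = 0 := by
      rw [k₂, hv, h4.1] at m₂
      simpa using m₂
    have h₅ : tr (w.v * y.w) - y.s ≠ 0 := fun e => by
      obtain ⟨e', he', h⟩ := hy'
      exact h (by rw [comm_of_hw ht hu h2 cw ⟨h₃, h₄, (sub_eq_zero.1 e).symm⟩ he',
        mul_inv_cancel_right])
    obtain ⟨e, he, t₀, -⟩ := hs (z.z / (tr (w.v * y.w) - y.s)) (by simp)
    obtain ⟨h₁, h₂⟩ := icj_Z3' h₃ e
    refine ⟨e, he, eq_of_sz (icj_mem_Z2' h₃ e) (Z_le_Z2 hz) ?_ ?_⟩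
    · rw [h₁, u_eq ht cw he, mul_assoc, tr_smul e.ht, h₄, hz.2.2.2.2]; simp
    · rw [h₂, tr_v_eq ht hu h2 cw he h₄, t₀]; field_simp
  obtain ⟨W, e₁, e₂⟩ := exists_tr_two (b := y.v) hu (fun c hc e => by
    rw [e, mul_left_comm, tr_smul hc, mul_comm (sh _), tr_mul_sh] at m₁
    rw [(mul_eq_zero.1 m₁).resolve_right (mul_ne_zero h3 (nm_ne_zero hu)), zero_mul] at e
    exact hv e) (map_zero _) (d := -z.z) (by simp)
  let x : P K := ⟨0, 0, 0, W, tr (w.v * W), 0, by simp, by simp, by simp⟩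
  have hx : x ∈ Z3 K := ⟨rfl, rfl, rfl⟩
  refine ⟨x, mem_of_hw hE ht hu h2 cw ⟨hx, e₁, rfl⟩,
    eq_of_z (icj_Q_mem (Z4_le_Q h4) (Z3_le_Q hx)) hz ?_⟩
  rw [(icj_Z3 y hx).2, h4.1]
  simp [x, e₂]

/-- Conjugates of elements of `Z` inside `R` lie in `Z`. -/
theorem ti (h3 : (3 : K) ≠ 0)
    (hs : ∀ c, th c = c → ∃ e ∈ E, e.t = c ∧ ∀ e' ∈ E, e * e' = e' * e) {g : MulAut E}
    (hg : g ∈ F.autGroup E) {z : P K} (hz : z ∈ Z K) (h : afn g z ∈ R K) : afn g z ∈ Z K := by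
  have hZ := Z_le hE
  have hT := sat_sylow (pg_top K p) hF hE.2.1
  have ha : xz (1 : K) 0 (by simp) (by simp) ∈ Z2 K := xz_mem_Z2 ..
  set a := xz (1 : K) 0 (by simp) (by simp)
  have hN : a ∈ normalizer (E : Set (P K)) := mem_normalizer_of_conj_mem fun e he => by
    simpa using E.mul_mem he (hZ (icj_mem_Z' ha e))
  have hc := conjAut_mem_autInducedBy (P := E) (mem_top a) hN
  obtain ⟨k, hk⟩ := exists_pow_eq_one_of_mem hT.isPGroup hc
  have hS : ∀ α : MulAut E, α ∈ MulAction.stabilizer (MulAut E) (⟨z, hZ hz⟩ : E) ↔ afn α z = z :=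
    fun α => by rw [afn_apply _ (hZ hz)]; exact Subtype.ext_iff
  obtain ⟨l, ⟨hl, hl'⟩, H⟩ := (hT.of_le (K := F.autGroup E ⊓
      MulAction.stabilizer (MulAut E) (⟨z, hZ hz⟩ : E)) (fun α hα => ⟨hT.le hα, (hS α).2 (by
        obtain ⟨g, -, e⟩ := Fus2.mem_autInducedBy_iff.1 hα
        rw [e z (hZ hz), conj_Z hz])⟩) inf_le_left).exists_conj_mem_of_pow
    (x := g⁻¹ * conjAut E a hN * g) (k := k)
    ⟨(F.autGroup E).mul_mem (mul_mem (inv_mem hg) (hT.le hc)) hg, (hS _).2 (by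
      rw [afn_mul, afn_mul, afn_conjAut hN (afn_mem _ (hZ hz)), comm_Z2 ha h, mul_inv_cancel_right,
        afn_inv_afn])⟩
    (by simpa [hk] using conj_pow (a := g⁻¹) (b := conjAut E a hN) (i := p ^ k))
  obtain ⟨y, -, hy⟩ := Fus2.mem_autInducedBy_iff.1 H
  have key : ∀ e ∈ E, afn (g * l⁻¹) (y * e * y⁻¹) = a * afn (g * l⁻¹) e * a⁻¹ := fun e he => by
    rw [← hy e he, ← afn_mul, ← afn_conjAut hN (afn_mem _ he), ← afn_mul]
    congr 1
    group
  have hy₁ : ∀ e ∈ E, y * e * y⁻¹ ∈ E := fun e he => hy e he ▸ afn_mem _ he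
  obtain ⟨e, he, e₁⟩ := exists_icj hE hw ht hu h2 cw h3 hs hy₁
    ⟨afn (g * l⁻¹)⁻¹ w, afn_mem _ hw, fun e => by
      have := key _ (afn_mem (g * l⁻¹)⁻¹ hw)
      rw [e, afn_afn_inv, eq_mul_inv_iff_mul_eq] at this
      simpa [a, ht] using (commute_iff.1 this).2.2.2⟩ hz
  have e₂ : afn (g * l⁻¹) z = afn g z := by
    rw [afn_mul]
    conv_lhs => rw [← (hS l).1 hl', afn_inv_afn]
  rw [← e₂, ← e₁, (homOn_afn _).map_mul (inv_mem he) (hy₁ e he), (homOn_afn _).map_inv he, key e he]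
  exact icj_mem_Z' ha _

end Reg

theorem Z2_le : Z2 K ≤ E := by
  by_contra hn
  have hS := pg_top K p
  have hZ := Z_le hE
  obtain ⟨Mx, h⟩ := U5.sed_of_ess hS hF hE
  obtain ⟨γ, hγ, -, C, k₁, -, k₂, -⟩ := h.qf_gen hS hE.1 (B := Z2 K) (U := Z K) (Y := ⊥) le_top hn
    hZ (fun α _ y _ hy => by rw [mem_bot.1 hy]; exact (homOn_afn α).map_one)
    (fun g hg e _ => icj_mem_Z' hg e) fun g _ u hu => mem_bot.2 (icj_of_comm (comm_Z hu g).symm)
  have hq : ∀ x ∈ R K, ∀ g ∈ Z2 K, x⁻¹ * (g * x * g⁻¹) ∈ (⊥ : Subgroup (P K)) :=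
    fun x hx g hg => mem_bot.2 (icj_of_comm (comm_Z2 hg hx))
  have hδ : ∀ z ∈ Z K, afn γ⁻¹ z ∈ R K → z = 1 := by
    obtain ⟨z₀, hz₀, ha⟩ : ∃ z₀ ∈ Z K, (afn γ⁻¹ z₀).t ≠ 0 := by
      by_contra hc
      push Not at hc
      rw [relIndex_eq_one.2 fun z hz => k₁ z (hZ hz) (hq z hz.1) (hq _ (hc z hz))] at k₂
      exact hn (relIndex_eq_one.1
        (le_antisymm k₂ (Nat.one_le_iff_ne_zero.2 index_ne_zero_of_finite)))
    have k₃ := le_relIndex (E := E) (B := Z2 K) (fun c : kf K => xz c 0 (th_kf c) (by simp))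
      (fun c => xz_mem_Z2 ..) fun c c' e => by
        have := (commute_iff.1 (afn_cen γ⁻¹ (hZ hz₀) hz₀ e)).2.2.2
        simp [ha] at this
        exact Subtype.ext (by linear_combination -this)
    exact fun z hz e => eq_one_of_relIndex (by rw [card_Z, ← card_kf]; exact k₃.trans k₂) hz
      (k₁ z (hZ hz) (hq z hz.1) (hq _ e))
  have hs : ∀ c, th c = c → ∃ z ∈ Z K, (afn γ⁻¹ z).t = c := fun c hc => by
    have hz : ∀ c : kf K, xz 0 (c : K) (by simp) (th_kf c) ∈ Z K := fun c => xz_mem_Z ..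
    obtain ⟨d, hd⟩ := Finite.surjective_of_injective (f := fun c : kf K =>
      (⟨(afn γ⁻¹ (xz 0 (c : K) (by simp) (th_kf c))).t, P.ht _⟩ : kf K))
      (fun c c' e => by
        have e : (afn γ⁻¹ _).t = (afn γ⁻¹ _).t := congrArg Subtype.val e
        have := congrArg P.z (hδ _ (mul_mem (inv_mem (hz c)) (hz c')) (by
          rw [(homOn_afn _).map_mul (hZ (inv_mem (hz c))) (hZ (hz c')),
            (homOn_afn _).map_inv (hZ (hz c))]
          simp [mem_R, e]))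
        simp at this
        exact Subtype.ext (by linear_combination -this)) ⟨c, hc⟩
    exact ⟨_, hz d, congrArg Subtype.val hd⟩
  obtain ⟨z₀, hz₀, ht⟩ := hs 1 (map_one _)
  set w := afn γ⁻¹ z₀ with hwd
  have hw : w ∈ E := afn_mem _ (hZ hz₀)
  have cw : ∀ e ∈ E, w * e = e * w := fun e => afn_cen _ (hZ hz₀) hz₀
  have hu : w.u ≠ 0 := fun e => hn (Z2_le_Q.trans (eq_Q hF hE fun x hx => by
    rw [mem_Q, u_eq ht cw hx, e, mul_zero]).ge)
  have hp : w ^ p = 1 := afn_pow_char _ (hZ hz₀) (Z_le_Z3 hz₀)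
  have h2 := two_ne (ht ▸ one_ne_zero) hu hp
  have hti : ∀ g ∈ F.autGroup E, ∀ z ∈ Z K, afn g z ∈ R K → afn g z ∈ Z K := fun g hg z hz =>
    ti hF hE hw ht hu h2 cw (three_ne (ht ▸ one_ne_zero) hu hp) (fun c hc => by
      obtain ⟨z, hz, e⟩ := hs c hc
      exact ⟨_, afn_mem _ (hZ hz), e, fun _ => afn_cen _ (hZ hz) hz⟩) hg hz
  have o₁ : ∀ β ∈ F.autGroup E, ∀ x, (∃ g ∈ F.autGroup E, afn g z₀ = x) →
      ∃ g ∈ F.autGroup E, afn g z₀ = afn β x := by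
    rintro β hβ _ ⟨g, hg, rfl⟩
    exact ⟨β * g, mul_mem hβ hg, afn_mul ..⟩
  have o₂ : ∀ b ∈ normalizer (E : Set (P K)), ∀ x, (∃ g ∈ F.autGroup E, afn g z₀ = x) →
      ∃ g ∈ F.autGroup E, afn g z₀ = b * x * b⁻¹ := by
    rintro b hb _ ⟨g, hg, rfl⟩
    rw [← afn_conjAut hb (afn_mem g (hZ hz₀))]
    exact o₁ _ (conjAut_mem_autGroup le_top (mem_top b) hb) _ ⟨g, hg, rfl⟩
  have o₃ : ∀ n ∈ Z K, ∀ x : P K, x.t ≠ 0 → (∃ g ∈ F.autGroup E, afn g z₀ = x) →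
      ∃ g ∈ F.autGroup E, afn g z₀ = x * n := fun n hn x hx ho => by
    obtain ⟨a, ha, rfl⟩ := exists_icj_Z2 hx hn
    rw [mul_inv_cancel_left]
    exact o₂ a (mem_normalizer_of_conj_mem fun e he => by
      simpa using E.mul_mem he (hZ (icj_mem_Z' ha e))) x ho
  have o₄ : ∀ m ∈ E, m ∈ R K → (afn γ m).t ≠ 0 → (∃ g ∈ F.autGroup E, afn g z₀ = w * m) →
      m ∈ Z K := fun m hm hm' hmt ho => by
    have h₁ := o₁ γ hγ _ ho
    rw [(homOn_afn γ).map_mul hw hm, hwd, afn_afn_inv] at h₁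
    have h₂ := o₃ _ (inv_mem hz₀) _ (by simpa [hz₀.1] using hmt) h₁
    rw [comm_Z hz₀, mul_inv_cancel_right] at h₂
    obtain ⟨g, hg, e⟩ := o₁ _ (inv_mem hγ) _ h₂
    rw [afn_inv_afn] at e
    exact e ▸ hti g hg z₀ hz₀ (e ▸ hm')
  obtain ⟨z₁, hz₁, ht₁⟩ : ∃ z₁ ∈ Z K, (afn γ z₁).t ≠ 0 := by
    by_contra hc
    push Not at hc
    have := inv_of_inv (β := γ⁻¹) (X := Z K)
      (fun x hx => by rw [inv_inv]; exact hti γ hγ x hx (hc x hx)) z₀ hz₀
    exact one_ne_zero (ht.symm.trans this.1)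
  obtain ⟨v, hv, hv'⟩ := exists_perp (sh w.u)
  obtain ⟨W, hW⟩ := exists_tr_mul hu (th_tr (w.v * cr w.u v))
  obtain ⟨-, m₁, m₂⟩ := icj_Q' (Z4_le_Q (xr_mem_Z4 v W)) w
  have hm₃ := icj_mem_Z3' (xr_mem_Z4 v W) w
  set b := xr 0 v W with hb
  set m := w⁻¹ * (b * w * b⁻¹) with hmd
  have m₃ : m.w = -cr w.u v := by simpa [hb] using m₁
  have hm : Hw w m := ⟨hm₃, by rw [m₃, mul_neg, tr_neg, tr_cr_self, hv']; simp, by
    rw [m₂, m₃, mul_neg, tr_neg, ← hW]; simp [hb, hv']⟩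
  have hmE := mem_of_hw hE ht hu h2 cw hm
  have hN : b ∈ normalizer (E : Set (P K)) := by
    rw [← inv_inv b]
    refine inv_mem (mem_normalizer_of_conj_mem fun e he => ?_)
    have h₁ : b * w * b⁻¹ * e = e * (b * w * b⁻¹) := by
      rw [show b * w * b⁻¹ = w * m by rw [hmd]; group, mul_assoc, comm_of_hw ht hu h2 cw hm he,
        ← mul_assoc, cw e he, mul_assoc]
    have h₂ : w * (b⁻¹ * e * b⁻¹⁻¹) = b⁻¹ * e * b⁻¹⁻¹ * w := by
      rw [show w * (b⁻¹ * e * b⁻¹⁻¹) = b⁻¹ * (b * w * b⁻¹ * e) * b by group, h₁]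
      group
    have h₃ := mem_of_hw hE ht hu h2 cw (hw_of_comm ht (icj_mem_Z3' (inv_mem (xr_mem_Z4 v W)) e) (by
      rw [← mul_assoc, cw _ (inv_mem he), mul_assoc, ← hb, h₂, ← mul_assoc]))
    simpa using E.mul_mem he h₃
  have ho : ∃ g ∈ F.autGroup E, afn g z₀ = w * m := by
    rw [hmd, mul_inv_cancel_left]
    exact o₂ b hN w ⟨_, inv_mem hγ, rfl⟩
  have hmw : m.w ≠ 0 := fun e => hv (eq_zero_of_cr h2 hu (neg_eq_zero.1 (m₃ ▸ e)))
  by_cases hmt : (afn γ m).t = 0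
  · refine hmw ?_
    have := (o₄ (m * z₁) (mul_mem hmE (hZ hz₁)) (mul_mem hm₃.1 hz₁.1)
      (by rw [(homOn_afn γ).map_mul hmE (hZ hz₁)]; simpa [hmt] using ht₁)
      (mul_assoc w m z₁ ▸ o₃ z₁ hz₁ _ (by simp [ht, hm₃.1]) ho)).2.2.2.1
    simpa [hz₁.1, hz₁.2.2.1, hz₁.2.2.2.1] using this
  · exact hmw (o₄ m hmE hm₃.1 hmt ho).2.2.2.1

end E1

theorem ess1 : Ess1Stmt := by
  intro K _ _ _ p _ _ F hF E hE
  exact ⟨E1.eq_Q hF hE, E1.Z2_le hF hE⟩

end Cfsg.Agent.D4
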