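import Cfsg.Agent.Lib.U5.ESS12

/-!
The counting lemma on the centre of an essential subgroup.
-/

set_option autoImplicit false

namespace Cfsg.Agent.U5

open Cfsg.Agent.Fus Cfsg.Agent.Fus2 Cfsg.Agent.Ess Subgroup

variable {Ω : Type*} [Group Ω] {S : Subgroup Ω} [Finite S] {p : ℕ} [hp : Fact p.Prime]
  {F : FusionSystem S} {E : Subgroup Ω}

theorem SEd.qfZ (hS : IsPGroup p S) (hc : F.IsCentric E) {H Mx : Subgroup (MulAut E)}
    (h : SEd p H (autInducedBy S E) (Inn E) Mx) {B U V : Subgroup Ω}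
    (hV : V = E ⊓ centralizer (E : Set Ω)) (hB : B ≤ S) (hN : B ≤ normalizer (E : Set Ω))
    (hBE : ¬ B ≤ E) (hU : U ≤ V) (h₁ : ∀ g ∈ B, ∀ v ∈ V, v⁻¹ * (g * v * g⁻¹) ∈ U)
    (h₂ : ∀ g ∈ B, ∀ u ∈ U, g * u * g⁻¹ = u) (hM : E12.fx H V ≤ Mx) :
    (centralizer (V : Set Ω)).relIndex B ≤ Nat.card U ∧ ∀ x ∈ B, x ∉ centralizer (V : Set Ω) →
      (centralizer (V : Set Ω)).relIndex B ≤ (centralizer {x}).relIndex V := by
  have := Fus.finite_of_le hc.1
  have : Finite V := Finite.of_injective _ (inclusion_injective (hV.le.trans inf_le_left))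
  have : Finite U := Finite.of_injective _ (inclusion_injective hU)
  have hG := (isPGroup_of_le hS hc.1).to_subgroup (center E)
  have mV : ∀ y : center E, (y.1 : Ω) ∈ V := fun y => hV ▸ ⟨y.1.2, fun e he =>
    congrArg Subtype.val (mem_center_iff.1 y.2 ⟨e, he⟩)⟩
  have mC : ∀ y ∈ V, ∃ y' : center E, (y'.1 : Ω) = y := fun y hy => by
    rw [hV] at hy
    exact ⟨⟨⟨y, hy.1⟩, mem_center_iff.2 fun e => Subtype.ext (hy.2 e e.2)⟩, rfl⟩
  have h₀ : autInducedBy B E ≤ autInducedBy S E := autInducedBy_mono hB E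
  obtain ⟨X, hXH, h₀X, -, γ, hγ, hγM, hgen⟩ := h.pair h₀ fun hle => hBE fun g hg =>
    (mem_iff_conjAut_mem_Inn hc (hB hg) (hN hg)).1 (hle (conjAut_mem_autInducedBy hg (hN hg)))
  set ρ := MulAut.characteristic (center E)
  have eρ : ∀ α y, ((ρ α y).1 : Ω) = α y.1 := fun _ _ => rfl
  have gen : ∀ a ∈ (autInducedBy B E).map ρ, a ∉ (⊥ : Subgroup (MulAut (center E))) → X.map ρ ≤
      closure (insert a {β | ∃ b ∈ (autInducedBy B E).map ρ, β = ρ γ * b * (ρ γ)⁻¹}) := by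
    rintro _ ⟨a, ha, rfl⟩ hi
    refine (map_mono (hgen a ha ?_)).trans ?_
    · rintro ⟨e, rfl⟩
      exact hi (MulEquiv.ext fun y => Subtype.ext (mul_inv_eq_iff_eq_mul.2 (mem_center_iff.1 y.2 e)))
    · rw [MonoidHom.map_closure]
      refine closure_mono ?_
      rintro _ ⟨_, rfl | ⟨b, hb, rfl⟩, rfl⟩
      exacts [Or.inl rfl, Or.inr ⟨_, ⟨b, hb, rfl⟩, by simp⟩]
  have hUf : U.comap (E.subtype.comp (center E).subtype) ≤ fm ⊥ ((autInducedBy B E).map ρ) := by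
    rintro u hu _ ⟨α, hα, rfl⟩
    obtain ⟨g, hg, e⟩ := Fus.mem_autInducedBy_iff.1 hα
    exact inv_mul_eq_one.2 (Subtype.ext (Subtype.ext ((e _).trans (h₂ g hg _ hu)).symm))
  have k₁ := count₁ hG (inv_bot _) (map_mono h₀X) (mem_map_of_mem ρ hγ) gen (fun hctl => by
    obtain ⟨g, hg, hgE⟩ := SetLike.not_le_iff_exists.1 hBE
    have ha := conjAut_mem_autInducedBy (P := E) hg (hN hg)
    obtain ⟨T, hT, hT'⟩ := exists_isSylowIn_ge (h.syl.isPGroup.to_le h₀) h₀X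
    have hTM := h.le_of_isPGroup (hT.le.trans hXH) hT.isPGroup (hT' ha) (h₀ ha)
      fun e => hgE ((mem_iff_conjAut_mem_Inn hc (hB hg) (hN hg)).1 e)
    obtain ⟨t, ht, e⟩ : ρ γ ∈ T.map ρ :=
      (hT.map ρ).eq_of_le hctl.isPGroup (map_mono hT.le) le_rfl ▸ mem_map_of_mem ρ hγ
    refine hγM (mul_inv_cancel_left t γ ▸ mul_mem (hTM ht) (hM (x := t⁻¹ * γ)
      ⟨mul_mem (inv_mem (hXH (hT.le ht))) (hXH hγ), fun y _ hy => ?_⟩))
    obtain ⟨y, rfl⟩ := mC y hy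
    rw [afn_coe, ← eρ, map_mul, map_inv, e, inv_mul_cancel]
    rfl) hUf (by
      rintro _ ⟨α, hα, rfl⟩ v
      obtain ⟨g, hg, e⟩ := Fus.mem_autInducedBy_iff.1 hα
      have := h₁ g hg _ (mV v)
      rwa [← e] at this)
  have k₀ : (centralizer (V : Set Ω)).relIndex B ≤
      (⊥ : Subgroup (MulAut (center E))).relIndex ((autInducedBy B E).map ρ) := by
    refine relIndex_le_of_sep (fun g => ρ (conjAut E g (hN g.2)))
      (fun g => mem_map_of_mem ρ (conjAut_mem_autInducedBy g.2 _)) fun a b e y hy => ?_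
    obtain ⟨y, rfl⟩ := mC y hy
    have : a.1 * y.1 * a.1⁻¹ = b.1 * y.1 * b.1⁻¹ :=
      congrArg (fun β : MulAut (center E) => ((β y).1 : Ω)) (inv_mul_eq_one.1 e)
    calc _ = a.1⁻¹ * (a.1 * y.1 * a.1⁻¹) * b.1 := by group
      _ = _ := by rw [this]; group
  refine ⟨(k₀.trans k₁).trans ((E12.relIndex_le_card _ _).trans (Nat.card_le_card_of_injective
    (fun u => (⟨_, u.2⟩ : U)) fun u v e => Subtype.ext (Subtype.ext (Subtype.ext
      (Subtype.mk.inj e))))), fun x hx hxV => (k₀.trans k₁).trans ?_⟩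
  refine (count₂ (inv_bot _) (map_mono h₀X) (mem_map_of_mem ρ hγ) gen hUf
    (mem_map_of_mem ρ (conjAut_mem_autInducedBy hx (hN hx))) fun e => hxV fun y hy => ?_).trans ?_
  · obtain ⟨y, rfl⟩ := mC y hy
    exact (mul_inv_eq_iff_eq_mul.1
      (congrArg (fun β : MulAut (center E) => ((β y).1 : Ω)) (mem_bot.1 e))).symm
  · rw [← relIndex_top_right]
    refine relIndex_le_of_sep (fun y => (y.1.1 : Ω)) (fun y => mV _) fun a b e => ?_
    rintro _ rfl
    exact inv_mul_eq_one.2 (Subtype.ext (Subtype.ext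
      (mul_inv_eq_iff_eq_mul.2 (mem_centralizer_singleton_iff.1 e).symm).symm))

end Cfsg.Agent.U5
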