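import Cfsg.Agent.Lib.D4.Basic
import Cfsg.Agent.Lib.D4.QfZ

/-!
Row ESS2: an essential subgroup inside `R` is `R`.
-/

set_option autoImplicit false

namespace Cfsg.Agent.D4

open Cfsg.Agent.Fus Cfsg.Agent.Fus2 Cfsg.Agent.Ess Cfsg.Agent.U5 Subgroup

namespace E2

theorem sep {G : Type*} [Group G] [Finite G] {C B : Subgroup G} {ι : Type*} [Finite ι] (φ : B → ι)
    (hφ : ∀ x y : B, (x : G)⁻¹ * y ∈ C → φ x = φ y) (hs : ∀ i, ∃ x, φ x = i) :
    Nat.card ι ≤ C.relIndex B ∧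
      (C.relIndex B ≤ Nat.card ι → ∀ x y : B, φ x = φ y → (x : G)⁻¹ * y ∈ C) := by
  choose r hr using hs
  have hi : ∀ i j, (r i : G)⁻¹ * r j ∈ C → i = j := fun i j e => by rw [← hr i, hφ _ _ e, hr]
  refine ⟨E3.le_relIndex _ (fun i => (r i).2) hi, fun h x y e => ?_⟩
  obtain ⟨i, h₁⟩ := E12.pigeon _ (fun i => (r i).2) hi h x.2
  obtain ⟨j, h₂⟩ := E12.pigeon _ (fun i => (r i).2) hi h y.2
  obtain rfl : i = j := by rw [← hr i, ← hr j, hφ _ _ h₂, ← e, ← hφ _ _ h₁]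
  simpa using mul_mem (inv_mem h₁) h₂

variable {K : Type} [Field K] [Fintype K] [Tf K]

theorem lt_sq : Nat.card (kf K) < Nat.card (kf K × kf K) := by
  have := two_le_q K
  rw [Nat.card_prod, card_kf]
  nlinarith

theorem card_Z2' : Nat.card (Z2 K) = Nat.card (kf K × kf K) := by
  rw [Nat.card_prod, card_kf, card_Z2, sq]

theorem comm3 {x y : P K} (hx : x ∈ R K) (hy : y ∈ Z3 K) :
    x * y = y * x ↔ tr (x.u * y.w) = 0 ∧ tr (x.v * y.w) = 0 := by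
  simp [commute_iff, mem_R.1 hx, hy.1, hy.2.1, hy.2.2, eq_comm]

theorem w3 {x y : P K} (hx : x ∈ Z3 K) (hy : y ∈ Z3 K) : (x⁻¹ * y).w = y.w - x.w := by
  simp [hx.1, hx.2.1, hy.1]; ring

theorem span_two {u v U : K} (hu : u ≠ 0) (hv : ∀ c, th c = c → v ≠ c * u)
    (h : ∀ w, tr (u * w) = 0 → tr (v * w) = 0 → tr (U * w) = 0) :
    ∃ a b, th a = a ∧ th b = b ∧ U = a * u + b * v := by
  obtain ⟨w₁, h₁, h₁'⟩ := exists_tr_two hu hv (map_one th) (map_zero th)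
  obtain ⟨w₂, h₂, h₂'⟩ := exists_tr_two hu hv (map_zero th) (map_one th)
  have e : ∀ x w, tr (x * (w - tr (u * w) * w₁ - tr (v * w) * w₂)) =
      tr (x * w) - tr (u * w) * tr (x * w₁) - tr (v * w) * tr (x * w₂) := fun x w => by
    rw [mul_sub, mul_sub, tr_sub, tr_sub, mul_left_comm, tr_smul (th_tr _), mul_left_comm,
      tr_smul (th_tr _)]
  refine ⟨tr (U * w₁), tr (U * w₂), th_tr _, th_tr _, sub_eq_zero.1 (eq_zero_of_tr fun w => ?_)⟩
  have := h _ (by rw [e u w, h₁, h₂]; ring) (by rw [e v w, h₁', h₂']; ring)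
  rw [e] at this
  rw [sub_mul, add_mul, tr_sub, tr_add, mul_assoc, mul_assoc, tr_smul (th_tr _), tr_smul (th_tr _)]
  linear_combination this

theorem sym_two {u v a b c : K} (hu : u ≠ 0) (hv : ∀ c, th c = c → v ≠ c * u) (ha : th a = a)
    (hb : th b = b) (hc : th c = c) (h : a * sh u + b * cr u v + c * sh v = 0) :
    a = 0 ∧ b = 0 ∧ c = 0 := by
  have ind : ∀ x y, th x = x → th y = y → x * u + y * v = 0 → x = 0 ∧ y = 0 := fun x y hx hy e => by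
    have : y = 0 := by_contra fun h0 => hv (-x / y) (by simp [hx, hy]) (by
      field_simp; linear_combination e)
    exact ⟨by simpa [this, hu] using e, this⟩
  have hΔ : u * th v - th u * v ≠ 0 := fun e => hv (v / u) (by
    have := th_ne_zero hu
    rw [map_div₀]; field_simp; linear_combination e) (by field_simp)
  have h₁ := congrArg th h
  simp only [sh, cr, map_add, map_mul, map_zero, th3, ha, hb, hc] at h h₁
  have e₁ : th (th (a * u + b * v)) = 0 := mul_left_cancel₀ hΔ (by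
    simp only [map_add, map_mul, ha, hb]; linear_combination th v * h₁ - v * h)
  have e₂ : th (th (b * u + c * v)) = 0 := mul_left_cancel₀ hΔ (by
    simp only [map_add, map_mul, hc, hb]; linear_combination u * h - th u * h₁)
  simp only [map_eq_zero] at e₁ e₂
  exact ⟨(ind _ _ ha hb e₁).1, ind _ _ hb hc e₂⟩

/-- The preimage of a `k`-line of `R / Z₃`. -/
def Bs (a b : K) : Subgroup (P K) where
  carrier := {x | x.t = 0 ∧ ∃ μ, x.u = a * μ ∧ x.v = b * μ}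
  one_mem' := ⟨rfl, 0, by simp⟩
  mul_mem' := fun {x y} ⟨hx, μ, h₁, h₂⟩ ⟨hy, ν, h₃, h₄⟩ =>
    ⟨by simp [hx, hy], μ + ν, by simp [h₁, h₂, h₃, h₄, hy, mul_add]⟩
  inv_mem' := fun {x} ⟨hx, μ, h₁, h₂⟩ => ⟨by simp [hx], -μ, by simp [h₁, h₂, hx]⟩

/-- Its derived subgroup. -/
def Zs (a b : K) : Subgroup (P K) where
  carrier := {x | x ∈ Z2 K ∧ ∃ σ, th σ = σ ∧ x.s = a * σ ∧ x.z = -(b * σ)}
  one_mem' := ⟨one_mem _, 0, by simp⟩
  mul_mem' := fun {x y} ⟨hx, μ, h₀, h₁, h₂⟩ ⟨hy, ν, h₀', h₃, h₄⟩ => ⟨mul_mem hx hy, μ + ν, by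
    simp [h₀, h₀', h₁, h₂, h₃, h₄, hx.2.1, hy.1, hy.2.2.1, mul_add, add_comm]⟩
  inv_mem' := fun {x} ⟨hx, μ, h₀, h₁, h₂⟩ => ⟨inv_mem hx, -μ, by
    simp [h₀, h₁, h₂, hx.1, hx.2.1, hx.2.2.1]⟩

theorem icjB {a b μ ν : K} (ha : th a = a) (hb : th b = b) {g x : P K} (hg : g.t = 0)
    (g₁ : g.u = a * μ) (g₂ : g.v = b * μ) (hx : x.t = 0) (x₁ : x.u = a * ν) (x₂ : x.v = b * ν) :
    x⁻¹ * (g * x * g⁻¹) ∈ Z2 K ∧ (x⁻¹ * (g * x * g⁻¹)).s =
      a * (tr (μ * x.w) - tr (ν * g.w) + a * b * (tr (sh μ * ν) - tr (sh ν * μ))) ∧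
    (x⁻¹ * (g * x * g⁻¹)).z =
      -(b * (tr (μ * x.w) - tr (ν * g.w) + a * b * (tr (sh μ * ν) - tr (sh ν * μ)))) := by
  refine ⟨⟨icj_t _ _, icj_u _ _, by simp [hg, hx], ?_⟩, ?_, ?_⟩
  · rw [icj_R hg hx, g₁, g₂, x₁, x₂]
    simp only [cr, map_mul, ha, hb]; ring
  all_goals
    simp only [P.mul_t, P.mul_u, P.mul_v, P.mul_w, P.mul_s, P.mul_z, P.inv_t, P.inv_u, P.inv_v,
      P.inv_w, P.inv_s, P.inv_z, hg, hx, g₁, g₂, x₁, x₂, tr, sh, cr, nm, map_add, map_sub, map_mul,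
      map_neg, map_zero, th3, ha, hb]
    ring

theorem icjB' {a b : K} (ha : th a = a) (hb : th b = b) {g x : P K} (hg : g ∈ Bs a b)
    (hx : x ∈ Bs a b) : x⁻¹ * (g * x * g⁻¹) ∈ Zs a b := by
  obtain ⟨hg, μ, g₁, g₂⟩ := hg
  obtain ⟨hx, ν, x₁, x₂⟩ := hx
  obtain ⟨h₁, h₂, h₃⟩ := icjB ha hb hg g₁ g₂ hx x₁ x₂
  exact ⟨h₁, _, by simp [ha, hb], h₂, h₃⟩

theorem mem_Bs {p : ℕ} [Fact p.Prime] [CharP K p] {a b μ : K} (ha : th a = a) (hb : th b = b)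
    (hab : a ≠ 0 ∨ b ≠ 0) (hμ : μ ≠ 0) {y e : P K} (hy : y.t = 0) (y₁ : y.u = a * μ)
    (y₂ : y.v = b * μ) (hp : y ^ p = 1) (he : e.t = 0) (h : y * e = e * y) : e ∈ Bs a b := by
  obtain ⟨-, h₂, h₃, h₄⟩ := commute_iff.1 h
  simp only [hy, he, y₁, y₂, zero_mul, add_zero, neg_zero, zero_add, ne_eq, OfNat.ofNat_ne_zero,
    not_false_eq_true, zero_pow] at h₂ h₃ h₄
  obtain ⟨c, hc, c₂, e₁⟩ := of_cr_eq_zero (v := a * e.v - b * e.u) hμ (by
    simp only [cr, map_mul, map_sub, ha, hb] at h₂ ⊢; linear_combination h₂)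
  have hc0 : c = 0 := by
    refine (mul_eq_zero.1 c₂).elim (fun h2 => ?_) id
    obtain rfl := (two_eq_zero_iff p).1 h2
    rw [sq] at hp
    have s₁ := congrArg P.s hp
    have s₂ := congrArg P.z hp
    have hT : tr (μ * y.w) + 3 * a * b * nm μ = 0 := by
      simp only [P.mul_s, P.mul_z, P.one_s, P.one_z, hy, y₁, y₂, tr, sh, nm, map_mul, th3, ha,
        hb] at s₁ s₂ ⊢
      rcases hab with h0 | h0
      · exact mul_left_cancel₀ h0 (by linear_combination s₁ - y.s * h2)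
      · exact mul_left_cancel₀ h0 (by linear_combination s₂ - y.z * h2)
    have k : a * b * tr (sh μ * (a * e.v)) + tr (a * e.v * y.w) + tr (μ * sh (a * e.v)) =
        a * b ^ 2 * tr (e.u * sh μ) + b * tr (e.u * y.w) + b ^ 2 * tr (sh e.u * μ) := by
      simp only [tr, sh, map_mul, th3, ha, hb] at h₃ h₄ ⊢
      linear_combination b * h₃ + a * h₄
    rw [sub_eq_iff_eq_add.1 e₁] at k
    have : c ^ 2 * nm μ = 0 := by
      have h5 : tr (e.u * sh μ) = tr (e.u * sh μ) := rfl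
      conv_lhs at h5 => simp only [tr, sh, map_mul, th3]
      simp only [tr, sh, nm, map_add, map_mul, th3, hc, hb] at k hT ⊢
      linear_combination k - c * hT - (b * c * tr (e.u * sh μ) + c ^ 2 * (μ * th μ * th (th μ))) * h2 -
        2 * b * c * h5
    exact pow_eq_zero_iff two_ne_zero |>.1 ((mul_eq_zero.1 this).resolve_right (nm_ne_zero hμ))
  rw [hc0, zero_mul, sub_eq_zero] at e₁
  rcases hab with h0 | h0
  · exact ⟨he, e.u / a, by field_simp, by field_simp; linear_combination e₁⟩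
  · exact ⟨he, e.v / b, by field_simp; linear_combination -e₁, by field_simp⟩

variable {p : ℕ} [Fact p.Prime] [CharP K p] {F : FusionSystem (⊤ : Subgroup (P K))}
  {E : Subgroup (P K)} (hc : F.IsCentric E) (hR : E ≤ R K) {H Mx : Subgroup (MulAut E)}
  (h : SEd p H (autInducedBy ⊤ E) (Inn E) Mx)
include hc hR

omit [Fact p.Prime] [CharP K p] in
theorem Z2_le : Z2 K ≤ E := fun _ hz => IsCentric_centralizerIn_le hc
  (Fus.mem_centralizerIn.2 ⟨mem_top _, fun _ hx => (comm_Z2 hz (hR hx)).symm⟩)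

include h

theorem dep (h₃ : ¬ Z3 K ≤ E) {a b μ : K} (ha : th a = a) (hb : th b = b) (hab : a ≠ 0 ∨ b ≠ 0)
    (hμ : μ ≠ 0) {y : P K} (hy : y ∈ E) (y₀ : ∀ e ∈ E, y * e = e * y) (y₁ : y.u = a * μ)
    (y₂ : y.v = b * μ) (hp : y ^ p = 1) : False := by
  have hZ := Z2_le hc hR
  have hB : ∀ e ∈ E, e ∈ Bs a b := fun e he => mem_Bs ha hb hab hμ (hR hy) y₁ y₂ hp (hR he) (y₀ e he)
  have h₀ : ∀ w, xr 0 0 w ∈ Bs a b := fun w => ⟨rfl, 0, (mul_zero a).symm, (mul_zero b).symm⟩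
  have hz : ∀ g ∈ Bs a b, ∀ x ∈ Zs a b, x⁻¹ * (g * x * g⁻¹) ∈ (⊥ : Subgroup (P K)) :=
    fun g hg x hx => by rw [conj_Z2 hx.1 hg.1, inv_mul_cancel]; exact one_mem _
  obtain ⟨γ, -, -, C, k₁, -, k₂, -⟩ := h.qf_gen (pg_top K p) hc (B := Bs a b) (U := Zs a b) (Y := ⊥)
    le_top (fun hle => h₃ fun x hx => hle ⟨hx.1, 0, by simp [hx.2.1], by simp [hx.2.2]⟩)
    (fun x hx => hZ hx.1) (fun α _ y _ hy => by rw [mem_bot.1 hy]; exact (homOn_afn α).map_one)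
    (fun g hg e he => icjB' ha hb hg (hB e he)) hz
  obtain ⟨l₁, l₂⟩ := sep (C := E) (B := Bs a b) (ι := Zs a b)
    (fun g => ⟨_, icjB' ha hb g.2 (hB y hy)⟩) (fun g g' e => Subtype.ext (by
      have := y₀ _ e
      calc _ = y⁻¹ * g.1 * (y * (g.1⁻¹ * g'.1)) * g'.1⁻¹ := by simp [mul_assoc]
        _ = _ := by rw [this]; simp [mul_assoc])) (by
      rintro ⟨x, hx, σ, hσ, e₁, e₂⟩
      obtain ⟨w, hw⟩ := exists_tr_mul hμ (c := -σ) (by rw [map_neg, hσ])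
      obtain ⟨f₀, f₁, f₂⟩ := icjB ha hb (g := xr 0 0 w) rfl (mul_zero a).symm (mul_zero b).symm
        (hR hy) y₁ y₂
      exact ⟨⟨_, h₀ w⟩, Subtype.ext (eq_of_sz f₀ hx (by rw [f₁, e₁]; simp [xr, hw])
        (by rw [f₂, e₂]; simp [xr, hw]))⟩)
  have hE : ∀ ν w, tr (ν * y.w) - tr (μ * w) + a * b * (tr (sh ν * μ) - tr (sh μ * ν)) = 0 →
      xr (a * ν) (b * ν) w ∈ E := fun ν w e => by
    obtain ⟨f₀, f₁, f₂⟩ := icjB ha hb (g := xr (a * ν) (b * ν) w) rfl rfl rfl (hR hy) y₁ y₂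
    simpa using l₂ (k₂.trans (E12.relIndex_le_card C _)) 1 ⟨_, rfl, ν, rfl, rfl⟩ (Subtype.ext (by
      simpa using (eq_of_sz f₀ (one_mem _) (by rw [f₁]; simp [xr, e]) (by rw [f₂]; simp [xr, e])).symm))
  obtain ⟨ω, hω⟩ := exists_th_ne K
  obtain ⟨w, w₁, w₂⟩ := exists_tr_two hμ (b := ω * μ)
    (fun c hc e => hω (by rw [mul_right_cancel₀ hμ e, hc])) (map_zero th) (map_one th)
  obtain ⟨w', hw'⟩ := exists_tr_mul hμ
    (c := tr (ω * μ * y.w) + a * b * (tr (sh (ω * μ) * μ) - tr (sh μ * (ω * μ)))) (by simp [ha, hb])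
  have m₁ := hE 0 w (by simp [w₁])
  have m₂ := hE (ω * μ) w' (by rw [hw']; ring)
  have z₁ := icjB' ha hb (hB _ m₂) (hB _ m₁)
  have e := E12.eq_one_of_relIndex (l₁.trans k₂) z₁ (k₁ _ (hZ z₁.1) (fun g hg => hz g hg _ z₁)
    fun g hg => hz g hg _ (by
      rw [E3.afn_icj _ m₁ m₂]
      exact icjB' ha hb (hB _ (afn_mem _ m₂)) (hB _ (afn_mem _ m₁))))
  obtain ⟨-, f₁, f₂⟩ := icjB ha hb (g := xr (a * (ω * μ)) (b * (ω * μ)) w')
    (x := xr (a * 0) (b * 0) w) rfl rfl rfl rfl rfl rfl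
  rw [e] at f₁ f₂
  simp [xr, w₂] at f₁ f₂
  exact hab.elim (fun h => h f₁.symm) fun h => h f₂

variable (hM : E12.fx H (E ⊓ centralizer (E : Set (P K))) ≤ Mx)
include hM

theorem indep (h2 : (2 : K) ≠ 0) (h₃ : ¬ Z3 K ≤ E) {y : P K}
    (hy : y ∈ E ⊓ centralizer (E : Set (P K))) (hu : y.u ≠ 0)
    (hv : ∀ c, th c = c → y.v ≠ c * y.u) : False := by
  have hZ := Z2_le hc hR
  obtain ⟨k₁, k₂⟩ := h.qfZ (pg_top K p) hc (B := Z3 K) (U := Z2 K) rfl le_top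
    (fun g hg => mem_normalizer_of_conj_mem fun e he => by
      simpa using E.mul_mem he (hZ (icj_mem_Z2' hg e))) h₃
    (fun z hz => ⟨hZ hz, fun e he => (comm_Z2 hz (hR he)).symm⟩) (fun g hg v _ => icj_mem_Z2' hg v)
    (fun g hg u hu => conj_Z2 hu (Z3_le_R hg)) hM
  obtain ⟨l₁, l₂⟩ := sep (C := centralizer (E ⊓ centralizer (E : Set (P K)) : Subgroup (P K)))
    (B := Z3 K) (ι := kf K × kf K)
    (fun g => (⟨tr (y.u * g.1.w), th_tr _⟩, ⟨tr (y.v * g.1.w), th_tr _⟩)) (fun g g' e => by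
      have := (comm3 (hR hy.1) (mul_mem (inv_mem g.2) g'.2)).1 (e y hy)
      rw [w3 g.2 g'.2, mul_sub, mul_sub, tr_sub, tr_sub, sub_eq_zero, sub_eq_zero] at this
      exact Prod.ext (Subtype.ext this.1.symm) (Subtype.ext this.2.symm)) fun i => by
      obtain ⟨w, h₁, h₂⟩ := exists_tr_two hu hv i.1.2 i.2.2
      exact ⟨⟨_, xr_mem_Z3 w⟩, Prod.ext (Subtype.ext h₁) (Subtype.ext h₂)⟩
  have key : ∀ δ ∈ E ⊓ centralizer (E : Set (P K)), ∃ a, th a = a ∧ δ.u = a * y.u ∧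
      δ.v = a * y.v := fun δ hδ => by
    have : ∀ w, tr (y.u * w) = 0 → tr (y.v * w) = 0 → tr (δ.u * w) = 0 ∧ tr (δ.v * w) = 0 :=
      fun w h₁ h₂ => (comm3 (hR hδ.1) (xr_mem_Z3 w)).1 (by
        simpa using l₂ (k₁.trans card_Z2'.le) 1 ⟨_, xr_mem_Z3 w⟩
          (Prod.ext (Subtype.ext (by simpa [xr] using h₁.symm))
            (Subtype.ext (by simpa [xr] using h₂.symm))) δ hδ)
    obtain ⟨a, b, ha, hb, e₁⟩ := span_two hu hv fun w h₁ h₂ => (this w h₁ h₂).1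
    obtain ⟨c, d, hc, hd, e₂⟩ := span_two hu hv fun w h₁ h₂ => (this w h₁ h₂).2
    have e₃ := (commute_iff.1 (hδ.2 y hy.1)).2.1
    rw [mem_R.1 (hR hδ.1), mem_R.1 (hR hy.1), e₁, e₂] at e₃
    obtain ⟨f₁, f₂, f₃⟩ := sym_two hu hv (a := 2 * c) (b := d - a) (c := -(2 * b))
      (by rw [map_mul, hc, map_ofNat]) (by rw [map_sub, ha, hd])
      (by rw [map_neg, map_mul, hb, map_ofNat]) (by
        simp only [cr, sh, map_add, map_mul, ha, hb, hc, hd] at e₃ ⊢; linear_combination e₃)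
    simp only [h2, mul_eq_zero, false_or, neg_eq_zero, sub_eq_zero] at f₁ f₂ f₃
    exact ⟨a, ha, by rw [e₁, f₃]; ring, by rw [e₂, f₁, f₂]; ring⟩
  obtain ⟨w, hw⟩ := exists_tr_mul hu (map_one th)
  have k₃ := E3.relIndex_le (C := centralizer {xr 0 0 w}) (E := E ⊓ centralizer (E : Set (P K)))
    (ι := kf K) (fun δ => ⟨tr (δ.1.u * w), th_tr _⟩) fun δ δ' e => by
      have e : tr (δ.1.u * w) = tr (δ'.1.u * w) := congrArg Subtype.val e
      have m := mul_mem (inv_mem δ.2) δ'.2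
      obtain ⟨a, ha, e₁, e₂⟩ := key _ m
      have : a = 0 := by
        rw [← mul_one a, ← hw, ← tr_smul ha, ← mul_assoc, ← e₁, P.mul_u, P.inv_u, add_mul, tr_add,
          neg_mul, tr_neg, e, neg_add_cancel]
      exact mem_centralizer_singleton_iff.2 ((comm3 (hR m.1) (xr_mem_Z3 w)).2
        (by rw [e₁, e₂, this]; simp))
  exact (l₁.trans ((k₂ _ (xr_mem_Z3 w) fun e => one_ne_zero
    (hw.symm.trans ((comm3 (hR hy.1) (xr_mem_Z3 w)).1 (e y hy)).1)).trans k₃)).not_gt lt_sq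

theorem top (h₃ : Z3 K ≤ E) {y : P K} (hy : y ∈ E ⊓ centralizer (E : Set (P K))) : y ∈ Z2 K := by
  have hZ := Z2_le hc hR
  have hV : ∀ y ∈ E ⊓ centralizer (E : Set (P K)), y ∈ Z3 K := fun y hy =>
    mem_Z3_of_comm fun z hz => (hy.2 z (h₃ hz)).symm
  refine ⟨(hV y hy).1, (hV y hy).2.1, (hV y hy).2.2, by_contra fun hw => ?_⟩
  obtain ⟨u, hu⟩ := exists_tr_mul hw (map_one th)
  rw [mul_comm] at hu
  have hx : xr 0 u 0 ∉ centralizer (E ⊓ centralizer (E : Set (P K)) : Subgroup (P K)) := fun e =>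
    one_ne_zero (hu.symm.trans ((comm3 (xr_mem_R 0 u 0) (hV y hy)).1 (e y hy).symm).2)
  obtain ⟨-, k₂⟩ := h.qfZ (pg_top K p) hc (B := R K) (U := Z2 K) rfl le_top
    (fun g hg => mem_normalizer_of_conj_mem fun e he => by
      simpa using E.mul_mem he (h₃ (icj_R_mem hg (hR he))))
    (fun hle => hx fun z hz => (hz.2 _ (hle (xr_mem_R 0 u 0))).symm)
    (fun z hz => ⟨hZ hz, fun e he => (comm_Z2 hz (hR he)).symm⟩)
    (fun g _ v hv => icj_mem_Z2 g (hV v hv)) (fun g hg u hu => conj_Z2 hu hg) hM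
  obtain ⟨l₁, -⟩ := sep (C := centralizer (E ⊓ centralizer (E : Set (P K)) : Subgroup (P K)))
    (B := R K) (ι := kf K × kf K)
    (fun g => (⟨tr (g.1.u * y.w), th_tr _⟩, ⟨tr (g.1.v * y.w), th_tr _⟩)) (fun g g' e => by
      have := (comm3 (mul_mem (inv_mem g.2) g'.2) (hV y hy)).1 (e y hy).symm
      simp only [P.mul_u, P.mul_v, P.inv_u, P.inv_v, mem_R.1 g.2, mem_R.1 g'.2, zero_mul, zero_sub,
        add_zero, add_mul, neg_mul, tr_add, tr_neg, neg_add_eq_zero] at this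
      exact Prod.ext (Subtype.ext this.1) (Subtype.ext this.2)) fun i =>
      ⟨⟨_, xr_mem_R (i.1 * u) (i.2 * u) 0⟩, Prod.ext
        (Subtype.ext (by simp [xr, mul_assoc, tr_smul i.1.2, hu]))
        (Subtype.ext (by simp [xr, mul_assoc, tr_smul i.2.2, hu]))⟩
  have k₃ := E3.relIndex_le (C := centralizer {xr 0 u 0}) (E := E ⊓ centralizer (E : Set (P K)))
    (ι := kf K) (fun δ => ⟨tr (u * δ.1.w), th_tr _⟩) fun δ δ' e => by
      have e : tr (u * δ.1.w) = tr (u * δ'.1.w) := congrArg Subtype.val e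
      refine mem_centralizer_singleton_iff.2 ((comm3 (xr_mem_R 0 u 0)
        (hV _ (mul_mem (inv_mem δ.2) δ'.2))).2 ⟨by simp [xr], ?_⟩).symm
      rw [w3 (hV _ δ.2) (hV _ δ'.2), mul_sub, tr_sub]
      exact sub_eq_zero.2 e.symm
  exact (l₁.trans ((k₂ _ (xr_mem_R 0 u 0) hx).trans k₃)).not_gt lt_sq

end E2

theorem ess2 (hY : YStmt) : Ess2Stmt := by
  intro K _ _ _ p _ _ F hF E hE hR _
  have hS := pg_top K p
  have hZ := E2.Z2_le hE.1 hR
  obtain ⟨Mx, h⟩ := sed_of_ess hS hF hE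
  have cen : ∀ β : MulAut E, ∀ z ∈ Z2 K, afn β z ∈ E ⊓ centralizer (E : Set (P K)) := fun β z hz =>
    ⟨afn_mem _ (hZ hz), fun e he => by
      rw [← afn_afn_inv β e]
      exact E3.afn_comm _ (afn_mem _ he) (hZ hz) (comm_Z2 hz (hR (afn_mem _ he))).symm⟩
  have st : ∀ β : MulAut E, β ∈ stabSub ((Z2 K).subgroupOf E) ↔ ∀ z ∈ Z2 K, afn β z ∈ Z2 K :=
    fun β => ⟨fun h z hz => by rw [afn_apply _ (hZ hz)]; exact h ⟨z, hZ hz⟩ hz,
      fun h z hz => by rw [mem_subgroupOf, ← afn_coe]; exact h _ hz⟩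
  by_cases hM : F.autGroup E ⊓ stabSub ((Z2 K).subgroupOf E) ≤ Mx
  · exfalso
    have hM' : E12.fx (F.autGroup E) (E ⊓ centralizer (E : Set (P K))) ≤ Mx := fun β hβ =>
      hM ⟨hβ.1, (st β).2 fun z hz => by
        rwa [hβ.2 z (hZ hz) ⟨hZ hz, fun e he => (comm_Z2 hz (hR he)).symm⟩]⟩
    by_cases h₃ : Z3 K ≤ E
    · exact h.nle fun β hβ => hM ⟨hβ, (st β).2 fun z hz => E2.top hE.1 hR h hM' h₃ (cen β z hz)⟩
    obtain ⟨z, hz, β, hβ, hy⟩ : ∃ z ∈ Z2 K, ∃ β ∈ F.autGroup E, afn β z ∉ Z3 K := by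
      by_contra hc
      push Not at hc
      exact h₃ (h.le_of_chain hS hE.1 le_top le_normalizer_of_normal
        (D₁ := E3.cr (F.autGroup E) (Z3 K)) le_rfl E3.cr_inv E3.cr_inv
        (fun g hg e _ => ⟨hZ (icj_mem_Z2' hg e), hc _ (icj_mem_Z2' hg e)⟩)
        (fun g hg e _ he => by rw [conj_Z3 (E3.cr_le he) hg, inv_mul_cancel]; exact one_mem _)
        fun g hg e _ he => conj_Z3 (E3.cr_le he) hg)
    have m := cen β z hz
    have hp : afn β z ^ p = 1 := by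
      rw [← (homOn_afn β).map_pow (hZ hz), pow_char (Z2_le_Z3 hz), (homOn_afn β).map_one]
    have c : ∀ e ∈ E, afn β z * e = e * afn β z := fun e he => (m.2 e he).symm
    by_cases hu : (afn β z).u = 0
    · exact E2.dep hE.1 hR h h₃ (map_zero th) (map_one th) (Or.inr one_ne_zero)
        (fun hv => hy ⟨hR m.1, hu, hv⟩) m.1 c (by rw [hu, zero_mul]) (one_mul _).symm hp
    by_cases hv : ∃ c, th c = c ∧ (afn β z).v = c * (afn β z).u
    · obtain ⟨c', hc', e⟩ := hv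
      exact E2.dep hE.1 hR h h₃ (map_one th) hc' (Or.inl one_ne_zero) hu m.1 c (one_mul _).symm e hp
    push Not at hv
    refine E2.indep hE.1 hR h hM' (fun h2 => ?_) h₃ m hu hv
    obtain rfl := (two_eq_zero_iff p).1 h2
    have := congrArg P.w hp
    rw [sq, P.mul_w, mem_R.1 (hR m.1), P.one_w] at this
    obtain ⟨c, hc, -, e⟩ := of_cr_eq_zero (v := (afn β z).v) hu
      (by linear_combination this - (afn β z).w * h2)
    exact hv c hc e
  have h' := h.her (le_inf h.syl.le fun α hα => (st α).2 fun z hz => by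
    obtain ⟨g, -, e⟩ := Fus2.mem_autInducedBy_iff.1 hα
    rw [e z (hZ hz)]
    exact Normal.conj_mem inferInstance z hz g) inf_le_left hM
  have i₂ : ∀ β ∈ F.autGroup E ⊓ stabSub ((Z2 K).subgroupOf E), ∀ z ∈ Z2 K, afn β z ∈ Z2 K :=
    fun β hβ => (st β).1 hβ.2
  have h₃ : Z3 K ≤ E := h'.le_of_chain hS hE.1 le_top le_normalizer_of_normal (D₁ := Z2 K) le_rfl
    (fun β hβ x _ => i₂ β hβ x) (fun β hβ x _ => i₂ β hβ x) (fun g hg x _ => icj_mem_Z2' hg x)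
    (fun g hg x _ _ => icj_mem_Z2' hg x) fun g hg x _ hx => conj_Z2 hx (Z3_le_R hg)
  exact le_antisymm hR (h'.le_of_chain hS hE.1 le_top le_normalizer_of_normal Z2_le_Z3
    (fun β hβ x _ => i₂ β hβ x) (fun β hβ x _ => hY h₃ hR h'.syl i₂ β hβ x)
    (fun g hg x hx => icj_R_mem hg (hR hx)) (fun g _ x _ hx => icj_mem_Z2 g hx)
    fun g hg x _ hx => conj_Z2 hx hg)

end Cfsg.Agent.D4
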