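import Cfsg.Agent.Lib.D4.Ess1
import Cfsg.Agent.Lib.SP4.SL2

/-!
Row ESS3: every essential subgroup containing `Z₂` lies in `Q` or `R`.
-/

set_option autoImplicit false
set_option linter.unusedSectionVars false
set_option linter.style.haveILetI false

namespace Cfsg.Agent.D4

open Cfsg.Agent.Fus Cfsg.Agent.Fus2 Cfsg.Agent.Ess Subgroup
open U5.E3 (afn_icj afn_comm relIndex_le cr_le)
open U5.E12 (pigeon comm_of_icj icj_of_comm fx)
open E1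

namespace E3

variable {K : Type} [Field K] [Fintype K] [Tf K] {p : ℕ} [Fact p.Prime] [CharP K p]

theorem mem_Z3_of_pow {x e : P K} (hx : x ∈ Q K) (hp : x ^ p = 1) (he : e.u ≠ 0)
    (h : x⁻¹ * (e * x * e⁻¹) ∈ Z K) : x ∈ Z3 K := by
  obtain ⟨h₁, h₂, h₃⟩ := icj_Q e hx
  have ht : x.t = 0 := (mul_eq_zero.1 (h₁ ▸ h.2.2.1)).resolve_right he
  rw [h.2.2.2.1, ht, zero_mul, add_zero] at h₂
  obtain ⟨c, hc, h₄, h₅⟩ := of_cr_eq_zero he h₂.symm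
  refine ⟨ht, hx, ?_⟩
  rcases mul_eq_zero.1 h₄ with h2 | h2
  · obtain rfl := (two_eq_zero_iff p).1 h2
    have h₆ := congrArg P.z hp
    simp only [sq, P.mul_z, P.one_z, ht, mem_Q.1 hx, zero_mul, tr_zero, nm_zero, mul_zero] at h₆
    rw [h.2.2.2.2, ht, h₅, mul_left_comm, tr_smul hc, mul_comm (sh _), tr_mul_sh] at h₃
    rw [h₅, mul_assoc, tr_smul hc] at h₆
    have : c * c * nm e.u = 0 := by
      linear_combination -c * h₃ - h₆ + (x.z - c * c * nm e.u) * h2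
    rw [h₅, mul_self_eq_zero.1 ((mul_eq_zero.1 this).resolve_right (nm_ne_zero he)), zero_mul]
  · rw [h₅, h2, zero_mul]

theorem mem_Z_of_Z2 {x e : P K} (hx : x ∈ Z2 K) (he : e.t ≠ 0) (h : x * e = e * x) : x ∈ Z K := by
  have := (commute_iff.1 h).2.2.2
  simp only [hx.1, hx.2.1, hx.2.2.1, hx.2.2.2, mul_zero, zero_mul, tr_zero, sh_zero, nm_zero] at this
  exact ⟨hx.1, hx.2.1, hx.2.2.1, hx.2.2.2, mul_left_cancel₀ he (by linear_combination -this)⟩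

/-- The elements of `Z₃` orthogonal to `u`. -/
def UU (u : K) : Subgroup (P K) where
  carrier := {y | y ∈ Z3 K ∧ tr (u * y.w) = 0}
  one_mem' := ⟨one_mem _, by simp⟩
  mul_mem' := fun {x y} hx hy => ⟨mul_mem hx.1 hy.1, by
    simp [hx.1.2.1, mul_add, tr_add, hx.2, hy.2]⟩
  inv_mem' := fun {x} hx => ⟨inv_mem hx.1, by simp [hx.1.2.1, tr_neg, hx.2]⟩

/-- The elements of `Z₄` orthogonal to `u`. -/
def BB (u : K) : Subgroup (P K) where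
  carrier := {y | y ∈ Z4 K ∧ tr (u * y.v) = 0}
  one_mem' := ⟨one_mem _, by simp⟩
  mul_mem' := fun {x y} hx hy => ⟨mul_mem hx.1 hy.1, by
    simp [hx.1.2, mul_add, tr_add, hx.2, hy.2]⟩
  inv_mem' := fun {x} hx => ⟨inv_mem hx.1, by simp [hx.1.2, tr_neg, hx.2]⟩

instance (u : K) : (UU u).Normal := ⟨fun x hx g => ⟨Normal.conj_mem inferInstance _ hx.1 g, by
  rw [(conj_Q g hx.1.2.1).2.1]; simp [hx.1.1, hx.1.2.2, hx.2]⟩⟩

/-- The upper central series. -/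
def ch (i : ℕ) : Subgroup (P K) :=
  if i = 0 then ⊥ else if i = 1 then Z K else if i = 2 then Z2 K else if i = 3 then Z3 K else
    if i = 4 then Z4 K else ⊤

variable {F : FusionSystem (⊤ : Subgroup (P K))} (hF : F.IsSaturated p) {E : Subgroup (P K)}
  (hE : F.IsEssential p E) (hZ2 : Z2 K ≤ E) {e₀ e₁ : P K} (he₀ : e₀ ∈ E) (hu₀ : e₀.u ≠ 0)
  (he₁ : e₁ ∈ E) (ht₁ : e₁.t ≠ 0)
include hF hE hZ2 he₀ hu₀ he₁ ht₁

theorem Z3_le : Z3 K ≤ E := by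
  by_contra hW
  have hS := pg_top K p
  have hZ := Z_le hE
  obtain ⟨Mx, h₀⟩ := U5.sed_of_ess hS hF hE
  obtain ⟨x, hx, hxE⟩ := SetLike.not_le_iff_exists.1 hW
  have hN : x ∈ normalizer (E : Set (P K)) := mem_normalizer_of_conj_mem fun e he => by
    simpa using E.mul_mem he (hZ2 (icj_mem_Z2' hx e))
  have h : U5.SEd p (fx (F.autGroup E) (Z K)) (autInducedBy ⊤ E) (Inn E) Mx := by
    refine h₀.her (fun α hα => ⟨h₀.syl.le hα, fun y hy hy' => ?_⟩) (fun α hα => hα.1) fun hle => ?_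
    · obtain ⟨g, -, e⟩ := Fus2.mem_autInducedBy_iff.1 hα
      rw [e y hy, conj_Z hy']
    obtain ⟨γ, hγ, hγ'⟩ := h₀.exists_notMem
    have ha := conjAut_mem_autInducedBy (P := E) (mem_top x) hN
    refine h₀.conj_notMem hγ hγ' ha (fun e => hxE ((mem_iff_conjAut_mem_Inn hE.1 (mem_top x) hN).1 e))
      (hle ⟨mul_mem (mul_mem hγ (h₀.syl.le ha)) (inv_mem hγ), fun y hy hy' => ?_⟩)
    have c := fun e => afn_cen γ⁻¹ hy hy' (e := e)
    have h₁ : (afn γ⁻¹ y).t = 0 := mem_R_of_comm fun e he => c e (hZ2 he)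
    have h₂ := (commute_iff.1 (c _ he₁)).1
    rw [h₁, zero_mul] at h₂
    have : afn γ⁻¹ y ∈ Z3 K := mem_Z3_of_pow ((mul_eq_zero.1 h₂).resolve_left ht₁)
      (afn_pow_char _ hy (Z_le_Z3 hy')) hu₀ (by rw [icj_of_comm (c _ he₀).symm]; exact one_mem _)
    rw [afn_mul, afn_mul, afn_conjAut hN (afn_mem _ hy), conj_Z3 this hx, afn_afn_inv]
  have hY : ∀ α ∈ fx (F.autGroup E) (Z K), ∀ y ∈ E, y ∈ Z K → afn α y = y := fun α hα => hα.2
  have iZ : ∀ α ∈ fx (F.autGroup E) (Z K), ∀ y ∈ E, y ∈ Z K → afn α y ∈ Z K :=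
    fun α hα y hy hy' => by rwa [hY α hα y hy hy']
  obtain ⟨y, hy, β, hβ, hu⟩ : ∃ y ∈ Z2 K, ∃ β ∈ fx (F.autGroup E) (Z K), (afn β y).u ≠ 0 := by
    by_contra hc
    push Not at hc
    exact hW (h.le_of_chain hS hE.1 le_top le_normalizer_of_normal (D₁ := Z K)
      (D₂ := U5.E3.cr (fx (F.autGroup E) (Z K)) (Q K))
      (fun z hz => ⟨hZ hz, hc z (Z_le_Z2 hz)⟩) iZ U5.E3.cr_inv
      (fun g hg e _ => ⟨hZ2 (icj_mem_Z2' hg e), hc _ (icj_mem_Z2' hg e)⟩)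
      (fun g hg e _ he => icj_Q_mem (Z3_le_Q hg) (cr_le he)) fun g _ e _ he => conj_Z he g)
  set δ := afn β y
  have key : ∀ e ∈ E, e⁻¹ * (δ * e * δ⁻¹) ∈ Z K := fun e he => by
    have h₁ := icj_mem_Z' hy (afn β⁻¹ e)
    have := iZ β hβ _ (hZ h₁) h₁
    rwa [afn_icj _ (afn_mem _ he) (hZ2 hy), afn_afn_inv] at this
  have rel : ∀ e ∈ E, e.t * δ.u = δ.t * e.u := fun e he =>
    sub_eq_zero.1 ((icj_v δ e).symm.trans (key e he).2.2.1)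
  have ht : δ.t ≠ 0 := fun e => mul_ne_zero ht₁ hu (by rw [rel _ he₁, e, zero_mul])
  have h2 := two_ne ht hu (afn_pow_char β (hZ2 hy) (Z2_le_Z3 hy))
  have rel' : ∀ e ∈ E, e.u = e.t / δ.t * δ.u := fun e he => by
    field_simp
    linear_combination -rel e he
  have hEQ : ∀ e ∈ E, e ∈ Q K → e ∈ UU δ.u := fun e he hq => by
    obtain ⟨-, h₁, h₂⟩ := icj_Q δ hq
    have h₃ : e.t = 0 := (mul_eq_zero.1 ((rel e he).trans (by rw [mem_Q.1 hq, mul_zero]))).resolve_right hu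
    rw [(key e he).2.2.2.1, h₃, zero_mul, add_zero] at h₁
    have h₄ := eq_zero_of_cr h2 hu h₁.symm
    rw [(key e he).2.2.2.2, h₃, h₄] at h₂
    exact ⟨⟨h₃, hq, h₄⟩, by simpa using h₂.symm⟩
  have hUZ : ∀ g ∈ UU δ.u, ∀ e ∈ E, e⁻¹ * (g * e * g⁻¹) ∈ Z K := fun g hg e he => by
    obtain ⟨k₁, k₂, k₃, k₄⟩ := icj_mem_Z2' hg.1 e
    exact ⟨k₁, k₂, k₃, k₄, by
      rw [(icj_Z3' hg.1 e).1, rel' e he, mul_assoc, tr_smul (by simp), hg.2]; simp⟩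
  have hU : UU δ.u ≤ E := h.le_of_chain hS hE.1 le_top le_normalizer_of_normal (D₁ := Z K) le_rfl
    iZ iZ hUZ (fun g hg e he _ => hUZ g hg e he) fun g _ e _ he => conj_Z he g
  obtain ⟨v, hv, hv'⟩ := exists_perp (sh δ.u)
  obtain ⟨W, hW⟩ := exists_tr_mul hu (map_one th)
  have hb : xr 0 v 0 ∈ BB (sh δ.u) := ⟨xr_mem_Z4 .., hv'⟩
  have hbE : xr 0 v 0 ∉ E := fun e => hv (hEQ _ e rfl).1.2.2
  obtain ⟨-, -, -, C, -, -, k₁, k₂⟩ := h.qf_gen hS hE.1 (B := BB (sh δ.u)) (U := UU δ.u) (Y := Z K)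
    le_top (fun hle => hbE (hle hb)) hU hY
    (fun g hg e he => ⟨icj_mem_Z3' hg.1 e, by
      rw [(icj_Q' hg.1.2 e).2.1, hg.1.1, rel' e he, cr_smul_left (by simp), zero_mul, zero_sub,
        mul_neg, tr_neg, mul_left_comm, tr_smul (by simp), tr_cr_self, hg.2]
      simp⟩)
    fun g hg u hu => icj_Q_mem hg.1.2 hu.1.2.1
  have k₃ := relIndex_le (C := Q K) (E := E) (ι := kf K) (fun e => ⟨_, e.1.ht⟩) fun e e' he => by
    have he : e.1.t = e'.1.t := congrArg Subtype.val he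
    rw [mem_Q, P.mul_u, P.inv_u, rel' _ e.2, rel' _ e'.2, he, neg_add_cancel]
  obtain ⟨c, hc⟩ := pigeon (fun c : kf K => xr 0 0 (c * W))
    (fun c => (⟨xr_mem_Z4 .., by simp⟩ : _ ∈ BB (sh δ.u))) (fun c c' e => by
      have := (hEQ _ e (by simp [mem_Q])).2
      simp only [P.mul_w, P.inv_w, P.inv_u, xr_t, xr_u, xr_v, xr_w, cr_zero_right, zero_mul,
        mul_add, mul_sub, tr_add, tr_sub, mul_left_comm δ.u, tr_smul (th_kf _), hW, mul_zero,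
        tr_zero] at this
      exact Subtype.ext (by linear_combination -this))
    (k₁.trans ((k₂ _ hb hbE _ fun e _ he => icj_Q_mem rfl he).trans k₃)) hb
  exact hv (by simpa using (hEQ _ hc (by simp [mem_Q])).1.2.2)

theorem inv_Z : ∀ γ ∈ F.autGroup E, ∀ z ∈ Z K, afn γ z ∈ Z K := by
  intro γ hγ z hz
  by_contra hc
  have hZ := Z_le hE
  have hZ3 := Z3_le hF hE hZ2 he₀ hu₀ he₁ ht₁
  have c₃ : afn γ z ∈ Z3 K := mem_Z3_of_comm fun y hy => afn_cen γ (hZ hz) hz (hZ3 hy)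
  have hw : (afn γ z).w ≠ 0 := fun e =>
    hc (mem_Z_of_Z2 ⟨c₃.1, c₃.2.1, c₃.2.2, e⟩ ht₁ (afn_cen γ (hZ hz) hz he₁))
  have ti : ∀ n ∈ Z K, afn γ n ∈ Z2 K → n = 1 := fun n hn h => by
    have h' := mem_Z_of_Z2 h ht₁ (afn_cen γ (hZ hn) hn he₁)
    obtain ⟨v, hv⟩ := exists_tr_mul hw (c := -(afn γ n).z) (by simp)
    have hN : xr 0 v 0 ∈ normalizer (E : Set (P K)) := mem_normalizer_of_conj_mem fun e he => by
      simpa using E.mul_mem he (hZ3 (icj_mem_Z3' (xr_mem_Z4 v 0) e))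
    have fix : ∀ t ∈ autInducedBy ⊤ E, ∀ x : E, x.1 ∈ Z K → t x = x := fun t ht x hx => by
      obtain ⟨g, -, e⟩ := Fus.mem_autInducedBy_iff.1 ht
      exact Subtype.ext (by rw [e, conj_Z hx])
    have := SP4.orb (isPGroup_of_le (pg_top K p) le_top) (sat_sylow (pg_top K p) hF hE.2.1) hγ
      (conjAut_mem_autGroup le_top (mem_top _) hN) (z := ⟨z, hZ hz⟩) (n := γ ⟨n, hZ hn⟩)
      (fun t ht => fix t ht _ hz) (fun t ht => by rw [MulAut.inv_apply_self, fix t ht _ hn])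
      (fix _ (conjAut_mem_autInducedBy (mem_top _) hN) _ (by rwa [← afn_apply γ (hZ hn)]))
      (Subtype.ext (by
        rw [← afn_coe, afn_conjAut hN (γ _).2, coe_mul, ← afn_apply γ (hZ hn),
          ← afn_apply γ (hZ hz), ← inv_mul_eq_iff_eq_mul]
        refine eq_of_z (icj_Q_mem rfl c₃.2.1) h' ?_
        rw [(icj_Z3 _ c₃).2]
        simp [mul_comm v, hv]))
    exact congrArg Subtype.val ((map_eq_one_iff _ γ.injective).1 this)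
  obtain ⟨a, ha, e⟩ := exists_icj_Z2 ht₁ hz
  have h₃ : afn γ a ∈ Z3 K := mem_Z3_of_comm fun y hy => by
    have h₁ := afn_icj γ (afn_mem γ⁻¹ (hZ3 hy)) (hZ2 ha)
    rw [afn_afn_inv] at h₁
    rw [ti _ (icj_mem_Z' ha _) (h₁ ▸ icj_mem_Z2 _ hy), (homOn_afn γ).map_one] at h₁
    exact comm_of_icj h₁.symm
  refine hc (mem_Z_of_Z2 ?_ ht₁ (afn_cen γ (hZ hz) hz he₁))
  rw [← e, afn_icj γ he₁ (hZ2 ha)]
  exact icj_mem_Z2' h₃ _

theorem inv_Q : ∀ γ ∈ F.autGroup E, ∀ x ∈ E, x ∈ Q K → afn γ x ∈ Q K := by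
  have hZ3 := Z3_le hF hE hZ2 he₀ hu₀ he₁ ht₁
  have iZ := inv_Z hF hE hZ2 he₀ hu₀ he₁ ht₁
  have s₂ : ∀ γ ∈ F.autGroup E, ∀ a ∈ Z2 K, afn γ a ∈ Z3 K := fun γ hγ a ha => by
    have k : ∀ e ∈ E, e⁻¹ * (afn γ a * e * (afn γ a)⁻¹) ∈ Z K := fun e he => by
      have := iZ γ hγ _ (icj_mem_Z' ha (afn γ⁻¹ e))
      rwa [afn_icj _ (afn_mem _ he) (hZ2 ha), afn_afn_inv] at this
    refine mem_Z3_of_pow (mem_Q_of_icj fun y hy => k y (hZ3 hy))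
      (afn_pow_char γ (hZ2 ha) (Z2_le_Z3 ha)) hu₀ ?_
    have := iZ γ hγ _ (icj_mem_Z (afn γ⁻¹ e₀) ha)
    rwa [afn_icj _ (hZ2 ha) (afn_mem _ he₀), afn_afn_inv] at this
  have s₃ : ∀ γ ∈ F.autGroup E, ∀ y ∈ Z3 K, afn γ y ∈ Q K := fun γ hγ y hy => by
    by_contra hu
    have k : ∀ e ∈ E, afn γ ((afn γ⁻¹ e)⁻¹ * (y * afn γ⁻¹ e * y⁻¹)) =
        e⁻¹ * (afn γ y * e * (afn γ y)⁻¹) := fun e he => by
      rw [afn_icj _ (afn_mem _ he) (hZ3 hy), afn_afn_inv]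
    have h₁ := (s₂ γ hγ _ (icj_mem_Z2' hy (afn γ⁻¹ e₁))).2.2
    rw [k _ he₁, icj_v] at h₁
    obtain ⟨W, hW⟩ := exists_tr_mul hu (map_one th)
    have hm := icj_mem_Z2' hy (afn γ⁻¹ (xr 0 0 W))
    have h₂ := afn_comm γ (hZ2 hm) (hZ3 hy) (comm_Z3 (Z2_le_Z3 hm) hy)
    rw [k _ (hZ3 (xr_mem_Z3 W))] at h₂
    have h₃ := (mem_Z_of_Z2 (icj_mem_Z2 _ (xr_mem_Z3 W)) (fun e =>
      mul_ne_zero ht₁ hu (by rw [e] at h₁; linear_combination h₁)) h₂).2.2.2.2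
    rw [(icj_Z3 _ (xr_mem_Z3 W)).1] at h₃
    exact one_ne_zero (hW.symm.trans h₃)
  intro γ hγ x hx hx'
  refine mem_Q_of_icj fun y hy => ?_
  have := iZ γ hγ _ (icj_Q_mem hx' (s₃ _ (inv_mem hγ) y hy))
  rwa [afn_icj _ (afn_mem _ (hZ3 hy)) hx, afn_afn_inv] at this

theorem main (hT : TiStmt) (hX : ExtStmt) : False := by
  have iZ := inv_Z hF hE hZ2 he₀ hu₀ he₁ ht₁
  have iQ := inv_Q hF hE hZ2 he₀ hu₀ he₁ ht₁
  have hQ : Q K ≤ E := SP4.OB.le_of_chain (pg_top K p) hF hE le_top le_normalizer_of_normal Z_le_Q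
    (fun β hβ x _ => iZ β hβ x) iQ (fun g _ x _ => Z4_le_Q (icj_mem_Z4 g x))
    (fun g hg x _ hx => icj_Q_mem hg hx) fun g _ x _ hx => conj_Z hx g
  have au : ∀ β ∈ F.autGroup E, Au F (Q K) (afn β) := fun β hβ =>
    ⟨(M_afn le_top hβ).mono hQ, fun x hx => iQ β hβ x (hQ hx) hx⟩
  have i₂ : ∀ β ∈ F.autGroup E, ∀ x ∈ Z2 K, afn β x ∈ Z2 K := fun β hβ =>
    hT hF _ (au β hβ) e₀ (afn β e₀) hu₀ fun x hx => (homOn_afn β).map_conj he₀ (hQ hx)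
  have i₄ : ∀ β ∈ F.autGroup E, ∀ x ∈ Z4 K, afn β x ∈ Z4 K := fun β hβ x hx =>
    ⟨mem_R_of_comm fun y hy => by
      have hy' := i₂ _ (inv_mem hβ) y hy
      have := afn_comm β (hQ hx.2) (hZ2 hy') (comm_Z2 hy' hx.1).symm
      rwa [afn_afn_inv] at this, iQ β hβ x (hQ hx.2) hx.2⟩
  have i₃ : ∀ β ∈ F.autGroup E, ∀ x ∈ Z3 K, afn β x ∈ Z3 K := fun β hβ x hx => by
    obtain ⟨g, hg, e⟩ := (hX hF).1 _ (au β hβ) (i₂ β hβ)
    have h₄ := i₄ β hβ x (Z3_le_Z4 hx)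
    refine ⟨h₄.1, h₄.2, eq_zero_of_cr_all fun u => ?_⟩
    obtain ⟨y, -, hy⟩ := hg.homOn.mem_img.1
      ((hg.img_eq_self fun _ _ => mem_top _).ge (mem_top (xr u 0 0)))
    have h₁ := i₂ β hβ _ (icj_mem_Z2 y hx)
    rw [← e _ (Z2_le_Q (icj_mem_Z2 y hx)), hg.homOn.map_mul (mem_top _) (mem_top _),
      hg.homOn.map_inv (mem_top _), hg.homOn.map_conj (mem_top _) (mem_top _), hy,
      e x (Z3_le_Q hx)] at h₁
    have h₂ := h₁.2.2.2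
    rw [(icj_Q _ h₄.2).2.1] at h₂
    simpa [h₄.1] using h₂
  refine (lt_of_isEssential (pg_top K p) hF hE).not_ge (le_of_conjAut_mem_autCore (pg_top K p) hE.1
    (isRadical_of_isEssential (pg_top K p) hE) le_rfl (le_top.trans le_normalizer) fun g hg hN =>
      mem_autCore_of_chain' (pg_top K p) le_top ch 5 (fun i hi => ?_) le_top rfl
        (fun β hβ i hi x _ hx => ?_) (conjAut_mem_autGroup le_top hg hN) fun i hi x hx hx' => ?_)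
  · interval_cases i <;> simp [ch, Z_le_Z2, Z2_le_Z3, Z3_le_Z4]
  · interval_cases i
    · rw [show x = 1 from hx, (homOn_afn β).map_one]; exact one_mem _
    exacts [iZ β hβ x hx, i₂ β hβ x hx, i₃ β hβ x hx, i₄ β hβ x hx, trivial]
  · rw [afn_conjAut hN hx]
    interval_cases i
    · exact mem_bot.2 (by rw [conj_Z hx' g, inv_mul_cancel])
    exacts [icj_mem_Z g hx', icj_mem_Z2 g hx', icj_mem_Z3 g hx', icj_mem_Z4 g x]

end E3

theorem ess3 (hT : TiStmt) (hX : ExtStmt) : Ess3Stmt := by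
  intro K _ _ _ p _ _ F hF E hE hZ2
  by_contra h
  rw [not_or] at h
  obtain ⟨e₀, he₀, hu₀⟩ := SetLike.not_le_iff_exists.1 h.1
  obtain ⟨e₁, he₁, ht₁⟩ := SetLike.not_le_iff_exists.1 h.2
  exact E3.main hF hE hZ2 he₀ hu₀ he₁ ht₁ hT hX

end Cfsg.Agent.D4
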