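import Cfsg.Agent.Lib.D4.Basic

/-!
Extension of automorphisms of `Q`, `R` to `S`; essential `Q`, `R` move `Z₂`, `Z₄`.
-/

set_option autoImplicit false

namespace Cfsg.Agent.D4

open Cfsg.Agent.Fus Cfsg.Agent.Fus2 Subgroup

variable {K : Type} [Field K] [Fintype K] [Tf K]
variable {F : FusionSystem (⊤ : Subgroup (P K))} {f : P K → P K}

theorem Au.surj {A B : Subgroup (P K)} (hf : Au F A f) (hR : B ≤ A) (h : ∀ x ∈ B, f x ∈ B)
    {y : P K} (hy : y ∈ B) : ∃ x ∈ B, f x = y := by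
  rw [← (hf.1.mono hR).img_eq_self h] at hy
  exact (hf.1.mono hR).homOn.mem_img.1 hy

theorem Au.icj {A : Subgroup (P K)} (hf : Au F A f) {g y : P K} (hg : g ∈ A) (hy : y ∈ A) :
    f (y⁻¹ * (g * y * g⁻¹)) = (f y)⁻¹ * (f g * f y * (f g)⁻¹) := by
  have h := hf.1.homOn
  rw [h.map_mul (inv_mem hy) (mul_mem (mul_mem hg hy) (inv_mem hg)),
    h.map_mul (mul_mem hg hy) (inv_mem hg), h.map_mul hg hy, h.map_inv hy, h.map_inv hg]

theorem Au.comm {A : Subgroup (P K)} (hf : Au F A f) {x y : P K} (hx : x ∈ A) (hy : y ∈ A)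
    (h : x * y = y * x) : f x * f y = f y * f x := by
  rw [← hf.1.homOn.map_mul hx hy, h, hf.1.homOn.map_mul hy hx]

theorem Au.res {A B : Subgroup (P K)} (hf : Au F A f) (hB : B ≤ A) (h : ∀ x ∈ B, f x ∈ B) :
    Au F B f := ⟨hf.1.mono hB, h⟩

theorem au_afn {E : Subgroup (P K)} {β : MulAut E} (hβ : β ∈ F.autGroup E) : Au F E (afn β) :=
  ⟨M_afn le_top hβ, fun _ hx => afn_mem β hx⟩

theorem Au.Z4_of_Q (hf : Au F (Q K) f) (h : ∀ x ∈ Z2 K, f x ∈ Z2 K) :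
    ∀ x ∈ Z4 K, f x ∈ Z4 K := fun x hx =>
  ⟨mem_R_of_comm fun y hy => by
    obtain ⟨w, hw, rfl⟩ := hf.surj Z2_le_Q h hy
    exact hf.comm (Z4_le_Q hx) (Z2_le_Q hw) (comm_Z2 hw hx.1).symm, hf.2 x (Z4_le_Q hx)⟩

theorem Au.Z2_of_Z4 (hf : Au F (Z4 K) f) : ∀ x ∈ Z2 K, f x ∈ Z2 K := fun x hx =>
  mem_Z2_of_comm fun y hy => by
    obtain ⟨w, hw, rfl⟩ := hf.surj le_rfl hf.2 hy
    exact hf.comm (Z2_le_Z4 hx) hw (comm_Z2 hx hw.1)

theorem Au.Z_of_Z4 (hf : Au F (Z4 K) f) (h : ∀ x ∈ Z3 K, f x ∈ Z3 K) :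
    ∀ x ∈ Z K, f x ∈ Z K := fun x hx => by
  obtain ⟨g, hg, y, hy, rfl⟩ := exists_icj_Z hx
  rw [hf.icj hg (Z3_le_Z4 hy)]
  exact icj_Q_mem (hf.2 g hg).2 (h y hy).2.1

/-- The chain `1 < Z < Z₂ < Z₃ < Z₄ < S`. -/
def ch (K : Type) [Field K] [Fintype K] [Tf K] (i : ℕ) : Subgroup (P K) :=
  if i = 0 then ⊥ else if i = 1 then Z K else if i = 2 then Z2 K else if i = 3 then Z3 K else
    if i = 4 then Z4 K else ⊤

theorem ch_mono : ∀ i < 5, ch K i ≤ ch K (i + 1) := by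
  intro i hi
  interval_cases i <;> simp [ch, Z_le_Z2, Z2_le_Z3, Z3_le_Z4]

theorem ch_triv (g : P K) : ∀ i < 5, ∀ x ∈ ch K (i + 1), x⁻¹ * (g * x * g⁻¹) ∈ ch K i := by
  intro i hi x hx'
  interval_cases i
  · exact mem_bot.2 (by rw [conj_Z hx' g, inv_mul_cancel])
  · exact icj_mem_Z g hx'
  · exact icj_mem_Z2 g hx'
  · exact icj_mem_Z3 g hx'
  · exact icj_mem_Z4 g x

variable {p : ℕ} [Fact p.Prime] [CharP K p]

theorem Au.Z3_of_Z4 (hY : YStmt) (hF : F.IsSaturated p) (hf : Au F (Z4 K) f) :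
    ∀ x ∈ Z3 K, f x ∈ Z3 K := fun x hx => by
  obtain ⟨η, hη, e⟩ := hf.1.exists_aut' hf.2
  rw [← e x (Z3_le_Z4 hx)]
  exact hY Z3_le_Z4 Z4_le_R (sat_sylow (pg_top K p) hF (isFullyNormalized_of_normal (F := F) le_top
    (normalizer_eq_top _).ge)) (fun β hβ => (au_afn hβ).Z2_of_Z4) η hη x hx

theorem Au.ch_inv (hY : YStmt) (hF : F.IsSaturated p) (hf : Au F (Z4 K) f) :
    ∀ i ≤ 5, ∀ x ∈ ch K i, f x ∈ ch K i := by
  intro i hi x hx
  interval_cases i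
  · rw [show x = 1 from hx, hf.1.homOn.map_one]; exact one_mem _
  · exact hf.Z_of_Z4 (hf.Z3_of_Z4 hY hF) x hx
  · exact hf.Z2_of_Z4 x hx
  · exact hf.Z3_of_Z4 hY hF x hx
  · exact hf.2 x hx
  · trivial

/-- An automorphism of a normal subgroup containing and stabilising `Z₄` extends to `S`. -/
theorem ext_Z4 (hY : YStmt) (hF : F.IsSaturated p) {E : Subgroup (P K)} [E.Normal]
    (hE : Z4 K ≤ E) (hf : Au F E f) (h : ∀ x ∈ Z4 K, f x ∈ Z4 K) :
    ∃ g, M F ⊤ g ∧ ∀ x ∈ E, g x = f x :=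
  U5.ext_of_chain (pg_top K p) hF le_top (normalizer_eq_top _).ge (ch K) 5 ch_mono le_top rfl
    (fun g _ i hi x _ => ch_triv g i hi x) hf.1 hf.2
    fun i hi x _ => (hf.res hE h).ch_inv hY hF i hi x

theorem ext (hY : YStmt) : ExtStmt := by
  intro K _ _ _ p _ _ F hF
  exact ⟨fun f hf h => ext_Z4 hY hF Z4_le_Q hf (hf.Z4_of_Q h),
    fun f hf h => ext_Z4 hY hF Z4_le_R hf h⟩

/-- `Z₄` is not invariant under the automizer of an essential subgroup containing it. -/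
theorem not_ch (hY : YStmt) (hF : F.IsSaturated p) {E : Subgroup (P K)} (hE : F.IsEssential p E)
    (h₁ : Z4 K ≤ E) (h : ∀ f, Au F E f → ∀ x ∈ Z4 K, f x ∈ Z4 K) : False :=
  (lt_of_isEssential (pg_top K p) hF hE).not_ge (le_of_conjAut_mem_autCore (pg_top K p) hE.1
    (isRadical_of_isEssential (pg_top K p) hE) le_rfl (le_top.trans le_normalizer) fun g hg hN =>
      mem_autCore_of_chain' (pg_top K p) le_top (ch K) 5 ch_mono le_top rfl
        (fun β hβ i hi x _ => ((au_afn hβ).res h₁ (h _ (au_afn hβ))).ch_inv hY hF i hi x)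
        (conjAut_mem_autGroup le_top hg hN) fun i hi x hx hx' => by
          rw [afn_conjAut hN hx]
          exact ch_triv g i hi x hx')

theorem mvQ_of_ess (hY : YStmt) (hF : F.IsSaturated p) (hE : F.IsEssential p (Q K)) : MvQ F := by
  by_contra h
  simp only [MvQ, not_exists, not_and, not_not] at h
  exact not_ch hY hF hE Z4_le_Q fun f hf => hf.Z4_of_Q (h f hf)

theorem mvR_of_ess (hY : YStmt) (hF : F.IsSaturated p) (hE : F.IsEssential p (R K)) : MvR F := by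
  by_contra h
  simp only [MvR, not_exists, not_and, not_not] at h
  exact not_ch hY hF hE Z4_le_R h

end Cfsg.Agent.D4
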