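import Cfsg.Agent.Lib.D4.Ext

/-!
Assembly: every saturated system on a Sylow subgroup of `³D₄(q)` is realizable.
-/

set_option autoImplicit false

namespace Cfsg.Agent.D4

open Cfsg.Agent.Fus Cfsg.Agent.Fus2 Subgroup

universe u v

variable {K : Type} [Field K] [Fintype K] [Tf K]

namespace Fn

/-- The action of a field automorphism on the units of the fixed field. -/
def kmap (σ : K ≃+* K) (m : ku K) : ku K :=
  ⟨Units.map (σ : K →* K) m, by rw [mem_ku]; simp [← map_th]⟩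

@[simp] theorem coe_kmap (σ : K ≃+* K) (m : ku K) : ((kmap σ m : Kˣ) : K) = σ (m : Kˣ) := rfl

theorem dg_mul (l l' : Kˣ) (m m' : ku K) (σ σ' : K ≃+* K) : dg l m σ * dg l' m' σ' =
    dg (l * Units.map (σ : K →* K) l') (m * kmap σ m') (σ'.trans σ) := by
  ext x <;> simp [map_sh, map_nm, sh_mul, nm_mul] <;> ring

theorem dg_one : dg 1 1 (RingEquiv.refl K) = 1 := by ext x <;> simp

theorem dg_inv (l : Kˣ) (m : ku K) (σ : K ≃+* K) : (dg l m σ)⁻¹ =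
    dg (Units.map (σ.symm : K →* K) l⁻¹) (kmap σ.symm m⁻¹) σ.symm := by
  rw [inv_eq_iff_mul_eq_one, dg_mul, ← dg_one]
  congr 1
  · ext; simp
  · ext; simp
  · ext; simp

theorem dg_eq_one {l : Kˣ} {m : ku K} {σ : K ≃+* K} (ha : ∀ a : K, l * σ a = a)
    (hb : ((m : Kˣ) : K) = 1) : dg l m σ = 1 := by
  have hl : (l : K) = 1 := by simpa using ha 1
  have hσ : ∀ a, σ a = a := fun a => by simpa [hl] using ha a
  ext x <;> simp [hl, hb, hσ]

/-- The diagonal-field automorphisms in `F`. -/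
def HF (F : FusionSystem (⊤ : Subgroup (P K))) : Subgroup (MulAut (P K)) where
  carrier := {h | (∃ l m σ, h = dg l m σ) ∧ M F ⊤ h}
  one_mem' := ⟨⟨1, 1, _, dg_one.symm⟩, M_id F le_rfl⟩
  mul_mem' := by
    rintro _ _ ⟨⟨l, m, σ, rfl⟩, h⟩ ⟨⟨l', m', σ', rfl⟩, h'⟩
    exact ⟨⟨_, _, _, dg_mul ..⟩, h'.comp h fun _ _ => trivial⟩
  inv_mem' := by
    rintro _ ⟨⟨l, m, σ, rfl⟩, h⟩
    refine ⟨⟨_, _, _, dg_inv ..⟩, ?_⟩
    obtain ⟨g, hg, -, e, -⟩ := h.inv' (h.img_eq_self fun _ _ => trivial)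
    exact hg.congr fun x _ => by simpa using e ((dg l m σ)⁻¹ x) trivial

variable {p : ℕ} [hp : Fact p.Prime] [CharP K p] {F : FusionSystem (⊤ : Subgroup (P K))}

theorem not_dvd_HF (hF : F.IsSaturated p) : ¬ p ∣ Nat.card (HF F) := fun hd => by
  haveI : Finite (MulAut (P K)) := Finite.of_injective (fun α : MulAut (P K) => (α : P K → P K))
    DFunLike.coe_injective
  obtain ⟨⟨_, ⟨l, m, σ, rfl⟩, h⟩, ho⟩ := exists_prime_orderOf_dvd_card' p hd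
  rw [← orderOf_coe] at ho
  let c := MulAut.congr (topEquiv (G := P K)).symm
  have hα : c (dg l m σ) ∈ F.autGroup ⊤ := h.mem_autGroup fun x hx => by
    rw [afn_apply _ hx]; rfl
  have hT := sat_sylow_top (pg_top K p) hF
  have hz : IsPGroup p (zpowers (c (dg l m σ))) := IsPGroup.of_card (n := 1) (by
    rw [Nat.card_zpowers, MulEquiv.orderOf_eq, pow_one]; exact ho)
  haveI := innNormal (⊤ : Subgroup (P K))
  obtain ⟨g, hg⟩ := (hT.eq_of_le (hT.isPGroup.to_sup_of_normal_left hz) le_sup_left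
    (sup_le hT.le (zpowers_le.2 hα))).le (mem_sup_right (mem_zpowers _))
  have e : ∀ y, dg l m σ y = g * y * (g : P K)⁻¹ := fun y => by
    have := congrArg Subtype.val (DFunLike.congr_fun hg ⟨y, mem_top y⟩)
    exact this.symm
  have h1 : dg l m σ = 1 := dg_eq_one (fun a => by
    simpa using congrArg P.u (e (xr a 0 0))) (by
    simpa using congrArg P.t (e (xt 1 (map_one _))))
  simp only [h1, orderOf_one] at ho
  exact hp.out.one_lt.ne ho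

theorem ess_eq (h1 : Ess1Stmt) (h2 : Ess2Stmt) (h3 : Ess3Stmt) (hF : F.IsSaturated p)
    {E : Subgroup (P K)} (hE : F.IsEssential p E) : E = Q K ∨ E = R K := by
  by_cases h : E ≤ Q K
  · exact .inl ((h1 hF hE).1 h)
  · exact .inr (h2 hF hE ((h3 hF hE (h1 hF hE).2).resolve_left h) h)

theorem le_of_cmp (h1 : Ess1Stmt) (h2 : Ess2Stmt) (h3 : Ess3Stmt) (hC : CmpStmt)
    {F' : FusionSystem (⊤ : Subgroup (P K))} (hF : F.IsSaturated p) (hF' : F'.IsSaturated p)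
    (hN : NF F) (h : ∀ f, M F ⊤ f ↔ M F' ⊤ f) (m₁ : MvQ F) (m₂ : MvR F) (m₁' : MvQ F')
    (m₂' : MvR F') : F ≤ F' := by
  obtain ⟨c₁, c₂⟩ := hC hF hF' hN h m₁ m₂ m₁' m₂'
  refine alperin_le (pg_top K p) hF ?_
  rintro E (rfl | hE)
  · exact fun α hα => ((h _).1 (M_afn le_rfl hα)).mem_autGroup fun _ _ => rfl
  rcases ess_eq h1 h2 h3 hF hE with rfl | rfl
  · exact fun α hα => (c₁ _ (au_afn hα)).mem_autGroup fun _ _ => rfl
  · exact fun α hα => (c₂ _ (au_afn hα)).mem_autGroup fun _ _ => rfl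

theorem real_NF (hY : YStmt) (h1 : Ess1Stmt) (h2 : Ess2Stmt) (h3 : Ess3Stmt) (h₁ : L1Stmt)
    (h₂ : L2Stmt) (hC : CmpStmt) (hM : ModelStmt) (hF : F.IsSaturated p) (hN : NF F) :
    F.IsRealizable p := by
  by_contra hex
  obtain ⟨m₁, m₂⟩ : MvQ F ∧ MvR F := by
    obtain ⟨E₁, E₂, e₁, e₂, hne⟩ := SP4.two_ess (pg_top K p) hF hex
    rcases ess_eq h1 h2 h3 hF e₁ with rfl | rfl <;> rcases ess_eq h1 h2 h3 hF e₂ with rfl | rfl
    · exact absurd rfl hne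
    · exact ⟨mvQ_of_ess hY hF e₁, mvR_of_ess hY hF e₂⟩
    · exact ⟨mvQ_of_ess hY hF e₂, mvR_of_ess hY hF e₁⟩
    · exact absurd rfl hne
  obtain ⟨G, _, _, ι, hι, ⟨T, hT⟩, hn, hH, ⟨g₁, hg₁⟩, g₂, hg₂⟩ := hM (p := p) (HF F)
    (fun h hh => hh.1) (not_dvd_HF hF)
    fun l m => ⟨⟨_, _, _, rfl⟩, (h₁ hF hN m₁ (h₂ hF hN m₂).1).1 l m⟩
  obtain ⟨b, hb⟩ := exists_gIso (homOn_hom ⊤ ι) (fun _ _ _ _ e => hι e) (S' := T)
    (by rw [img_hom, hT, MonoidHom.range_eq_map])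
  obtain ⟨E, hE⟩ := hb.symm.exists_isoM (groupFusionSystem (T : Subgroup G))
  have hI := hE.symm
  have hE' : E.IsSaturated p := hE.saturated T.isPGroup' (group_isSaturated T)
  have key : ∀ Q f, M E Q f ↔ ∃ g, ∀ x ∈ Q, ι (f x) = g * ι x * g⁻¹ := fun Q f => by
    rw [Asch.M_iff_of_realized hI.isRealizedBy.1]
    simp only [le_top, mem_top, implies_true, true_and, hI.hom.fn_toHom (mem_top _)]
  have hM : ∀ f, M F ⊤ f ↔ M E ⊤ f := fun f => by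
    rw [key]
    constructor
    · intro hf
      obtain ⟨x, l, m, σ, e⟩ := hN f hf
      obtain ⟨g, hg⟩ := hH (dg l m σ) ⟨⟨_, _, _, rfl⟩,
        (hf.comp (M_conj F le_rfl (mem_top x⁻¹)) fun _ _ => trivial).congr fun y _ => by
          simp [e, mul_assoc]⟩
      exact ⟨ι x * g, fun y _ => by rw [e, map_mul, map_mul, ← hg, map_inv]; group⟩
    · rintro ⟨g, hg⟩
      obtain ⟨x, h, hh, e⟩ := hn g fun y => ⟨f y, (hg y trivial).symm⟩
      exact (hh.2.comp (M_conj F le_rfl (mem_top x)) fun _ _ => trivial).congr fun y _ =>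
        hι (by rw [hg y trivial, e])
  choose! w₁ hw₁ ew₁ aw₁ using hg₁
  choose! w₂ hw₂ ew₂ aw₂ using hg₂
  have n₁ : MvQ E := ⟨w₁, ⟨(key _ _).2 ⟨g₁, fun x hx => (ew₁ x hx).symm⟩, hw₁⟩,
    xz 1 0 (map_one _) (map_zero _), xz_mem_Z2 .., fun h => by
      simpa using (aw₁ _ (Z2_le_Q (xz_mem_Z2 1 0 (map_one _) (map_zero _)))).symm.trans h.1⟩
  have n₂ : MvR E := ⟨w₂, ⟨(key _ _).2 ⟨g₂, fun x hx => (ew₂ x hx).symm⟩, hw₂⟩, xr 0 1 0,
    xr_mem_Z4 .., fun h => by simpa using (aw₂ _ (xr_mem_R 0 1 0)).symm.trans h.2⟩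
  obtain rfl : F = E := fs_le_antisymm (le_of_cmp h1 h2 h3 hC hF hE' hN hM m₁ m₂ n₁ n₂)
    (le_of_cmp h1 h2 h3 hC hE' hF (fun f hf => hN f ((hM f).2 hf)) (fun f => (hM f).symm)
      n₁ n₂ m₁ m₂)
  exact hex ⟨G, _, inferInstance, _, hI.isRealizedBy.1, T, hI.isRealizedBy.2.symm⟩

theorem real_P (hY : YStmt) (h1 : Ess1Stmt) (h2 : Ess2Stmt) (h3 : Ess3Stmt) (hN : NrmStmt)
    (h₁ : L1Stmt) (h₂ : L2Stmt) (hC : CmpStmt) (hM : ModelStmt) (hF : F.IsSaturated p) :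
    F.IsRealizable p := by
  obtain ⟨θ, hθ⟩ := hN hF
  have hG : GIso (⊤ : Subgroup (P K)) ⊤ θ θ.symm := ⟨homOn_hom ⊤ θ.toMonoidHom, fun _ _ => trivial,
    fun _ _ => trivial, fun x _ => θ.symm_apply_apply x, fun x _ => θ.apply_symm_apply x⟩
  obtain ⟨E, hE⟩ := hG.exists_isoM F
  refine U5.real_of_isoM hE
    (real_NF hY h1 h2 h3 h₁ h₂ hC hM (hE.saturated (pg_top K p) hF) fun f hf => ?_)
  have := hE.pull _ f hf
  rw [hG.symm.img_top] at this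
  simpa using hθ _ this

end Fn

theorem s5261_of (hY : YStmt) (h1 : Ess1Stmt) (h2 : Ess2Stmt) (h3 : Ess3Stmt) (hN : NrmStmt)
    (h₁ : L1Stmt) (h₂ : L2Stmt) (hC : CmpStmt) (hM : ModelStmt) (hS' : SylStmt.{v}) {Ω : Type u}
    [Group Ω] {S : Subgroup Ω} [Finite S] (p : ℕ) [Fact p.Prime] (hS : IsPGroup p S)
    (F : FusionSystem S) (hF : F.IsSaturated p) {K : Type v} [Field K] [Fintype K] [CharP K p]
    (n : ℕ) (hn : 1 ≤ n) (hK : Fintype.card K = (p ^ n) ^ 3)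
    (T : Sylow p (Cfsg.Lie.twistedD4 K (p ^ n)))
    (e : S ≃* (T : Subgroup (Cfsg.Lie.twistedD4 K (p ^ n)))) : F.IsRealizable p := by
  obtain ⟨K₀, _, _, _, _, ⟨e'⟩⟩ := hS' n hn hK T
  let ι : S →* P K₀ := (e.trans e').toMonoidHom
  obtain ⟨b, hb⟩ := exists_gIso (homOn_fn ι) (fn_inj (e.trans e').injective) (S' := ⊤)
    ((img_fn ι).trans (MonoidHom.range_eq_top.2 (e.trans e').surjective))
  obtain ⟨E, hE⟩ := hb.exists_isoM F
  exact U5.real_of_isoM hE (Fn.real_P hY h1 h2 h3 hN h₁ h₂ hC hM (hE.saturated hS hF))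

end Cfsg.Agent.D4
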