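import Cfsg.Agent.Lib.D4.Defs

/-!
Field lemmas for the cubic extension `K / k`.
-/

set_option autoImplicit false
set_option linter.unusedSimpArgs false
set_option linter.unnecessarySeqFocus false

namespace Cfsg.Agent.D4

open Polynomial

variable {K : Type} [Field K] [Fintype K] [Tf K]

variable (K) in
/-- The fixed field. -/
def kf : Subfield K where
  carrier := {x | th x = x}
  zero_mem' := map_zero _
  one_mem' := map_one _
  add_mem' := fun {x y} hx hy => by simp_all
  mul_mem' := fun {x y} hx hy => by simp_all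
  neg_mem' := fun {x} hx => by simp_all
  inv_mem' := fun x hx => by simp_all

theorem mem_kf {x : K} : x ∈ kf K ↔ th x = x := Iff.rfl

@[simp] theorem th_kf (x : kf K) : th (x : K) = x := x.2

@[simp] theorem tr_zero : tr (0 : K) = 0 := by simp [tr]
@[simp] theorem sh_zero : sh (0 : K) = 0 := by simp [sh]
@[simp] theorem nm_zero : nm (0 : K) = 0 := by simp [nm]
@[simp] theorem sh_one : sh (1 : K) = 1 := by simp [sh]
@[simp] theorem nm_one : nm (1 : K) = 1 := by simp [nm]
@[simp] theorem cr_zero_left (x : K) : cr 0 x = 0 := by simp [cr]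
@[simp] theorem cr_zero_right (x : K) : cr x 0 = 0 := by simp [cr]
theorem tr_add (x y : K) : tr (x + y) = tr x + tr y := by
  simp only [tr, sh, nm, cr, map_add, map_sub, map_mul, map_neg, map_inv₀, th3] <;> ring
theorem tr_sub (x y : K) : tr (x - y) = tr x - tr y := by
  simp only [tr, sh, nm, cr, map_add, map_sub, map_mul, map_neg, map_inv₀, th3] <;> ring
theorem tr_neg (x : K) : tr (-x) = -tr x := by
  simp only [tr, sh, nm, cr, map_add, map_sub, map_mul, map_neg, map_inv₀, th3] <;> ring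
@[simp] theorem tr_th (x : K) : tr (th x) = tr x := by
  simp only [tr, sh, nm, cr, map_add, map_sub, map_mul, map_neg, map_inv₀, th3] <;> ring
@[simp] theorem nm_th (x : K) : nm (th x) = nm x := by
  simp only [tr, sh, nm, cr, map_add, map_sub, map_mul, map_neg, map_inv₀, th3] <;> ring
theorem tr_smul {c : K} (hc : th c = c) (x : K) : tr (c * x) = c * tr x := by
  simp only [tr, map_mul, hc]; ring
theorem tr_of_fix {c : K} (hc : th c = c) : tr c = 3 * c := by simp only [tr, hc]; ring
theorem nm_of_fix {c : K} (hc : th c = c) : nm c = c ^ 3 := by simp only [nm, hc]; ring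
theorem sh_of_fix {c : K} (hc : th c = c) : sh c = c ^ 2 := by simp only [sh, hc]; ring
theorem sh_mul (x y : K) : sh (x * y) = sh x * sh y := by
  simp only [tr, sh, nm, cr, map_add, map_sub, map_mul, map_neg, map_inv₀, th3] <;> ring
theorem nm_mul (x y : K) : nm (x * y) = nm x * nm y := by
  simp only [tr, sh, nm, cr, map_add, map_sub, map_mul, map_neg, map_inv₀, th3] <;> ring
theorem sh_inv (x : K) : sh x⁻¹ = (sh x)⁻¹ := by
  simp only [tr, sh, nm, cr, map_add, map_sub, map_mul, map_neg, map_inv₀, th3] <;> ring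
theorem nm_inv (x : K) : nm x⁻¹ = (nm x)⁻¹ := by
  simp only [tr, sh, nm, cr, map_add, map_sub, map_mul, map_neg, map_inv₀, th3] <;> ring
theorem sh_neg (x : K) : sh (-x) = sh x := by
  simp only [tr, sh, nm, cr, map_add, map_sub, map_mul, map_neg, map_inv₀, th3] <;> ring
theorem nm_neg (x : K) : nm (-x) = -nm x := by
  simp only [tr, sh, nm, cr, map_add, map_sub, map_mul, map_neg, map_inv₀, th3] <;> ring
theorem sh_add (x y : K) : sh (x + y) = sh x + cr x y + sh y := by
  simp only [tr, sh, nm, cr, map_add, map_sub, map_mul, map_neg, map_inv₀, th3] <;> ring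
theorem nm_add (x y : K) : nm (x + y) = nm x + tr (sh x * y) + tr (x * sh y) + nm y := by
  simp only [tr, sh, nm, cr, map_add, map_sub, map_mul, map_neg, map_inv₀, th3] <;> ring
theorem sh_sh (x : K) : sh (sh x) = nm x * x := by
  simp only [tr, sh, nm, cr, map_add, map_sub, map_mul, map_neg, map_inv₀, th3] <;> ring
theorem nm_sh (x : K) : nm (sh x) = nm x ^ 2 := by
  simp only [tr, sh, nm, cr, map_add, map_sub, map_mul, map_neg, map_inv₀, th3] <;> ring
theorem mul_sh (x : K) : x * sh x = nm x := by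
  simp only [tr, sh, nm, cr, map_add, map_sub, map_mul, map_neg, map_inv₀, th3] <;> ring
theorem cr_comm (x y : K) : cr x y = cr y x := by
  simp only [tr, sh, nm, cr, map_add, map_sub, map_mul, map_neg, map_inv₀, th3] <;> ring
theorem cr_self (x : K) : cr x x = 2 * sh x := by
  simp only [tr, sh, nm, cr, map_add, map_sub, map_mul, map_neg, map_inv₀, th3] <;> ring
theorem cr_add_left (x y z : K) : cr (x + y) z = cr x z + cr y z := by
  simp only [tr, sh, nm, cr, map_add, map_sub, map_mul, map_neg, map_inv₀, th3] <;> ring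
theorem cr_add_right (x y z : K) : cr x (y + z) = cr x y + cr x z := by
  simp only [tr, sh, nm, cr, map_add, map_sub, map_mul, map_neg, map_inv₀, th3] <;> ring
theorem cr_sub_right (x y z : K) : cr x (y - z) = cr x y - cr x z := by
  simp only [tr, sh, nm, cr, map_add, map_sub, map_mul, map_neg, map_inv₀, th3] <;> ring
theorem cr_neg_left (x y : K) : cr (-x) y = -cr x y := by
  simp only [tr, sh, nm, cr, map_add, map_sub, map_mul, map_neg, map_inv₀, th3] <;> ring
theorem cr_neg_right (x y : K) : cr x (-y) = -cr x y := by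
  simp only [tr, sh, nm, cr, map_add, map_sub, map_mul, map_neg, map_inv₀, th3] <;> ring
theorem cr_mul (a x y : K) : cr (a * x) (a * y) = sh a * cr x y := by
  simp only [tr, sh, nm, cr, map_add, map_sub, map_mul, map_neg, map_inv₀, th3] <;> ring
theorem cr_smul_left {c : K} (hc : th c = c) (x y : K) : cr (c * x) y = c * cr x y := by
  simp only [cr, map_mul, hc]; ring
theorem cr_smul_right {c : K} (hc : th c = c) (x y : K) : cr x (c * y) = c * cr x y := by
  simp only [cr, map_mul, hc]; ring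
theorem tr_cr (x y z : K) : tr (x * cr y z) = tr (y * cr x z) := by
  simp only [tr, sh, nm, cr, map_add, map_sub, map_mul, map_neg, map_inv₀, th3] <;> ring
theorem tr_cr_self (x y : K) : tr (x * cr x y) = 2 * tr (sh x * y) := by
  simp only [tr, sh, nm, cr, map_add, map_sub, map_mul, map_neg, map_inv₀, th3] <;> ring
theorem tr_mul_sh (x : K) : tr (x * sh x) = 3 * nm x := by
  simp only [tr, sh, nm, cr, map_add, map_sub, map_mul, map_neg, map_inv₀, th3] <;> ring
theorem map_tr (σ : K ≃+* K) (x : K) : σ (tr x) = tr (σ x) := by simp [tr, map_th]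
theorem map_sh (σ : K ≃+* K) (x : K) : σ (sh x) = sh (σ x) := by simp [sh, map_th]
theorem map_nm (σ : K ≃+* K) (x : K) : σ (nm x) = nm (σ x) := by simp [nm, map_th]
theorem map_cr (σ : K ≃+* K) (x y : K) : σ (cr x y) = cr (σ x) (σ y) := by simp [cr, map_th]

theorem th_ne_zero {x : K} (h : x ≠ 0) : th x ≠ 0 := (_root_.map_ne_zero _).2 h
theorem sh_ne_zero {x : K} (h : x ≠ 0) : sh x ≠ 0 :=
  mul_ne_zero (th_ne_zero h) (th_ne_zero (th_ne_zero h))
theorem nm_ne_zero {x : K} (h : x ≠ 0) : nm x ≠ 0 := by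
  rw [← mul_sh]; exact mul_ne_zero h (sh_ne_zero h)
theorem eq_zero_of_sh {x : K} (h : sh x = 0) : x = 0 := by_contra fun h' => sh_ne_zero h' h
theorem eq_zero_of_nm {x : K} (h : nm x = 0) : x = 0 := by_contra fun h' => nm_ne_zero h' h

theorem fix_of_th2 {x : K} (h : th (th x) = x) : th x = x := by
  have := congrArg th h
  rw [th3] at this
  exact this.symm

theorem fix_of_th_th {x : K} (h : th (th x) = th x) : th x = x := (th (K := K)).injective h

variable (K) in
theorem card_K : Nat.card K = Tf.q K ^ 3 := by rw [Nat.card_eq_fintype_card, Tf.card_eq]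

variable (K) in
theorem two_le_q : 2 ≤ Tf.q K := by
  have h := Fintype.one_lt_card (α := K)
  rw [Tf.card_eq] at h
  by_contra h'
  have : Tf.q K = 0 ∨ Tf.q K = 1 := by omega
  rcases this with e | e <;> simp [e] at h

omit [Tf K] in
theorem card_le_of_poly (f : K[X]) (hf : f ≠ 0) (A : Set K) (h : ∀ x ∈ A, f.eval x = 0) :
    Nat.card A ≤ f.natDegree := by
  classical
  have : A.toFinset.val ⊆ f.roots := fun x hx => (mem_roots hf).2 (h x (by simpa using hx))
  have := card_le_degree_of_subset_roots this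
  rwa [Set.toFinset_card, ← Nat.card_eq_fintype_card] at this

/-- The trace as an additive map. -/
def trH : K →+ K := AddMonoidHom.mk' tr tr_add

theorem card_aux : Nat.card (kf K) = Tf.q K ∧ Nat.card (trH (K := K)).ker = Tf.q K ^ 2 := by
  have h2 := two_le_q K
  have h₁ : Nat.card (kf K) ≤ Tf.q K := by
    have hd : (X ^ Tf.q K - X : K[X]).natDegree = Tf.q K := by
      rw [natDegree_sub_eq_left_of_natDegree_lt] <;> simp; omega
    exact hd ▸ card_le_of_poly _ (fun h => by rw [h] at hd; simp at hd; omega) (kf K : Set K)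
      fun x hx => by simp [← Tf.th_eq, mem_kf.1 hx]
  have h₂ : Nat.card (trH (K := K)).ker ≤ Tf.q K ^ 2 := by
    have hd : (X + X ^ Tf.q K + X ^ Tf.q K ^ 2 : K[X]).natDegree = Tf.q K ^ 2 := by
      rw [natDegree_add_eq_right_of_natDegree_lt] <;> rw [natDegree_X_pow]
      refine lt_of_le_of_lt (natDegree_add_le _ _) (max_lt ?_ ?_) <;> simp <;> nlinarith
    refine hd ▸ card_le_of_poly _ (fun h => by rw [h, natDegree_zero] at hd; nlinarith)
      ((trH (K := K)).ker : Set K) fun x hx => ?_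
    have : tr x = 0 := hx
    simpa [tr, Tf.th_eq, ← pow_mul, sq] using this
  let φ : K →+ K := AddMonoidHom.mk' (fun x => th x - x) fun x y => by simp only [map_add]; ring
  have h₃ : φ.ker = (kf K).toAddSubgroup := by
    ext x
    exact sub_eq_zero
  have h₄ := φ.ker.card_mul_index
  rw [AddSubgroup.index_ker, h₃, card_K K] at h₄
  have h₅ : Nat.card φ.range ≤ Nat.card (trH (K := K)).ker :=
    AddSubgroup.card_le_of_le (by rintro _ ⟨x, rfl⟩; show tr (th x - x) = 0; simp only [tr, sh, nm, map_sub, map_mul, th3]; ring)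
  change Nat.card (kf K) * _ = _ at h₄
  constructor <;> nlinarith

variable (K) in
theorem card_kf : Nat.card (kf K) = Tf.q K := card_aux.1

theorem exists_tr {c : K} (hc : th c = c) : ∃ x, tr x = c := by
  have h := (trH (K := K)).ker.card_mul_index
  rw [AddSubgroup.index_ker, card_aux.2, card_K K] at h
  have h2 := two_le_q K
  have : (trH (K := K)).range = (kf K).toAddSubgroup :=
    AddSubgroup.eq_of_le_of_card_ge (by rintro _ ⟨x, rfl⟩; exact th_tr x) (by
      change Nat.card (kf K) ≤ _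
      rw [card_kf]
      exact (Nat.eq_of_mul_eq_mul_left (by positivity) (h.trans (pow_succ _ 2))).ge)
  exact (this.ge hc : c ∈ (trH (K := K)).range)

theorem exists_tr_mul {e c : K} (he : e ≠ 0) (hc : th c = c) : ∃ x, tr (e * x) = c := by
  obtain ⟨x, hx⟩ := exists_tr hc
  exact ⟨e⁻¹ * x, by rwa [mul_inv_cancel_left₀ he]⟩

theorem eq_zero_of_tr {e : K} (h : ∀ y, tr (e * y) = 0) : e = 0 := by
  by_contra he
  obtain ⟨x, hx⟩ := exists_tr_mul he (map_one th)
  exact one_ne_zero (hx.symm.trans (h x))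

variable (K) in
theorem exists_th_ne : ∃ x : K, th x ≠ x := by
  by_contra h
  push Not at h
  have h₁ : kf K = ⊤ := eq_top_iff.2 fun x _ => h x
  have h₂ := card_kf K
  rw [h₁, Nat.card_congr Subfield.topEquiv.toEquiv, card_K] at h₂
  have h2 := two_le_q K
  nlinarith [Nat.pow_le_pow_left h2 2]

/-- Independence of the three automorphisms. -/
theorem dedekind {a b c : K} (h : ∀ y, a * y + b * th y + c * th (th y) = 0) :
    a = 0 ∧ b = 0 ∧ c = 0 := by
  obtain ⟨x, hx⟩ := exists_th_ne K
  have e₁ := sub_ne_zero.2 hx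
  have e₂ := sub_ne_zero.2 fun e => hx (fix_of_th2 e)
  have e₃ := sub_ne_zero.2 fun e => hx (fix_of_th_th e)
  have h₀ := h 1
  have h₁ := h x
  have h₂ := h (x * x)
  simp only [map_one, map_mul] at h₀ h₂
  have hc : c = 0 := mul_left_cancel₀ (mul_ne_zero e₂ e₃) (by
    linear_combination h₂ - (x + th x) * h₁ + x * th x * h₀)
  have hb : b = 0 := mul_left_cancel₀ e₁ (by linear_combination h₁ - x * h₀ - (th (th x) - x) * hc)
  exact ⟨by linear_combination h₀ - hb - hc, hb, hc⟩

/-- The double orthogonal of `a` is the line `k a`. -/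
theorem exists_of_perp {a b : K} (ha : a ≠ 0) (h : ∀ y, tr (a * y) = 0 → tr (b * y) = 0) :
    ∃ c, th c = c ∧ b = c * a := by
  obtain ⟨y₁, h₁⟩ := exists_tr_mul ha (map_one th)
  refine ⟨tr (b * y₁), th_tr _, sub_eq_zero.1 (eq_zero_of_tr fun y => ?_)⟩
  have := h (y - tr (a * y) * y₁) (by
    rw [mul_sub, tr_sub, mul_left_comm, tr_smul (th_tr _), h₁]; ring)
  rw [mul_sub, tr_sub, mul_left_comm, tr_smul (th_tr _)] at this
  rw [sub_mul, tr_sub, mul_assoc, tr_smul (th_tr _)]
  linear_combination this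

/-- Two independent trace functionals take arbitrary values. -/
theorem exists_tr_two {a b : K} (ha : a ≠ 0) (hb : ∀ c, th c = c → b ≠ c * a) {c d : K}
    (hc : th c = c) (hd : th d = d) : ∃ y, tr (a * y) = c ∧ tr (b * y) = d := by
  obtain ⟨y₀, h₀, h₀'⟩ : ∃ y, tr (a * y) = 0 ∧ tr (b * y) ≠ 0 := by
    by_contra hn
    push Not at hn
    obtain ⟨c, hc, e⟩ := exists_of_perp ha hn
    exact hb c hc e
  obtain ⟨y₁, h₁⟩ := exists_tr_mul ha hc
  have he : th ((d - tr (b * y₁)) / tr (b * y₀)) = (d - tr (b * y₁)) / tr (b * y₀) := by simp [hd]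
  refine ⟨y₁ + (d - tr (b * y₁)) / tr (b * y₀) * y₀, ?_, ?_⟩
  · rw [mul_add, tr_add, mul_left_comm, tr_smul he, h₀, h₁]; ring
  · rw [mul_add, tr_add, mul_left_comm, tr_smul he]; field_simp; ring

/-- The plane `a^⊥` is not contained in a line. -/
theorem exists_perp_not (a b : K) : ∃ y, tr (a * y) = 0 ∧ ∀ c, th c = c → y ≠ c * b := by
  obtain ⟨x, hx⟩ := exists_th_ne K
  have e₁ := sub_ne_zero.2 hx
  obtain ⟨a', ha', h⟩ : ∃ a' ≠ 0, ∀ y, tr (a' * y) = 0 → tr (a * y) = 0 := by
    by_cases h : a = 0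
    exacts [⟨1, one_ne_zero, by simp [h]⟩, ⟨a, h, fun _ => id⟩]
  by_contra hn
  push Not at hn
  obtain ⟨c, hc, e⟩ := hn ((th x - x) / a') (h _ (by rw [mul_div_cancel₀ _ ha']; simp only [tr, sh, nm, map_sub, map_mul, th3]; ring))
  obtain ⟨d, hd, e'⟩ := hn ((th (x * x) - x * x) / a') (h _ (by rw [mul_div_cancel₀ _ ha']; simp only [tr, sh, nm, map_sub, map_mul, th3]; ring))
  rw [div_eq_iff ha'] at e e'
  have hc0 : c ≠ 0 := fun h0 => e₁ (by rw [e, h0]; ring)
  have h₁ : c * (th x + x) = d := mul_right_cancel₀ e₁ (by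
    rw [map_mul] at e'
    linear_combination c * e' - d * e)
  have h₂ := congrArg th h₁
  rw [map_mul, map_add, hc, hd, ← h₁] at h₂
  exact hx (fix_of_th2 (mul_left_cancel₀ hc0 (by linear_combination h₂)))

theorem exists_perp (a : K) : ∃ y ≠ 0, tr (a * y) = 0 := by
  obtain ⟨y, h₁, h₂⟩ := exists_perp_not a 0
  exact ⟨y, by simpa using h₂ 0 (map_zero _), h₁⟩

/-- Two planes meet. -/
theorem exists_perp_two (a b : K) : ∃ y ≠ 0, tr (a * y) = 0 ∧ tr (b * y) = 0 := by
  by_cases h : th a * th (th b) - th (th a) * th b = 0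
  · by_cases ha : a = 0
    · obtain ⟨y, h₁, h₂⟩ := exists_perp b
      exact ⟨y, h₁, by simp [ha], h₂⟩
    obtain ⟨y, h₁, h₂⟩ := exists_perp a
    have hc : th (b / a) = b / a := fix_of_th_th (by
      have := th_ne_zero ha
      have := th_ne_zero this
      simp only [map_div₀]; field_simp; linear_combination h)
    exact ⟨y, h₁, h₂, by rw [show b * y = b / a * (a * y) by field_simp, tr_smul hc, h₂, mul_zero]⟩
  · exact ⟨_, h, by simp only [tr, sh, nm, map_sub, map_mul, th3]; ring, by simp only [tr, sh, nm, map_sub, map_mul, th3]; ring⟩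

theorem of_cr_eq_zero {u v : K} (hu : u ≠ 0) (h : cr u v = 0) :
    ∃ c, th c = c ∧ 2 * c = 0 ∧ v = c * u := by
  have h₁ := th_ne_zero hu
  have h₂ := th_ne_zero h₁
  have e : th (th (v / u)) = -th (v / u) := by
    simp only [map_div₀]; field_simp; rw [cr] at h; linear_combination h
  have e₁ : th (v / u) = -(v / u) := (th (K := K)).injective (by rw [e, map_neg])
  have e₂ : th (v / u) = v / u := fix_of_th2 (by rw [e, e₁, neg_neg])
  exact ⟨v / u, e₂, by linear_combination e₁ - e₂, by field_simp⟩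

theorem eq_zero_of_cr (h2 : (2 : K) ≠ 0) {u v : K} (hu : u ≠ 0) (h : cr u v = 0) : v = 0 := by
  obtain ⟨c, -, hc, rfl⟩ := of_cr_eq_zero hu h
  rw [(mul_eq_zero.1 hc).resolve_left h2, zero_mul]

theorem cr_inv (h2 : (2 : K) ≠ 0) {u : K} (hu : u ≠ 0) (y : K) :
    cr u ((-(u / sh u) * y + th y / th (th u) + th (th y) / th u) / 2) = y := by
  have h₁ := th_ne_zero hu
  have h₂ := th_ne_zero h₁
  simp only [cr, sh, map_div₀, map_add, map_mul, map_neg, map_ofNat, th3]
  field_simp
  ring

theorem exists_cr (h2 : (2 : K) ≠ 0) {u : K} (hu : u ≠ 0) (y : K) : ∃ v, cr u v = y :=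
  ⟨_, cr_inv h2 hu y⟩

theorem exists_cr_of_perp {u y : K} (hu : u ≠ 0) (h : tr (u * y) = 0) : ∃ v, cr u v = y := by
  have h₁ := th_ne_zero hu
  have h₂ := th_ne_zero h₁
  refine ⟨-(u * u * y / nm u), ?_⟩
  simp only [tr, map_mul] at h
  simp only [cr, nm, map_div₀, map_mul, map_neg, th3]
  field_simp
  linear_combination -h

theorem eq_zero_of_cr_all {v : K} (h : ∀ u, cr u v = 0) : v = 0 := by
  have := dedekind (a := 0) (b := th (th v)) (c := th v) fun y => by
    have := h y; rw [cr] at this; linear_combination this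
  exact (map_eq_zero _).1 this.2.2

theorem fix_of_sh {x : K} (h : th (sh x) = sh x) : th x = x := by
  by_cases h0 : x = 0
  · simp [h0]
  have : x = nm x / sh x := by rw [← mul_sh, mul_div_cancel_right₀ _ (sh_ne_zero h0)]
  rw [this, map_div₀, th_nm, h]

theorem fix_of_sq {x : K} (h : th (x * x) = x * x) : th x = x := by
  rw [map_mul] at h
  rcases mul_self_eq_mul_self_iff.1 h with e | e
  · exact e
  · exact fix_of_th2 (by rw [e, map_neg, e, neg_neg])

theorem exists_nm {c : K} (hc : th c = c) : ∃ x, nm x = c := by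
  by_cases h0 : c = 0
  · exact ⟨0, by simp [h0]⟩
  obtain ⟨g, hg⟩ := IsCyclic.exists_monoid_generator (α := Kˣ)
  obtain ⟨i, hi⟩ := hg (Units.mk0 c h0)
  have h2 := two_le_q K
  obtain ⟨r, hr⟩ : ∃ r, Tf.q K = r + 1 := ⟨Tf.q K - 1, by omega⟩
  have ho : orderOf g = r * (Tf.q K ^ 2 + Tf.q K + 1) := by
    rw [orderOf_eq_card_of_forall_mem_powers hg, Nat.card_units, card_K, hr]
    exact Nat.sub_eq_of_eq_add (by ring)
  have h₁ : g ^ (r * i) = 1 := by
    rw [mul_comm, pow_mul]
    simp only at hi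
    rw [hi]
    ext
    rw [Tf.th_eq, hr, pow_succ] at hc
    simpa using mul_right_cancel₀ h0 (hc.trans (one_mul c).symm)
  obtain ⟨j, rfl⟩ := Nat.dvd_of_mul_dvd_mul_left (by omega) (ho ▸ orderOf_dvd_of_pow_eq_one h₁)
  refine ⟨(g ^ j : Kˣ), ?_⟩
  have := congrArg Units.val hi
  simp only [Units.val_pow_eq_pow_val, Units.val_mk0] at this
  rw [← this, nm, Tf.th_eq, Tf.th_eq, Units.val_pow_eq_pow_val]
  ring

variable (K) in
theorem exists_nm_one : ∃ l : K, nm l = 1 ∧ l ≠ 1 := by
  obtain ⟨x, hx⟩ := exists_th_ne K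
  have h0 : x ≠ 0 := fun h => hx (by simp [h])
  exact ⟨th x * x⁻¹, by rw [nm_mul, nm_inv, nm_th, mul_inv_cancel₀ (nm_ne_zero h0)],
    fun h => hx ((mul_inv_eq_one₀ h0).1 h)⟩

/-- Automorphisms over the fixed field permute conjugates. -/
theorem gal_apply {σ : K ≃+* K} (h : ∀ c, th c = c → σ c = c) (x : K) :
    σ x = x ∨ σ x = th x ∨ σ x = th (th x) := by
  have h₀ : x * x * x - tr x * (x * x) + tr (sh x) * x - nm x = 0 := by
    simp only [tr, sh, nm, map_mul, th3]; ring
  have h₁ := congrArg σ h₀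
  simp only [map_sub, map_add, map_mul, map_zero, h _ (th_tr _), h _ (th_nm _)] at h₁
  have : (σ x - x) * ((σ x - th x) * (σ x - th (th x))) = 0 := by
    rw [← h₁]; simp only [tr, sh, nm, map_sub, map_mul, th3]; ring
  simpa only [mul_eq_zero, sub_eq_zero] using this

theorem exists_sq (h2 : (2 : K) = 0) {c : K} (hc : th c = c) : ∃ d, th d = d ∧ d * d = c := by
  have hi : Function.Injective fun x : K => x * x := fun x y h => by
    rcases mul_self_eq_mul_self_iff.1 h with e | e
    · exact e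
    · linear_combination e - y * h2
  obtain ⟨d, hd⟩ := Finite.injective_iff_surjective.1 hi c
  exact ⟨d, fix_of_sq (by rw [show d * d = c from hd, hc]), hd⟩

theorem exists_ku_ne (h : Tf.q K ≠ 2) : ∃ μ : ku K, ((μ : Kˣ) : K) ≠ 1 := by
  by_contra hn
  push Not at hn
  have h₁ : Nat.card (kf K) ≤ Nat.card ({0, 1} : Set K) :=
    Nat.card_le_card_of_injective (fun x => ⟨x, by
      by_cases h0 : (x : K) = 0
      exacts [Or.inl h0, Or.inr (hn ⟨Units.mk0 x h0, x.2⟩)]⟩) fun x y e =>
      Subtype.ext (Subtype.mk.inj e)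
  have h₂ : Nat.card ({0, 1} : Set K) ≤ 2 := by
    rw [Nat.card_coe_set_eq]; exact (Set.ncard_insert_le _ _).trans (by simp)
  have := card_kf K
  have := two_le_q K
  omega

theorem eq_of_q_two (h : Tf.q K = 2) {c : K} (hc : th c = c) : c = 0 ∨ c = 1 := by
  rw [Tf.th_eq, h] at hc
  rcases mul_eq_zero.1 (show c * (c - 1) = 0 by linear_combination hc) with e | e
  exacts [Or.inl e, Or.inr (sub_eq_zero.1 e)]

variable (K) in
theorem exists_q_pow (p : ℕ) [hp : Fact p.Prime] [CharP K p] : ∃ n, 1 ≤ n ∧ Tf.q K = p ^ n := by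
  obtain ⟨n, -, hn⟩ := FiniteField.card K p
  have : Tf.q K ∣ p ^ (n : ℕ) := hn ▸ Tf.card_eq (K := K) ▸ dvd_pow_self _ three_ne_zero
  obtain ⟨m, -, hm⟩ := (Nat.dvd_prime_pow hp.out).1 this
  refine ⟨m, Nat.pos_of_ne_zero ?_, hm⟩
  rintro rfl
  have := two_le_q K
  simp [hm] at this

omit [Fintype K] [Tf K] in
theorem two_eq_zero_iff (p : ℕ) [hp : Fact p.Prime] [CharP K p] : (2 : K) = 0 ↔ p = 2 := by
  rw [show (2 : K) = (2 : ℕ) by simp, CharP.cast_eq_zero_iff K p,
    Nat.prime_dvd_prime_iff_eq hp.out Nat.prime_two]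

end Cfsg.Agent.D4
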