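import Cfsg.Agent.Lib.D4.Tw3

/-! Coordinates on the Sylow subgroup of `³D₄(q)`. -/

set_option autoImplicit false
set_option maxRecDepth 100000

namespace Cfsg.Agent.D4

open Cfsg.Lie Cfsg.Agent.Chev Cfsg.Agent.Tr

variable {K : Type} [Field K] (θ : K →+* K)

/-- Twisted coordinates. -/
noncomputable def ff (t u v w s z : K) : GL (Fin 4 ⊕ Fin 24) K :=
  F t u (θ u) (θ (θ u)) v (θ v) (θ (θ v)) w (θ w) (θ (θ w)) s z

/-- The negative short root elements. -/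
noncomputable def Am (u : K) : GL (Fin 4 ⊕ Fin 24) K := X 5 u * (X 10 (θ u) * X 11 (θ (θ u)))

/-- The twisted group. -/
abbrev G0 (K : Type) [Field K] (q : ℕ) : Subgroup (GL (Fin 4 ⊕ Fin 24) K) := twistedD4 K q

variable {θ} [Finite K]

theorem ff_inj {t u v w s z T U V W S Z : K} (h : ff θ t u v w s z = ff θ T U V W S Z) :
    t = T ∧ u = U ∧ v = V ∧ w = W ∧ s = S ∧ z = Z := by
  obtain ⟨h1, h2, -, -, h3, -, -, h4, -, -, h5, h6⟩ := F_inj h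
  exact ⟨h1, h2, h3, h4, h5, h6⟩

theorem ff_mul (h3 : ∀ x, θ (θ (θ x)) = x) (t u v w s z U V W S Z : K) {T : K} (hT : θ T = T) :
    ff θ t u v w s z * ff θ T U V W S Z = ff θ (t + T) (u + U) (v + V + T * u)
      (w + W + (θ u * θ (θ V) + θ (θ u) * θ V) + T * (θ u * θ (θ u)))
      (s + S + (u * W + θ u * θ W + θ (θ u) * θ (θ W)) +
        (θ u * θ (θ u) * V + θ (θ u) * u * θ V + u * θ u * θ (θ V)) + T * (u * θ u * θ (θ u)))
      (z + Z - T * s + (V * w + θ V * θ w + θ (θ V) * θ (θ w)) +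
        T * (u * w + θ u * θ w + θ (θ u) * θ (θ w)) +
        (u * θ V * θ (θ V) + θ u * θ (θ V) * V + θ (θ u) * V * θ V) +
        T * (θ u * θ (θ u) * V + θ (θ u) * u * θ V + u * θ u * θ (θ V)) +
        T ^ 2 * (u * θ u * θ (θ u))) := by
  simp only [ff, F_mul, map_add, map_mul, h3, hT]
  congr 1 <;> ring

theorem nb_ff (h3 : ∀ x, θ (θ (θ x)) = x) (u v w s z : K) :
    nb * ff θ 0 u v w s z * nb⁻¹ = ff θ 0 v (-u) (w - (θ u * θ (θ v) + θ (θ u) * θ v))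
      (-z + (v * w + θ v * θ w + θ (θ v) * θ (θ w)) -
        (u * θ v * θ (θ v) + θ u * θ (θ v) * v + θ (θ u) * v * θ v))
      (s - (u * w + θ u * θ w + θ (θ u) * θ (θ w)) +
        (θ u * θ (θ u) * v + θ (θ u) * u * θ v + u * θ u * θ (θ v))) := by
  rw [mul_assoc, ff, nb_F, mul_inv_cancel, mul_one]
  simp only [ff, map_add, map_mul, map_sub, map_neg, h3]
  congr 1 <;> ring

theorem na_ff (t v w s z : K) :
    na * ff θ t 0 v w s z * na⁻¹ = ff θ (-s) 0 w (-v) t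
      (z + s * t - (v * w + θ v * θ w + θ (θ v) * θ (θ w))) := by
  simp only [ff, map_zero, map_neg]
  rw [mul_assoc, na_F, mul_inv_cancel, mul_one]
  congr 1; ring

theorem exists_ff {g : GL (Fin 4 ⊕ Fin 24) K} (hg : g ∈ (SD K).U ((SD K).PJ Set.univ))
    (hf : (g, g) ∈ (T0 θ).Γ) :
    ∃ t u v w s z, θ t = t ∧ θ s = s ∧ θ z = z ∧ g = ff θ t u v w s z := by
  obtain ⟨t, u0, u1, u2, v0, v1, v2, w0, w1, w2, s, z, rfl⟩ := exists_F hg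
  obtain ⟨h1, -, rfl, rfl, -, rfl, rfl, -, rfl, rfl, h2, h3⟩ :=
    F_inj ((T0 θ).uniq hf (F_Γ θ ..))
  exact ⟨t, u0, v0, w0, s, z, h1.symm, h2.symm, h3.symm, rfl⟩

theorem ff_B (t : K) : ff θ t 0 0 0 0 0 = X 14 t := by simp [ff, F, xN_zero]

theorem ff_A (u : K) : ff θ 0 u 0 0 0 0 = X 18 u * (X 13 (θ u) * X 12 (θ (θ u))) := by
  simp [ff, F, xN_zero]

variable {q : ℕ} (hθ : ∀ x, θ x = x ^ q)
include hθ

omit [Finite K] in
theorem G0_eq' : G0 K q = Subgroup.closure {g | (∃ t, θ t = t ∧ (g = X 14 t ∨ g = X 9 t)) ∨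
    ∃ u, g = X 18 u * (X 13 (θ u) * X 12 (θ (θ u))) ∨ g = Am θ u} := by
  have hθ2 : ∀ x, θ (θ x) = x ^ q ^ 2 := fun x => by rw [hθ, hθ, ← pow_mul, sq]
  refine (gen_eq okD4 linkD4 (d4Words K q)).trans ?_
  congr 1
  ext g
  constructor
  · rintro ⟨_, ⟨t, ht, r, hr, rfl⟩ | ⟨t, rs, hr, rfl⟩, rfl⟩ <;>
      simp only [List.mem_cons, List.not_mem_nil, or_false] at hr
    · refine Or.inl ⟨t, (hθ t).trans ht, ?_⟩
      rcases hr with rfl | rfl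
      · exact Or.inl (mul_one _)
      · exact Or.inr (mul_one _)
    · refine Or.inr ⟨t, ?_⟩
      rw [← hθ2, ← hθ]
      rcases hr with rfl | rfl
      · exact Or.inl (by simp only [wprod_cons, wprod_nil, mul_one]; rfl)
      · exact Or.inr (by simp only [wprod_cons, wprod_nil, mul_one]; rfl)
  · rintro (⟨t, ht, rfl | rfl⟩ | ⟨u, rfl | rfl⟩)
    · exact ⟨_, Or.inl ⟨t, (hθ t).symm.trans ht, 14, by simp [d4p2], rfl⟩, mul_one _⟩
    · exact ⟨_, Or.inl ⟨t, (hθ t).symm.trans ht, 9, by simp [d4m2], rfl⟩, mul_one _⟩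
    · refine ⟨_, Or.inr ⟨u, (18, 13, 12), by simp [d4p1, d4p3, d4p4], rfl⟩, ?_⟩
      rw [← hθ2, ← hθ]
      simp only [wprod_cons, wprod_nil, mul_one]; rfl
    · refine ⟨_, Or.inr ⟨u, (5, 10, 11), by simp [d4m1, d4m3, d4m4], rfl⟩, ?_⟩
      rw [← hθ2, ← hθ]
      simp only [wprod_cons, wprod_nil, mul_one]; rfl

theorem G0_eq : G0 K q = Subgroup.closure {g | (∃ t, θ t = t ∧ (g = ff θ t 0 0 0 0 0 ∨ g = X 9 t)) ∨
    ∃ u, g = ff θ 0 u 0 0 0 0 ∨ g = Am θ u} := by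
  simp only [ff_A, ff_B]; exact G0_eq' hθ

theorem B_mem {t : K} (ht : θ t = t) : ff θ t 0 0 0 0 0 ∈ G0 K q :=
  G0_eq hθ ▸ Subgroup.subset_closure (Or.inl ⟨t, ht, Or.inl rfl⟩)

theorem Bm_mem {t : K} (ht : θ t = t) : X 9 t ∈ G0 K q :=
  G0_eq hθ ▸ Subgroup.subset_closure (Or.inl ⟨t, ht, Or.inr rfl⟩)

theorem A_mem (u : K) : ff θ 0 u 0 0 0 0 ∈ G0 K q :=
  G0_eq hθ ▸ Subgroup.subset_closure (Or.inr ⟨u, Or.inl rfl⟩)

theorem Am_mem (u : K) : Am θ u ∈ G0 K q :=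
  G0_eq hθ ▸ Subgroup.subset_closure (Or.inr ⟨u, Or.inr rfl⟩)

theorem nb_mem : nb ∈ G0 K q := by
  have h := B_mem hθ (map_one θ)
  rw [ff_B] at h
  exact mul_mem h (mul_mem (Bm_mem hθ (by simp)) h)

theorem na_mem : na ∈ G0 K q := by
  have h := A_mem hθ 1
  have := mul_mem h (mul_mem (Am_mem hθ (-1)) h)
  simpa only [ff_A, Am, na, map_one, map_neg, mul_assoc] using this

theorem ff_mem (h3 : ∀ x, θ (θ (θ x)) = x) {t s z : K} (ht : θ t = t) (hs : θ s = s)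
    (hz : θ z = z) (u v w : K) : ff θ t u v w s z ∈ G0 K q := by
  have cb : ∀ {g}, g ∈ G0 K q → nb * g * nb⁻¹ ∈ G0 K q := fun h =>
    mul_mem (mul_mem (nb_mem hθ) h) (inv_mem (nb_mem hθ))
  have ca : ∀ {g}, g ∈ G0 K q → na * g * na⁻¹ ∈ G0 K q := fun h =>
    mul_mem (mul_mem (na_mem hθ) h) (inv_mem (na_mem hθ))
  have hC : ∀ v, ff θ 0 0 v 0 0 0 ∈ G0 K q := fun v => by
    simpa [nb_ff h3] using cb (A_mem hθ (-v))
  have hD : ff θ 0 0 0 w 0 0 ∈ G0 K q := by simpa [na_ff] using ca (hC (-w))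
  have hE : ∀ {s}, θ s = s → ff θ 0 0 0 0 s 0 ∈ G0 K q := fun hs => by
    simpa [na_ff] using ca (B_mem hθ hs)
  have hZ : ff θ 0 0 0 0 0 z ∈ G0 K q := by simpa [nb_ff h3] using cb (hE hz)
  have := mul_mem (B_mem hθ ht) (mul_mem (hC v) (mul_mem hD (mul_mem (hE hs)
    (mul_mem hZ (A_mem hθ u)))))
  simpa [ff_mul h3 _ _ _ _ _ _ _ _ _ _ _ (map_zero θ)] using this

/-- The Sylow subgroup and its normalizer. -/
theorem sylow_ff (h3 : ∀ x, θ (θ (θ x)) = x) (p : ℕ) [Fact p.Prime] [CharP K p] :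
    ∃ U : Subgroup (GL (Fin 4 ⊕ Fin 24) K), SylowIn p U (G0 K q) ∧
      (∀ g, g ∈ U ↔ ∃ t u v w s z, θ t = t ∧ θ s = s ∧ θ z = z ∧ g = ff θ t u v w s z) ∧
      ∀ g ∈ G0 K q, g ∈ Subgroup.normalizer (U : Set (GL (Fin 4 ⊕ Fin 24) K)) →
        ∃ x ∈ U, ∃ l m : K, l ≠ 0 ∧ m ≠ 0 ∧ θ m = m ∧ ∀ t u v w s z,
          g * ff θ t u v w s z * g⁻¹ = x * ff θ (m * t) (l * u) (l * m * v)
            (θ l * θ (θ l) * m * w) (l * θ l * θ (θ l) * m * s)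
            (l * θ l * θ (θ l) * m ^ 2 * z) * x⁻¹ := by
  obtain ⟨W, h1, h2⟩ := exists_tw3 θ hθ h3
  change W.H = G0 K q at h2
  have hΓ : W.Γ = (T0 θ).Γ := congrArg Tw0.Γ h1
  have hU : ∀ g, g ∈ W.UH ↔
      ∃ t u v w s z, θ t = t ∧ θ s = s ∧ θ z = z ∧ g = ff θ t u v w s z := fun g =>
    ⟨fun hg => exists_ff hg.1 (hΓ ▸ W.fix hg.2), by
      rintro ⟨t, u, v, w, s, z, ht, hs, hz, rfl⟩
      exact ⟨F_mem _ _ _ _ _ _ _ _ _ _ _ _, h2 ▸ ff_mem hθ h3 ht hs hz u v w⟩⟩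
  refine ⟨W.UH, h2 ▸ W.sylow p, hU, fun g hg hgN => ?_⟩
  obtain ⟨u, hu, n, w, hn, hnH, u', hu', rfl⟩ := W.bruhatH (h2 ▸ hg)
  have e : n = u⁻¹ * (u * n * u') * u'⁻¹ := by group
  have hnN : n ∈ Subgroup.normalizer (W.UH : Set (GL (Fin 4 ⊕ Fin 24) K)) :=
    e ▸ mul_mem (mul_mem (inv_mem (Subgroup.le_normalizer hu)) hgN)
      (inv_mem (Subgroup.le_normalizer hu'))
  have hM := Sys.N_le_Mono _ hn
  have hw : w = 1 := RD.W_eq_one (Sys.N_snd hn) fun i _ => by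
    rcases W.dich hM (W.fix hnH) i with h | h
    · exact h i (W.cl_self i)
    · exfalso
      obtain ⟨d, hd, hdH, hd0⟩ := W.crd i
      have h3 : n * d * n⁻¹ ∈ (SD K).U {r | ¬ (SD K).Pos r} :=
        Sys.Mono.conj_U hM (fun r hr => (Sys.Mono.lin hM).not_pos h hr.1 hr.2) hd
      have h4 := conj_mem_of_mem_normalizer hnN
        (show d ∈ W.UH from ⟨Sys.U_mono (Sys.PJ_sub _) hd, hdH⟩)
      have h5 := Sys.eq_one_of_neg (fun r hr => hr) h3 h4.1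
      rw [mul_inv_eq_one, mul_eq_left] at h5
      exact hd0 (h5 ▸ Sys.crd_one i)
  subst hw
  have hc := fun t u0 u1 u2 v0 v1 v2 w0 w1 w2 s z =>
    mono_F hM rfl rfl rfl rfl t u0 u1 u2 v0 v1 v2 w0 w1 w2 s z n⁻¹
  simp only [mul_inv_cancel, mul_one, ← mul_assoc n] at hc
  obtain ⟨t1, u1, v1, w1, s1, z1, ht1, -, -, e1⟩ := (hU _).1 (conj_mem_of_mem_normalizer hnN
    ((hU _).2 ⟨1, 1, 0, 0, 0, 0, map_one θ, map_zero θ, map_zero θ, rfl⟩))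
  rw [ff, hc] at e1
  obtain ⟨a1, a2, a3, a4, -⟩ := F_inj e1
  simp only [map_one, mul_one] at a1 a2 a3 a4
  refine ⟨u * (n * u' * n⁻¹), mul_mem hu (conj_mem_of_mem_normalizer hnN hu'), ce n 18, ce n 14,
    ce_ne hM _, ce_ne hM _, by rw [a1, ht1], fun t u0 v w s z => ?_⟩
  have := hc t u0 (θ u0) (θ (θ u0)) v (θ v) (θ (θ v)) w (θ w) (θ (θ w)) s z
  have e2 : n * ff θ t u0 v w s z * n⁻¹ = ff θ (ce n 14 * t) (ce n 18 * u0) (ce n 18 * ce n 14 * v)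
      (θ (ce n 18) * θ (θ (ce n 18)) * ce n 14 * w)
      (ce n 18 * θ (ce n 18) * θ (θ (ce n 18)) * ce n 14 * s)
      (ce n 18 * θ (ce n 18) * θ (θ (ce n 18)) * ce n 14 ^ 2 * z) := by
    rw [ff, this]
    simp only [ff, a1, a2, a3, a4, map_mul, ht1, h3]
  rw [← e2]
  group

end Cfsg.Agent.D4
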