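import Cfsg.Agent.Lib.D4.Law

/-! Uniqueness and existence of the normal form. -/

set_option autoImplicit false
set_option maxRecDepth 100000

namespace Cfsg.Agent.D4

open Cfsg.Lie Cfsg.Agent.Chev

/-- The roots. -/
def rtD : Fin 24 → Fin 4 → ℤ :=
  ![![-1, -2, -1, -1], ![-1, -1, -1, -1], ![-1, -1, -1, 0], ![-1, -1, 0, -1], ![-1, -1, 0, 0],
    ![-1, 0, 0, 0], ![0, -1, -1, -1], ![0, -1, -1, 0], ![0, -1, 0, -1], ![0, -1, 0, 0], ![0, 0,
    -1, 0], ![0, 0, 0, -1], ![0, 0, 0, 1], ![0, 0, 1, 0], ![0, 1, 0, 0], ![0, 1, 0, 1], ![0, 1,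
    1, 0], ![0, 1, 1, 1], ![1, 0, 0, 0], ![1, 1, 0, 0], ![1, 1, 0, 1], ![1, 1, 1, 0], ![1, 1, 1,
    1], ![1, 2, 1, 1]]

theorem rtD_eq : ∀ (r : Fin 24) (j : Fin 4), (tabD4.rtN r j : ℤ) - 8 = rtD r j := by
  decide +kernel

variable {K : Type} [Field K]

/-- The Chevalley system. -/
noncomputable abbrev SD (K : Type) [Field K] := Tab.mkSys ok4 K

theorem rt_eq (r : Fin 24) : (SD K).rt r = rtD r := funext fun j => rtD_eq r j

theorem fn_rt (g : Fin 4 → ℤ) (r : Fin 24) : fn g ((SD K).rt r) =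
    g 0 * rtD r 0 + g 1 * rtD r 1 + g 2 * rtD r 2 + g 3 * rtD r 3 := by
  rw [rt_eq, fn_apply, Fin.sum_univ_four]

variable [Finite K]

theorem xmem {r : ℕ} (g : Fin 4 → ℤ) (hr : r < 24)
    (h : 0 < g 0 * rtD ⟨r, hr⟩ 0 + g 1 * rtD ⟨r, hr⟩ 1 + g 2 * rtD ⟨r, hr⟩ 2 +
      g 3 * rtD ⟨r, hr⟩ 3) (t : K) {a}
    (ha : a ∈ Un K (SD K).wt (fge (fn g) 0)) : X r t * a ∈ Un K (SD K).wt (fge (fn g) 0) := by
  refine mul_mem ?_ ha
  rw [X, xN_eq ok4 hr]
  refine (SD K).x_mem_Un ?_ t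
  rw [mem_fge, fn_rt]
  exact_mod_cast h

theorem peel {r : ℕ} (g : Fin 4 → ℤ) (hr : r < 24)
    (h : g 0 * rtD ⟨r, hr⟩ 0 + g 1 * rtD ⟨r, hr⟩ 1 + g 2 * rtD ⟨r, hr⟩ 2 +
      g 3 * rtD ⟨r, hr⟩ 3 ≤ 0) {t u : K} {a b}
    (ha : a ∈ Un K (SD K).wt (fge (fn g) 0)) (hb : b ∈ Un K (SD K).wt (fge (fn g) 0))
    (e : X r t * a = X r u * b) : t = u ∧ a = b := by
  have h1 : X r (-u + t) = b * a⁻¹ := by
    rw [eq_mul_inv_iff_mul_eq, ← xadd, e, xadd, neg_add_cancel, X, xN_zero, one_mul]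
  have h2 : -u + t = 0 := by
    have := mul_mem hb (inv_mem ha)
    rw [← h1, X, xN_eq ok4 hr] at this
    refine (SD K).x_eq_zero this ?_
    rw [mem_fge, fn_rt]
    exact_mod_cast not_lt.2 h
  obtain rfl : t = u := by linear_combination h2
  exact ⟨rfl, mul_left_cancel e⟩

theorem F_inj {t u0 u1 u2 v0 v1 v2 w0 w1 w2 s z T U0 U1 U2 V0 V1 V2 W0 W1 W2 S Z : K}
    (h : F t u0 u1 u2 v0 v1 v2 w0 w1 w2 s z = F T U0 U1 U2 V0 V1 V2 W0 W1 W2 S Z) :
    t = T ∧ u0 = U0 ∧ u1 = U1 ∧ u2 = U2 ∧ v0 = V0 ∧ v1 = V1 ∧ v2 = V2 ∧ w0 = W0 ∧ w1 = W1 ∧ w2 =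
      W2 ∧ s = S ∧ z = Z := by
  simp only [F, ← r23_22] at h
  obtain ⟨h14, h⟩ := peel (r := 14) ![1, 0, 1, 1] (by decide) (by decide) 
    (by repeat' (first | exact one_mem _ | refine xmem _ (by decide) (by decide) _ ?_)) 
    (by repeat' (first | exact one_mem _ | refine xmem _ (by decide) (by decide) _ ?_)) h
  obtain ⟨h19, h⟩ := peel (r := 19) ![1, -1, 2, 2] (by decide) (by decide) 
    (by repeat' (first | exact one_mem _ | refine xmem _ (by decide) (by decide) _ ?_)) 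
    (by repeat' (first | exact one_mem _ | refine xmem _ (by decide) (by decide) _ ?_)) h
  obtain ⟨h16, h⟩ := peel (r := 16) ![2, -1, 1, 2] (by decide) (by decide) 
    (by repeat' (first | exact one_mem _ | refine xmem _ (by decide) (by decide) _ ?_)) 
    (by repeat' (first | exact one_mem _ | refine xmem _ (by decide) (by decide) _ ?_)) h
  obtain ⟨h15, h⟩ := peel (r := 15) ![2, -1, 2, 1] (by decide) (by decide) 
    (by repeat' (first | exact one_mem _ | refine xmem _ (by decide) (by decide) _ ?_)) 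
    (by repeat' (first | exact one_mem _ | refine xmem _ (by decide) (by decide) _ ?_)) h
  obtain ⟨h17, h⟩ := peel (r := 17) ![3, -2, 1, 1] (by decide) (by decide) 
    (by repeat' (first | exact one_mem _ | refine xmem _ (by decide) (by decide) _ ?_)) 
    (by repeat' (first | exact one_mem _ | refine xmem _ (by decide) (by decide) _ ?_)) h
  obtain ⟨h20, h⟩ := peel (r := 20) ![1, -2, 3, 1] (by decide) (by decide) 
    (by repeat' (first | exact one_mem _ | refine xmem _ (by decide) (by decide) _ ?_)) 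
    (by repeat' (first | exact one_mem _ | refine xmem _ (by decide) (by decide) _ ?_)) h
  obtain ⟨h21, h⟩ := peel (r := 21) ![1, -2, 1, 3] (by decide) (by decide) 
    (by repeat' (first | exact one_mem _ | refine xmem _ (by decide) (by decide) _ ?_)) 
    (by repeat' (first | exact one_mem _ | refine xmem _ (by decide) (by decide) _ ?_)) h
  obtain ⟨h23, h⟩ := peel (r := 23) ![1, -2, 1, 1] (by decide) (by decide) 
    (by repeat' (first | exact one_mem _ | refine xmem _ (by decide) (by decide) _ ?_)) 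
    (by repeat' (first | exact one_mem _ | refine xmem _ (by decide) (by decide) _ ?_)) h
  obtain ⟨h22, h⟩ := peel (r := 22) ![1, -3, 1, 1] (by decide) (by decide) 
    (by repeat' (first | exact one_mem _ | refine xmem _ (by decide) (by decide) _ ?_)) 
    (by repeat' (first | exact one_mem _ | refine xmem _ (by decide) (by decide) _ ?_)) h
  obtain ⟨h18, h⟩ := peel (r := 18) ![0, 0, 1, 1] (by decide) (by decide) 
    (by repeat' (first | exact one_mem _ | refine xmem _ (by decide) (by decide) _ ?_)) 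
    (by repeat' (first | exact one_mem _ | refine xmem _ (by decide) (by decide) _ ?_)) h
  obtain ⟨h13, h⟩ := peel (r := 13) ![0, 0, 0, 1] (by decide) (by decide) 
    (by repeat' (first | exact one_mem _ | refine xmem _ (by decide) (by decide) _ ?_)) 
    (by repeat' (first | exact one_mem _ | refine xmem _ (by decide) (by decide) _ ?_)) h
  obtain ⟨h12, h⟩ := peel (r := 12) ![0, 0, 0, 0] (by decide) (by decide) 
    (by repeat' (first | exact one_mem _ | refine xmem _ (by decide) (by decide) _ ?_)) 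
    (by repeat' (first | exact one_mem _ | refine xmem _ (by decide) (by decide) _ ?_)) h
  exact ⟨h14, h18, h13, h12, neg_inj.1 h19, h16, h15, h17, neg_inj.1 h20, neg_inj.1 h21, neg_inj.1
    h22, neg_inj.1 h23⟩

end Cfsg.Agent.D4
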