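import Cfsg.Agent.Lib.D4.Vec
import Cfsg.Agent.Lib.D4.Ext

/-!
The action of `Aut_F(Q)` on `V = Q / Z`; row TI of docs/D4_PLAN.md.
-/

set_option autoImplicit false

namespace Cfsg.Agent.D4

open Cfsg.Agent.Fus Cfsg.Agent.Fus2 Subgroup Equiv

variable {K : Type} [Field K] [Fintype K] [Tf K]

/-- The coordinates on `V = Q / Z`. -/
def pr (x : P K) : V K := ⟨x.t, x.v, x.w, x.s, x.ht, x.hs⟩

@[simp] theorem pr_t (x : P K) : (pr x).t = x.t := rfl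
@[simp] theorem pr_v (x : P K) : (pr x).v = x.v := rfl
@[simp] theorem pr_w (x : P K) : (pr x).w = x.w := rfl
@[simp] theorem pr_s (x : P K) : (pr x).s = x.s := rfl

theorem pr_mul {x : P K} (hx : x ∈ Q K) (y : P K) : pr (x * y) = pr x + pr y := by
  have : x.u = 0 := hx
  ext <;> simp [this]

theorem pr_conj (g : P K) {x : P K} (hx : x ∈ Q K) : pr (g * x * g⁻¹) = xx g.u (pr x) :=
  V.ext (conj_t g x) (conj_Q g hx).1 (conj_Q g hx).2.1 (conj_Q g hx).2.2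

theorem pr_dg (l : Kˣ) (m : ku K) (σ : K ≃+* K) (x : P K) :
    pr (dg l m σ x) = dv l m σ (pr x) := rfl

theorem mem_Z_of_pr {x y : P K} (hx : x ∈ Q K) (hy : y ∈ Q K) (h : pr x = pr y) :
    x⁻¹ * y ∈ Z K := by
  have h₁ : x.u = 0 := hx
  have h₂ : y.u = 0 := hy
  have ht : x.t = y.t := congrArg V.t h
  have hv : x.v = y.v := congrArg V.v h
  have hw : x.w = y.w := congrArg V.w h
  have hs : x.s = y.s := congrArg V.s h
  simp [mem_Z, h₁, h₂, ht, hv, hw, hs]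

theorem pr_of_mem_Z {z : P K} (hz : z ∈ Z K) : pr z = 0 :=
  V.ext hz.1 hz.2.2.1 hz.2.2.2.1 hz.2.2.2.2

theorem icj_z {g x : P K} (hg : g ∈ Q K) (hx : x ∈ Q K) :
    (x⁻¹ * (g * x * g⁻¹)).z = bf (pr g) (pr x) := icj_Q_z hg hx

theorem sq_eq_one (h2 : (2 : K) = 0) {x : P K} (hx : x ∈ Q K) : x * x = 1 ↔ qf (pr x) = 0 := by
  have e : ∀ r : K, r + r = 0 := fun r => by linear_combination r * h2
  have hu : x.u = 0 := hx
  rw [P.ext_iff]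
  simp only [P.mul_t, P.mul_u, P.mul_v, P.mul_w, P.mul_s, P.mul_z, hu, e, P.one_t, P.one_u, P.one_v,
    P.one_w, P.one_s, P.one_z, qf, pr, zero_mul, mul_zero, tr_zero, sh_zero, nm_zero, cr_zero_left,
    add_zero, true_and]
  exact ⟨fun h => by linear_combination h + x.t * x.s * h2, fun h => by
    linear_combination h - x.t * x.s * h2⟩

theorem mem_Z2_iff {x : P K} (hx : x ∈ Q K) : x ∈ Z2 K ↔ InL (pr x) :=
  ⟨fun h => ⟨h.1, h.2.2.1, h.2.2.2⟩, fun h => ⟨h.1, hx, h.2.1, h.2.2⟩⟩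

theorem exists_pr (m : V K) : ∃ x ∈ Q K, pr x = m :=
  ⟨⟨m.t, 0, m.v, m.w, m.s, 0, m.ht, m.hs, by simp⟩, rfl, rfl⟩

variable {F : FusionSystem (⊤ : Subgroup (P K))} {f : P K → P K}

theorem Au.conj {E : Subgroup (P K)} (hf : Au F E f) {g y : P K} (hg : g ∈ E) (hy : y ∈ E) :
    f (g * y * g⁻¹) = f g * f y * (f g)⁻¹ := by
  have h := hf.1.homOn
  rw [h.map_mul (mul_mem hg hy) (inv_mem hg), h.map_mul hg hy, h.map_inv hg]

theorem Au.Z_of_Q (hf : Au F (Q K) f) {x : P K} (hx : x ∈ Z K) : f x ∈ Z K :=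
  mem_Z_of_comm fun y hy => by
    obtain ⟨w, hw, rfl⟩ := hf.surj le_rfl hf.2 hy
    exact hf.comm (Z_le_Q hx) hw (comm_Z hx w)

theorem Au.Z2_of_R (hf : Au F (R K) f) {x : P K} (hx : x ∈ Z2 K) : f x ∈ Z2 K :=
  mem_Z2_of_comm fun y hy => by
    obtain ⟨w, hw, rfl⟩ := hf.surj le_rfl hf.2 (Z4_le_R hy)
    exact hf.comm (Z2_le_R hx) hw (comm_Z2 hx hw)

theorem au_top (hf : M F ⊤ f) : Au F ⊤ f := ⟨hf, fun _ _ => trivial⟩

theorem Au.pr_congr (hf : Au F (Q K) f) {x y : P K} (hx : x ∈ Q K) (hy : y ∈ Q K)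
    (h : pr x = pr y) : pr (f x) = pr (f y) := by
  have hz := mem_Z_of_pr hx hy h
  rw [show y = x * (x⁻¹ * y) by group, hf.1.map_mul hx (Z_le_Q hz), pr_mul (hf.2 x hx),
    pr_of_mem_Z (hf.Z_of_Q hz), add_zero]

theorem stabL_iff {α : Perm (V K)} (hf : Au F (Q K) f) (e : ∀ x ∈ Q K, α (pr x) = pr (f x)) :
    StabL α ↔ ∀ x ∈ Z2 K, f x ∈ Z2 K := by
  refine ⟨fun h x hx => ?_, fun h c hc => ?_⟩
  · rw [mem_Z2_iff (hf.2 x (Z2_le_Q hx)), ← e x (Z2_le_Q hx)]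
    exact h _ ((mem_Z2_iff (Z2_le_Q hx)).1 hx)
  · obtain ⟨x, hx, rfl⟩ := exists_pr c
    rw [e x hx, ← mem_Z2_iff (hf.2 x hx)]
    exact h x ((mem_Z2_iff hx).2 hc)

variable {p : ℕ} [Fact p.Prime] [CharP K p]

theorem pack (hF : F.IsSaturated p) : ∃ A T : Subgroup (Perm (V K)), IsSylowIn p T A ∧
    (∀ α, α ∈ T ↔ ∃ u, ∀ x, α x = xx u x) ∧
    (∀ α ∈ A, ∃ f, Au F (Q K) f ∧ ∀ x ∈ Q K, α (pr x) = pr (f x)) ∧
    ∀ f, Au F (Q K) f → ∃ α ∈ A, ∀ x ∈ Q K, α (pr x) = pr (f x) := by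
  choose sec hs₁ hs₂ using exists_pr (K := K)
  let act : F.autGroup (Q K) → V K → V K := fun α v => pr (afn α.1 (sec v))
  have hact : ∀ α, ∀ x ∈ Q K, act α (pr x) = pr (afn α.1 x) := fun α x hx =>
    Au.pr_congr (au_afn α.2) (hs₁ _) hx (hs₂ _)
  let ρ : F.autGroup (Q K) →* Perm (V K) := MonoidHom.toHomPerm
    { toFun := act
      map_one' := funext fun v => by
        obtain ⟨x, hx, rfl⟩ := exists_pr v
        exact (hact 1 x hx).trans (by rw [OneMemClass.coe_one, afn_one]; rfl)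
      map_mul' := fun α β => funext fun v => by
        obtain ⟨x, hx, rfl⟩ := exists_pr v
        show act _ _ = act α (act β (pr x))
        rw [hact _ _ hx, hact β _ hx, hact _ _ (afn_mem _ hx), Subgroup.coe_mul, afn_mul] }
  have hρ : ∀ α, ∀ x ∈ Q K, ρ α (pr x) = pr (afn α.1 x) := hact
  obtain ⟨hle, R, hR⟩ := sat_sylow (pg_top K p) hF (isFullyNormalized_of_normal (F := F)
    (P := Q K) le_top (normalizer_eq_top _).ge)
  refine ⟨_, _, (isSylowIn_top_iff.2 ⟨R, hR⟩).map ρ, fun α => ⟨?_, ?_⟩, ?_, fun f hf => ?_⟩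
  · rintro ⟨t, ht, rfl⟩
    obtain ⟨g, -, e⟩ := Fus2.mem_autInducedBy_iff.1 ht
    refine ⟨g.u, fun u => ?_⟩
    obtain ⟨x, hx, rfl⟩ := exists_pr u
    rw [hρ _ _ hx, ← pr_conj g hx, ← e x hx]; rfl
  · rintro ⟨b, e⟩
    have hg : xr b 0 0 ∈ normalizer (Q K : Set (P K)) := (normalizer_eq_top _).ge trivial
    have hg' := conjAut_mem_autInducedBy (mem_top _) hg
    refine ⟨⟨_, hle hg'⟩, hg', Perm.ext fun u => ?_⟩
    obtain ⟨x, hx, rfl⟩ := exists_pr u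
    rw [hρ _ _ hx, afn_conjAut hg hx, pr_conj _ hx, e]; rfl
  · rintro _ ⟨β, -, rfl⟩
    exact ⟨_, au_afn β.2, hρ β⟩
  · obtain ⟨β, hβ, e'⟩ := hf.1.exists_aut' hf.2
    exact ⟨_, ⟨⟨β, hβ⟩, trivial, rfl⟩, fun x hx => by rw [hρ _ _ hx, e' x hx]⟩

theorem hyp (hE : ExtStmt) (hF : F.IsSaturated p) : ∃ A T : Subgroup (Perm (V K)), Hyp p A T ∧
    (∀ α ∈ A, ∃ f, Au F (Q K) f ∧ ∀ x ∈ Q K, α (pr x) = pr (f x)) ∧
    ∀ f, Au F (Q K) f → ∃ α ∈ A, ∀ x ∈ Q K, α (pr x) = pr (f x) := by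
  obtain ⟨A, T, h₁, h₂, h₃, h₄⟩ := pack hF
  refine ⟨A, T, ⟨h₁, h₂, fun α hα u v => ?_, fun α hα u v u' v' h => ?_, fun h2 α hα u hu => ?_,
    fun α hα hs u => ?_⟩, h₃, h₄⟩ <;> obtain ⟨f, hf, e⟩ := h₃ α hα
  · obtain ⟨x, hx, rfl⟩ := exists_pr u
    obtain ⟨y, hy, rfl⟩ := exists_pr v
    rw [← pr_mul hx, e _ (mul_mem hx hy), e x hx, e y hy, hf.1.map_mul hx hy, pr_mul (hf.2 x hx)]
  · obtain ⟨x, hx, rfl⟩ := exists_pr u
    obtain ⟨y, hy, rfl⟩ := exists_pr v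
    obtain ⟨x', hx', rfl⟩ := exists_pr u'
    obtain ⟨y', hy', rfl⟩ := exists_pr v'
    rw [← icj_z hx hy, ← icj_z hx' hy'] at h
    rw [e x hx, e y hy, e x' hx', e y' hy', ← icj_z (hf.2 x hx) (hf.2 y hy),
      ← icj_z (hf.2 x' hx') (hf.2 y' hy'), ← hf.icj hx hy, ← hf.icj hx' hy',
      eq_of_z (icj_Q_mem hx hy) (icj_Q_mem hx' hy') h]
  · obtain ⟨x, hx, rfl⟩ := exists_pr u
    rw [e x hx, ← sq_eq_one h2 (hf.2 x hx), ← hf.1.map_mul hx hx, (sq_eq_one h2 hx).2 hu,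
      hf.1.map_one]
  · obtain ⟨g, hg, eg⟩ := (hE hF).1 f hf ((stabL_iff hf e).1 hs)
    refine ⟨(g (xr u 0 0)).u, fun v => ?_⟩
    obtain ⟨x, hx, rfl⟩ := exists_pr v
    have hc : xr u 0 0 * x * (xr u 0 0)⁻¹ ∈ Q K := Normal.conj_mem inferInstance _ hx _
    rw [show xx u (pr x) = pr (xr u 0 0 * x * (xr u 0 0)⁻¹) from (pr_conj (xr u 0 0) hx).symm,
      e _ hc, e x hx, ← eg _ hc, (au_top hg).conj trivial trivial, eg x hx, pr_conj _ (hf.2 x hx)]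

theorem ti (hE : ExtStmt) : TiStmt := by
  intro K _ _ _ p _ _ F hF f hf g g' hg e
  obtain ⟨A, T, h, -, h₂⟩ := hyp hE hF
  obtain ⟨α, hα, eα⟩ := h₂ f hf
  refine (stabL_iff hf eα).1 (h.ti hα hg (u' := g'.u) fun v => ?_)
  obtain ⟨x, hx, rfl⟩ := exists_pr v
  rw [← pr_conj g hx, eα _ (Normal.conj_mem inferInstance _ hx _), e x hx, eα x hx,
    pr_conj _ (hf.2 x hx)]

end Cfsg.Agent.D4
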