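import Cfsg.Agent.Lib.D4.Core
import Cfsg.Agent.Lib.D4.Pack

/-!
Row L1 of docs/D4_PLAN.md: the structure of `Aut_F(Q)`.
-/

set_option autoImplicit false

namespace Cfsg.Agent.D4

open Cfsg.Agent.Fus Cfsg.Agent.Fus2 Subgroup Equiv

namespace L1

variable {K : Type} [Field K] [Fintype K] [Tf K]

/-- The norm as a unit of the fixed field. -/
def nu (a : Kˣ) : ku K := ⟨Units.mk0 (nm (a : K)) (nm_ne_zero a.ne_zero), by simp [mem_ku]⟩

theorem tor_surj (l : Kˣ) (m : ku K) :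
    ∃ (a : Kˣ) (μ : ku K), (a * a)⁻¹ * (μ : Kˣ)⁻¹ = l ∧ nu a * μ ^ 2 = m := by
  obtain ⟨⟨a, μ⟩, e⟩ := Finite.surjective_of_injective
    (f := fun x : Kˣ × ku K => ((x.1 * x.1)⁻¹ * (x.2 : Kˣ)⁻¹, nu x.1 * x.2 ^ 2))
    (fun ⟨a, μ⟩ ⟨a', μ'⟩ e => by
      have h₁ : (a : K) ≠ 0 := a.ne_zero
      have h₂ : (a' : K) ≠ 0 := a'.ne_zero
      have h₃ : ((μ : Kˣ) : K) ≠ 0 := (μ : Kˣ).ne_zero
      have h₄ : ((μ' : Kˣ) : K) ≠ 0 := (μ' : Kˣ).ne_zero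
      have e₁ : (a : K) / a' * (a / a') = (μ' : Kˣ) / (μ : Kˣ) := by
        have := congrArg (fun x : Kˣ × ku K => (x.1 : K)) e
        simp only [Units.val_mul, Units.val_inv_eq_inv_val] at this
        field_simp at this ⊢
        linear_combination -this
      have e₂ : nm (a : K) * (μ : Kˣ) ^ 2 = nm (a' : K) * (μ' : Kˣ) ^ 2 := by
        simpa [nu] using congrArg (fun x : Kˣ × ku K => ((x.2 : Kˣ) : K)) e
      have e₃ := nm_of_fix (fix_of_sq (x := (a : K) / a') (by simp [e₁]))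
      have h₅ := nm_ne_zero h₂
      rw [div_eq_mul_inv, nm_mul, nm_inv, ← div_eq_mul_inv, ← div_eq_mul_inv,
        show nm (a : K) / nm (a' : K) = ((μ' : Kˣ) / (μ : Kˣ)) ^ 2 by
          field_simp; linear_combination e₂, ← e₁] at e₃
      have e₄ : (a : K) / a' = 1 := mul_left_cancel₀ (pow_ne_zero 3 (div_ne_zero h₁ h₂)) (by
        linear_combination e₃)
      rw [e₄, one_mul, eq_comm, div_eq_one_iff_eq h₃] at e₁
      exact Prod.ext (Units.ext ((div_eq_one_iff_eq h₂).1 e₄)) (Subtype.ext (Units.ext e₁.symm)))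
    (l, m)
  exact ⟨a, μ, congrArg Prod.fst e, congrArg Prod.snd e⟩

theorem dg_mem_Q (l : Kˣ) (m : ku K) (σ : K ≃+* K) {x : P K} (hx : x ∈ Q K) : dg l m σ x ∈ Q K := by
  have : x.u = 0 := hx
  simp [mem_Q, this]

end L1

open L1 in
theorem l1 (hE : ExtStmt) : L1Stmt := by
  intro K _ _ _ p _ _ F hF hN hM hH
  obtain ⟨A, T, h, h₁, h₂⟩ := hyp hE hF
  have nf : ∀ α ∈ A, StabL α → ∃ u l m σ, M F ⊤ (dg l m σ) ∧ ∀ x, α x = xx u (dv l m σ x) :=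
    fun α hα hs => by
      obtain ⟨f, hf, e⟩ := h₁ α hα
      obtain ⟨g, hg, eg⟩ := (hE hF).1 f hf ((stabL_iff hf e).1 hs)
      obtain ⟨y, l, m, σ, ey⟩ := hN g hg
      refine ⟨y.u, l, m, σ, (hg.comp (M_conj F le_rfl (mem_top y⁻¹)) fun _ _ => trivial).congr
        fun z _ => by simp [ey, mul_assoc], fun v => ?_⟩
      obtain ⟨x, hx, rfl⟩ := exists_pr v
      rw [e x hx, ← eg x hx, ey, pr_conj _ (dg_mem_Q l m σ hx), pr_dg]
  have hh' : ∀ μ : ku K, ∃ α ∈ A, ∀ x, α x = dv (μ : Kˣ)⁻¹ (μ ^ 2) (RingEquiv.refl K) x :=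
    fun μ => by
      obtain ⟨α, hα, e⟩ := h₂ (hh μ) ⟨(hH μ).mono le_top, fun x hx => dg_mem_Q _ _ _ hx⟩
      refine ⟨α, hα, fun v => ?_⟩
      obtain ⟨x, hx, rfl⟩ := exists_pr v
      exact e x hx
  obtain ⟨c₁, c₂⟩ := core h.syl h.memT h.add h.hb (fun hp => h.hq ((two_eq_zero_iff p).2 hp))
    (fun α hα hs => by
      obtain ⟨u, l, m, σ, -, e⟩ := nf α hα hs
      exact ⟨u, l, m, σ, e⟩) hh' (by
      obtain ⟨φ, hφ, x, hx, hx'⟩ := hM
      obtain ⟨α, hα, e⟩ := h₂ φ hφ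
      exact ⟨α, hα, fun hs => hx' ((stabL_iff hφ e).1 hs x hx)⟩)
  obtain ⟨n, hn, en⟩ := c₁ (-1) (by simp)
  simp only [nm_neg, nm_one, sh_neg, sh_one, neg_mul, one_mul, div_one, div_neg, neg_neg] at en
  obtain ⟨w, hw, ew⟩ := h₁ n hn
  have ew' : ∀ x ∈ Q K, (w x).t = -x.s ∧ (w x).v = x.w ∧ (w x).w = -x.v ∧ (w x).s = x.t :=
    fun x hx => by simpa [ew x hx] using en (pr x)
  refine ⟨fun l m => ?_, w, hw, ew', fun f hf => ?_⟩
  · obtain ⟨a, μ, rfl, rfl⟩ := tor_surj l m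
    obtain ⟨n', hn', en'⟩ := c₁ a a.ne_zero
    obtain ⟨δ, hδ, eδ⟩ := hh' μ
    have h₃ : (a : K) ≠ 0 := a.ne_zero
    have h₄ : ((μ : Kˣ) : K) ≠ 0 := (μ : Kˣ).ne_zero
    have h₅ := sh_ne_zero h₃
    have e : ∀ x, (n' * n * δ) x =
        dv ((a * a)⁻¹ * (μ : Kˣ)⁻¹) (nu a * μ ^ 2) (RingEquiv.refl K) x := fun x => by
      ext <;> simp [en, en', eδ, nu, sh_mul, nm_mul, sh_inv, nm_inv, sh_of_fix (th_ku μ),
        nm_of_fix (th_ku μ)] <;> rw [← mul_sh] <;> field_simp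
      exact .inl trivial
    obtain ⟨u, l, m, σ, hg, e'⟩ := nf _ (mul_mem (mul_mem hn' hn) hδ) fun x hx => by
      simp [InL, e, hx.1, hx.2.1, hx.2.2]
    generalize (a * a)⁻¹ * (μ : Kˣ)⁻¹ = l' at e
    generalize nu a * μ ^ 2 = m' at e
    obtain rfl : m = m' := Subtype.ext (Units.ext (by
      simpa using congrArg V.t ((e' (fv 1)).symm.trans (e _))))
    have ev : ∀ v, (l : K) * σ v = l' * v := fun v => mul_left_cancel₀ (m : Kˣ).ne_zero (by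
      have := congrArg V.v ((e' (mv v 0)).symm.trans (e _))
      simp only [xx_v, dv_v, dv_t, mv_v, mv_t, map_zero, mul_zero, zero_mul, add_zero,
        RingEquiv.refl_apply] at this
      linear_combination this)
    obtain rfl : l = l' := Units.ext (by simpa using ev 1)
    obtain rfl : σ = RingEquiv.refl K := RingEquiv.ext fun v => mul_left_cancel₀ l.ne_zero (ev v)
    exact hg
  · obtain ⟨α, hα, e⟩ := h₂ f hf
    refine (c₂ α hα).imp (stabL_iff hf e).1 fun ⟨u, eu⟩ => ⟨xr u 0 0, fun x hx => ?_⟩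
    have hq := hf.2 x (Z2_le_Q hx)
    have hq' : xr u 0 0 * f x * (xr u 0 0)⁻¹ ∈ Q K := Normal.conj_mem inferInstance _ hq _
    have := eu _ ((mem_Z2_iff (Z2_le_Q hx)).1 hx)
    rw [e x (Z2_le_Q hx), show xx u (pr (f x)) = _ from (pr_conj (xr u 0 0) hq).symm] at this
    obtain ⟨e₁, e₂, e₃, -⟩ := ew' _ hq'
    exact ⟨e₁.trans (neg_eq_zero.2 this.2.2), hw.2 _ hq', e₂.trans this.2.1,
      e₃.trans (neg_eq_zero.2 this.1)⟩

end Cfsg.Agent.D4
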