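import Cfsg.Agent.Lib.D4.Pack

/-!
Row L2 of docs/D4_PLAN.md: the structure of `Aut_F(R)`.
-/

set_option autoImplicit false

namespace Cfsg.Agent.D4

open Cfsg.Agent.Fus Cfsg.Agent.Fus2 Subgroup

namespace L2

variable {K : Type} [Field K] [Fintype K] [Tf K]
variable {F : FusionSystem (⊤ : Subgroup (P K))} {f f' : P K → P K}

theorem comp (hf : Au F (R K) f) (hf' : Au F (R K) f') : Au F (R K) fun x => f (f' x) :=
  ⟨hf'.1.comp hf.1 hf'.2, fun x hx => hf.2 _ (hf'.2 x hx)⟩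

theorem cj (F : FusionSystem (⊤ : Subgroup (P K))) (g : P K) :
    Au F (R K) fun x => g * x * g⁻¹ :=
  ⟨M_conj F le_top (mem_top g), fun _ hx => Normal.conj_mem inferInstance _ hx g⟩

theorem exists_inv (hf : Au F (R K) f) :
    ∃ f', Au F (R K) f' ∧ (∀ x ∈ R K, f' (f x) = x) ∧ ∀ x ∈ R K, f (f' x) = x := by
  obtain ⟨g, h₁, -, h₂, h₃, h₄⟩ := hf.1.inv' (hf.1.img_eq_self hf.2)
  exact ⟨g, ⟨h₁, h₃⟩, h₂, h₄⟩

theorem Z3_inv (hf : Au F (R K) f) {x : P K} (hx : x ∈ Z3 K) : f x ∈ Z3 K := by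
  obtain ⟨u, hu, hu'⟩ := exists_perp x.w
  obtain ⟨v, hv⟩ := exists_cr_of_perp hu (by rwa [mul_comm])
  have h₁ := icj_R_mem (xr_mem_R u 0 0) (xr_mem_R 0 v 0)
  have h₂ := icj_R (xr_mem_R u 0 0) (xr_mem_R 0 v 0)
  have h₃ := hf.icj (xr_mem_R u 0 0) (xr_mem_R 0 v 0)
  have h₄ := icj_R_mem (hf.2 _ (xr_mem_R u 0 0)) (hf.2 _ (xr_mem_R 0 v 0))
  rw [← h₃] at h₄
  generalize (xr 0 v 0)⁻¹ * (xr u 0 0 * xr 0 v 0 * (xr u 0 0)⁻¹) = y at h₁ h₂ h₄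
  have h₅ : y⁻¹ * x ∈ Z2 K := by
    simp [mem_Z2, h₁.1, h₁.2.1, h₁.2.2, hx.1, hx.2.1, hx.2.2, h₂, hv]
  rw [show x = y * (y⁻¹ * x) by group, hf.1.map_mul (Z3_le_R h₁) (Z2_le_R h₅)]
  exact mul_mem h₄ (Z2_le_Z3 (hf.Z2_of_R h₅))

theorem congr (hf : Au F (R K) f) {x y : P K} (hx : x ∈ R K) (hy : y ∈ R K) (h₁ : x.u = y.u)
    (h₂ : x.v = y.v) : (f x).u = (f y).u ∧ (f x).v = (f y).v := by
  have ht : x.t = 0 := hx
  have ht' : y.t = 0 := hy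
  have h : x⁻¹ * y ∈ Z3 K := by simp [mem_Z3, ht, ht', h₁, h₂]
  have h' := Z3_inv hf h
  rw [show y = x * (x⁻¹ * y) by group, hf.1.map_mul hx (Z3_le_R h)]
  simp [h'.1, h'.2.1, h'.2.2]

theorem icj_sz (hf : Au F (R K) f) {x y : P K} (hx : x ∈ Z4 K) (hy : y ∈ Z3 K) :
    ∃ z ∈ Z K, f z ∈ Z2 K ∧ (f z).s = tr ((f x).u * (f y).w) ∧
      (f z).z = -tr ((f x).v * (f y).w) := by
  have h := icj_Z3 x hy
  have h₁ := icj_mem_Z2 x hy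
  have h₂ := icj_Z3 (f x) (Z3_inv hf hy)
  have ht : (f x).t = 0 := hf.2 x (Z4_le_R hx)
  refine ⟨_, ⟨h₁.1, h₁.2.1, h₁.2.2.1, h₁.2.2.2, by simp [h.1, hx.2]⟩, hf.Z2_of_R h₁, ?_⟩
  rw [hf.icj (Z4_le_R hx) (Z3_le_R hy), h₂.1, h₂.2]
  simp [ht]

theorem exists_w (hf : Au F (R K) f) (w : K) : ∃ y ∈ Z3 K, (f y).w = w := by
  obtain ⟨y, hy, e⟩ := hf.surj Z3_le_R (fun _ => Z3_inv hf) (xr_mem_Z3 w)
  exact ⟨y, hy, by simp [e]⟩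

variable {p : ℕ} [Fact p.Prime] [CharP K p] (hF : F.IsSaturated p)
include hF

theorem meet (hf : Au F (R K) f) {x₀ : P K} (hx₀ : x₀ ∈ Z4 K) (h0 : (f x₀).u ≠ 0) {z : P K}
    (hz : z ∈ Z K) (hs : (f z).s = 0) : (f z).z = 0 := by
  obtain ⟨γ, hγ, e⟩ := hf.1.exists_aut' hf.2
  have h₂ := hf.Z2_of_R (Z_le_Z2 hz)
  have hn : f z ∈ Z K := ⟨h₂.1, h₂.2.1, h₂.2.2.1, h₂.2.2.2, hs⟩
  obtain ⟨w, hw⟩ := exists_tr_mul h0 (c := 1) (map_one _)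
  obtain ⟨y, hy, rfl⟩ := exists_w hf w
  obtain ⟨z₀, h₃, h₄, h₅, -⟩ := icj_sz hf hx₀ hy
  have nm : ∀ g : P K, g ∈ normalizer (R K : Set (P K)) := fun g =>
    le_normalizer_of_normal (mem_top g)
  have fix : ∀ t ∈ autInducedBy ⊤ (R K), ∀ x : R K, x.1 ∈ Z K → t x = x := fun t ht x hx => by
    obtain ⟨g, hg, rfl⟩ := mem_autInducedBy_iff'.1 ht
    exact Subtype.ext (conj_Z hx g)
  have e' : γ ⟨z, Z_le_R hz⟩ = ⟨f z, Z_le_R hn⟩ := Subtype.ext (by rw [← afn_apply, e z (Z_le_R hz)])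
  have := SP4.orb (isPGroup_of_le (pg_top K p) le_top) (sat_sylow (pg_top K p) hF
    (isFullyNormalized_of_normal (P := R K) le_top fun g _ => nm g)) hγ
    (conjAut_mem_autGroup le_top (mem_top (xt (f z).z (f z).hz)) (nm _)) (z := ⟨z₀, Z_le_R h₃⟩)
    (n := ⟨f z, Z_le_R hn⟩) (fun t ht => fix t ht _ h₃) (fun t ht => by
      rw [← e', MulAut.inv_apply_self, fix t ht _ hz]) (Subtype.ext (conj_Z hn _))
    (Subtype.ext (by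
      rw [coe_conjAut_apply, coe_mul, ← afn_apply, e z₀ (Z_le_R h₃), ← inv_mul_eq_iff_eq_mul]
      refine eq_of_z (icj_mem_Z _ h₄) hn ?_
      rw [(icj_Z3 _ (Z2_le_Z3 h₄)).2, h₅, hw]
      simp))
  rw [show f z = 1 from congrArg Subtype.val this, P.one_z]

/-- The images of `Z₄` are graphs of scalars. -/
theorem graph (hf : Au F (R K) f) {x₀ : P K} (hx₀ : x₀ ∈ Z4 K) (h0 : (f x₀).u ≠ 0) :
    ∃ c, th c = c ∧ ∀ x ∈ Z4 K, (f x).v = c * (f x).u := by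
  obtain ⟨c, hc, e⟩ := exists_of_perp h0 (b := (f x₀).v) fun w hw => by
    obtain ⟨y, hy, rfl⟩ := exists_w hf w
    obtain ⟨z, h₁, -, h₂, h₃⟩ := icj_sz hf hx₀ hy
    rwa [meet hF hf hx₀ h0 h₁ (h₂.trans hw), eq_comm, neg_eq_zero] at h₃
  refine ⟨c, hc, fun x hx => sub_eq_zero.1 (eq_zero_of_tr fun w => ?_)⟩
  obtain ⟨w₀, hw⟩ := exists_tr_mul h0 (th_tr ((f x).u * w))
  obtain ⟨y, hy, rfl⟩ := exists_w hf w
  obtain ⟨y₀, hy₀, rfl⟩ := exists_w hf w₀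
  obtain ⟨z, h₁, h₂, h₃, h₄⟩ := icj_sz hf hx hy
  obtain ⟨z₀, h₅, h₆, h₇, h₈⟩ := icj_sz hf hx₀ hy₀
  have e₁ : f (z * z₀⁻¹) = f z * (f z₀)⁻¹ := by
    rw [hf.1.map_mul (Z_le_R h₁) (inv_mem (Z_le_R h₅)), hf.1.homOn.map_inv (Z_le_R h₅)]
  have := meet hF hf hx₀ h0 (mul_mem h₁ (inv_mem h₅)) (by
    simp [e₁, h₂.2.1, h₆.1, h₆.2.1, h₃, h₇, hw])
  simp only [e₁, P.mul_z, P.inv_z, P.inv_t, P.inv_v, h₂.2.1, h₂.2.2.2, h₆.1, h₆.2.1, h₆.2.2.1, h₄,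
    h₈, e, mul_assoc c, tr_smul hc, hw, zero_mul, mul_zero, tr_zero, sh_zero, nm_zero] at this
  rw [sub_mul, tr_sub, mul_assoc, tr_smul hc]
  linear_combination -this

theorem exists_tau (hM : MvR F) {κ : K} (hκ : th κ = κ) :
    ∃ τ, Au F (R K) τ ∧ ∀ x ∈ R K, (τ x).u = x.u + κ * x.v ∧ (τ x).v = x.v := by
  obtain ⟨γ, hγ, h₁⟩ : ∃ γ, Au F (R K) γ ∧ ∀ x ∈ Z4 K, (γ x).v = 0 := by
    obtain ⟨f, hf, x₀, hx₀, h0⟩ := hM
    obtain ⟨c, hc, ec⟩ := graph hF hf hx₀ fun e => h0 ⟨hf.2 _ hx₀.1, e⟩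
    exact ⟨_, comp (cj F (xt c hc)) hf, fun x hx => by rw [conj_v, ec x hx]; simp⟩
  obtain ⟨γ', hγ', e₁, e₂⟩ := exists_inv hγ
  have h₂ : ∀ y ∈ R K, y.v = 0 → γ' y ∈ Z4 K := fun y hy hv => by
    obtain ⟨v, e⟩ := Finite.surjective_of_injective (f := fun v => (γ (xr 0 v 0)).u)
      (fun v v' e => by
        simpa [e₁ _ (xr_mem_R ..)] using (congr hγ' (hγ.2 _ (xr_mem_R 0 v 0))
          (hγ.2 _ (xr_mem_R 0 v' 0)) e (by rw [h₁ _ (xr_mem_Z4 ..), h₁ _ (xr_mem_Z4 ..)])).2) y.u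
    exact ⟨hγ'.2 y hy, by simpa [e₁ _ (xr_mem_R ..)] using (congr hγ' hy (hγ.2 _ (xr_mem_R 0 v 0))
      e.symm (by rw [hv, h₁ _ (xr_mem_Z4 ..)])).1⟩
  let τ : kf K → P K → P K := fun t x => γ (xt t.1 t.2 * γ' x * (xt t.1 t.2)⁻¹)
  have hτ : ∀ t, Au F (R K) (τ t) := fun t => comp hγ (comp (cj F _) hγ')
  have e₃ : ∀ t, ∀ y ∈ R K, τ t y = y * γ ((γ' y)⁻¹ * (xt t.1 t.2 * γ' y * (xt t.1 t.2)⁻¹)) :=
    fun t y hy => by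
      conv_rhs => rw [← e₂ y hy, ← hγ.1.map_mul (hγ'.2 y hy) (by
        rw [e₂ y hy]; exact Z4_le_R (icj_mem_Z4 ..)), e₂ y hy, mul_inv_cancel_left]
  have hv : ∀ t, ∀ y ∈ R K, (τ t y).v = y.v := fun t y hy => by
    rw [e₃ t y hy, P.mul_v, h₁ _ (icj_mem_Z4 ..),
      show P.t (γ _) = (0 : K) from hγ.2 _ (Z4_le_R (icj_mem_Z4 ..))]
    simp
  have hu : ∀ t, ∀ y ∈ R K, (τ t y).u = y.u + (τ t (xr 0 y.v 0)).u := fun t y hy => by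
    rw [(congr (hτ t) hy (mul_mem (xr_mem_R y.u 0 0) (xr_mem_R 0 y.v 0)) (by simp) (by simp)).1,
      (hτ t).1.map_mul (xr_mem_R ..) (xr_mem_R ..), P.mul_u, e₃ t _ (xr_mem_R y.u 0 0), P.mul_u,
      (Z3_inv hγ (icj_mem_Z3 _ (h₂ _ (xr_mem_R y.u 0 0) rfl))).2.1]
    simp
  have hk : ∀ t, ∃ k : kf K, ∀ v, (τ t (xr 0 v 0)).u = k * v := fun t => by
    by_cases h : ∃ v, (τ t (xr 0 v 0)).u ≠ 0
    · obtain ⟨v₀, h⟩ := h
      obtain ⟨c, hc, e⟩ := graph hF (hτ t) (xr_mem_Z4 ..) h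
      have e' : ∀ v, v = c * (τ t (xr 0 v 0)).u := fun v => by
        rw [← e _ (xr_mem_Z4 ..), hv _ _ (xr_mem_R ..)]; rfl
      have h0 : c ≠ 0 := fun h => by simpa [h] using e' 1
      exact ⟨⟨c⁻¹, by simp [mem_kf, hc]⟩, fun v => (eq_inv_mul_iff_mul_eq₀ h0).2 (e' v).symm⟩
    · exact ⟨0, by simpa using h⟩
  choose k hk using hk
  obtain ⟨t, ht⟩ := Finite.surjective_of_injective (f := k) (fun t t' e => by
    have hy := hγ.2 _ (xr_mem_R 1 0 0)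
    have := (congr hγ' ((hτ t).2 _ hy) ((hτ t').2 _ hy) (by rw [hu _ _ hy, hu _ _ hy, hk, hk, e])
      (by rw [hv _ _ hy, hv _ _ hy])).2
    simp only [τ, e₁ _ (xr_mem_R ..), e₁ _ ((cj F _).2 _ (xr_mem_R ..)), conj_v] at this
    exact Subtype.ext (show (xt t.1 t.2).t = (xt t'.1 t'.2).t by simpa using this)) ⟨κ, hκ⟩
  exact ⟨τ t, hτ t, fun x hx => ⟨by rw [hu t x hx, hk, ht], hv t x hx⟩⟩

theorem exists_n (hM : MvR F) {κ : K} (hκ : th κ = κ) (h0 : κ ≠ 0) :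
    ∃ n, Au F (R K) n ∧ ∀ x ∈ R K, (n x).u = κ * x.v ∧ (n x).v = -x.u / κ := by
  obtain ⟨τ, hτ, e⟩ := exists_tau hF hM hκ
  have hc := cj F (xt κ⁻¹ (by simp [hκ]))
  refine ⟨_, comp hc (comp hτ hc), fun x hx => ?_⟩
  simp only [conj_u, conj_v, e _ (hc.2 x hx), xt_u, xt_t, mul_zero, add_zero]
  constructor <;> field_simp <;> ring

end L2

open L2 in
theorem l2 (hE : ExtStmt) : L2Stmt := by
  intro K _ _ _ p _ _ F hF hN hM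
  obtain ⟨n, hn, en⟩ := exists_n hF hM (map_one _) one_ne_zero
  simp only [one_mul, div_one] at en
  refine ⟨fun μ => ?_, n, hn, en, fun f hf => or_iff_not_imp_left.2 fun h => ?_⟩
  · have h0 : ((μ : Kˣ) : K) ≠ 0 := (μ : Kˣ).ne_zero
    obtain ⟨n', hn', en'⟩ := exists_n hF hM (κ := -((μ : Kˣ) : K)⁻¹) (by simp) (by simp)
    have e : ∀ x ∈ R K, (n' (n x)).u = ((μ : Kˣ) : K)⁻¹ * x.u ∧ (n' (n x)).v = (μ : Kˣ) * x.v :=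
      fun x hx => by
        simp only [en' _ (hn.2 x hx), en x hx]
        constructor <;> field_simp
    obtain ⟨g, hg, eg⟩ := (hE hF).2 _ (comp hn' hn) fun x hx =>
      ⟨hn'.2 _ (hn.2 x hx.1), by rw [(e x hx.1).1, hx.2, mul_zero]⟩
    obtain ⟨x, l, m, σ, ex⟩ := hN g hg
    have k₁ : ∀ u, (l : K) * σ u = ((μ : Kˣ) : K)⁻¹ * u := fun u => by
      have := (e _ (xr_mem_R u 0 0)).1
      rwa [← eg _ (xr_mem_R ..), ex, conj_u] at this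
    have k₂ : (l : K) * (m : Kˣ) = (μ : Kˣ) := by
      have := (e _ (xr_mem_R 0 1 0)).2
      rw [← eg _ (xr_mem_R ..), ex, conj_v] at this
      simpa using this
    obtain rfl : l = (μ : Kˣ)⁻¹ := Units.ext (by simpa using k₁ 1)
    obtain rfl : σ = RingEquiv.refl K := RingEquiv.ext fun u =>
      mul_left_cancel₀ (inv_ne_zero h0) (by simpa using k₁ u)
    obtain rfl : m = μ ^ 2 := Subtype.ext (Units.ext (by
      rw [Units.val_inv_eq_inv_val, inv_mul_eq_iff_eq_mul₀ h0] at k₂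
      simp [k₂, sq]))
    exact (hg.comp (M_conj F le_rfl (mem_top x⁻¹)) fun _ _ => mem_top _).congr fun y _ => by
      rw [ex]; simp [hh, mul_assoc]
  · push Not at h
    obtain ⟨x₀, hx₀, h0⟩ := h
    obtain ⟨c, hc, ec⟩ := graph hF hf hx₀ fun e => h0 ⟨hf.2 _ hx₀.1, e⟩
    refine ⟨xt c hc, fun x hx => ?_⟩
    have hm := (cj F (xt c hc)).2 _ (hf.2 x hx.1)
    exact ⟨hn.2 _ hm, by rw [(en _ hm).1, conj_v, ec x hx]; simp⟩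

end Cfsg.Agent.D4
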