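import Cfsg.Agent.Lib.D4.Rel

/-! Normal form of the positive unipotent subgroup of type D4 and its product law. -/

set_option autoImplicit false
set_option maxRecDepth 100000

namespace Cfsg.Agent.D4

open Cfsg.Lie Cfsg.Agent.Chev

variable {K : Type} [Field K]

/-- The normal form. -/
noncomputable def F (t u0 u1 u2 v0 v1 v2 w0 w1 w2 s z : K) :
    GL (Fin 4 ⊕ Fin 24) K :=
  X 14 t * (X 19 (-v0) * (X 16 v1 * (X 15 v2 * (X 17 w0 * (X 20 (-w1) * (X 21 (-w2) * (X 22 (-s) *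
    (X 23 (-z) * (X 18 u0 * (X 13 u1 * (X 12 u2 * (1))))))))))))

variable [Finite K]

theorem F_mul (t u0 u1 u2 v0 v1 v2 w0 w1 w2 s z T U0 U1 U2 V0 V1 V2 W0 W1 W2 S Z : K) :
    F t u0 u1 u2 v0 v1 v2 w0 w1 w2 s z * F T U0 U1 U2 V0 V1 V2 W0 W1 W2 S Z =
      F (T + t) (U0 + u0) (U1 + u1) (U2 + u2) (V0 + v0 + T * u0) (V1 + v1 + T * u1) (V2 + v2 + T *
        u2) (W0 + w0 + V1 * u2 + V2 * u1 + T * u1 * u2) (W1 + w1 + V0 * u2 + V2 * u0 + T *
        u0 * u2) (W2 + w2 + V0 * u1 + V1 * u0 + T * u0 * u1) (S + s + W0 * u0 + W1 * u1 + W2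
        * u2 + V0 * u1 * u2 + V1 * u0 * u2 + V2 * u0 * u1 + T * u0 * u1 * u2) (Z + z - T * s
        + V0 * w0 + V1 * w1 + V2 * w2 + T * u0 * w0 + T * u1 * w1 + T * u2 * w2 + V0 * V1 *
        u2 + V0 * V2 * u1 + V1 * V2 * u0 + T * V0 * u1 * u2 + T * V1 * u0 * u2 + T * V2 * u0
        * u1 + T ^ 2 * u0 * u1 * u2) := by
  simp only [F, mul_assoc, one_mul, xadd, r19_14, r16_14, r16_19, r15_14, r15_19, r15_16,
    r17_14, r17_19, r17_16, r17_15, r20_14, r20_19, r20_16, r20_15, r20_17, r21_14, r21_19,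
    r21_16, r21_15, r21_17, r21_20, r22_14, r22_19, r22_16, r22_15, r22_17, r22_20, r22_21,
    r23_14, r23_19, r23_16, r23_15, r23_17, r23_20, r23_21, r23_22, r18_14, r18_19, r18_16,
    r18_15, r18_17, r18_20, r18_21, r18_22, r18_23, r13_14, r13_19, r13_16, r13_15, r13_17,
    r13_20, r13_21, r13_22, r13_23, r13_18, r12_14, r12_19, r12_16, r12_15, r12_17, r12_20,
    r12_21, r12_22, r12_23, r12_18, r12_13]
  iterate 12 refine xcongr (by ring) ?_
  rfl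

end Cfsg.Agent.D4
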