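import Cfsg.Agent.Lib.D4.Grp
import Cfsg.Agent.Lib.D4.Defs

/-! The model `³D₄(q) ⋊ (field automorphisms)`. -/

set_option autoImplicit false
set_option maxRecDepth 100000
set_option linter.unusedSectionVars false

namespace Cfsg.Agent.D4

open Subgroup Matrix Cfsg.Lie Cfsg.Agent.Chev Cfsg.Agent.Tr

namespace Md

theorem sylow_of_norm {G : Type*} [Group G] [Finite G] {p : ℕ} [Fact p.Prime] {Q : Subgroup G}
    (hQ : IsPGroup p Q) (h : ∀ g ∈ normalizer (Q : Set G), ∀ k, g ^ p ^ k = 1 → g ∈ Q) :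
    ∃ T : Sylow p G, (T : Subgroup G) = Q := by
  obtain ⟨T, hT⟩ := hQ.exists_le_sylow
  refine ⟨T, le_antisymm ?_ hT⟩
  by_contra hc
  have := T.isPGroup'.isNilpotent
  obtain ⟨g, hg, hg'⟩ := SetLike.exists_of_lt (Group.normalizerCondition_of_isNilpotent
    (Q.subgroupOf T) (lt_top_iff_ne_top.2 fun e => hc (subgroupOf_eq_top.1 e)))
  rw [← subgroupOf_normalizer_eq hT] at hg
  obtain ⟨k, hk⟩ := T.isPGroup' g
  exact hg' (h g hg k (by simpa using congrArg Subtype.val hk))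

variable {K : Type} [Field K] [Fintype K] [Tf K]

variable (K) in
/-- The twisting map as a ring homomorphism. -/
def tθ : K →+* K := (th : K ≃+* K).toRingHom

theorem tθ_eq (x : K) : tθ K x = x ^ Tf.q K := Tf.th_eq x

theorem tθ3 (x : K) : tθ K (tθ K (tθ K x)) = x := th3 x

@[simp] theorem tθ_apply (x : K) : tθ K x = th x := rfl

/-- The Sylow subgroup as a matrix group. -/
noncomputable def gl : P K →* GL (Fin 4 ⊕ Fin 24) K :=
  MonoidHom.mk' (fun x => ff (tθ K) x.t x.u x.v x.w x.s x.z) fun x y => by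
    rw [ff_mul tθ3 _ _ _ _ _ _ _ _ _ _ _ y.ht]
    simp only [P.mul_t, P.mul_u, P.mul_v, P.mul_w, P.mul_s, P.mul_z, tr, sh, nm, cr, map_mul, th3,
      tθ_apply]
    congr 1 <;> ring

theorem gl_apply (x : P K) : gl x = ff (tθ K) x.t x.u x.v x.w x.s x.z := rfl

theorem gl_inj : Function.Injective (gl : P K → _) := fun _ _ h => by
  obtain ⟨h1, h2, h3, h4, h5, h6⟩ := ff_inj h
  exact P.ext h1 h2 h3 h4 h5 h6

theorem gl_mem (x : P K) : gl x ∈ G0 K (Tf.q K) := ff_mem tθ_eq tθ3 x.ht x.hs x.hz _ _ _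

theorem sylow_gl (p : ℕ) [Fact p.Prime] [CharP K p] : SylowIn p gl.range (G0 K (Tf.q K)) ∧
    ∀ g ∈ G0 K (Tf.q K), (∀ y : P K, ∃ y', g * gl y * g⁻¹ = gl y') →
      ∃ x l m, ∀ y : P K, g * gl y * g⁻¹ = gl (x * dg l m (RingEquiv.refl K) y * x⁻¹) := by
  obtain ⟨U, h1, h2, h3⟩ := sylow_ff tθ_eq tθ3 p (K := K)
  obtain rfl : gl.range = U := Subgroup.ext fun g => by
    rw [h2]
    exact ⟨fun ⟨x, hx⟩ => ⟨_, _, _, _, _, _, x.ht, x.hs, x.hz, hx.symm⟩,
      fun ⟨t, u, v, w, s, z, ht, hs, hz, e⟩ => ⟨⟨t, u, v, w, s, z, ht, hs, hz⟩, e.symm⟩⟩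
  refine ⟨h1, fun g hg hn => ?_⟩
  obtain ⟨_, ⟨x, rfl⟩, l, m, hl, hm, hm', e⟩ := h3 g hg (mem_normalizer_fintype (by
    rintro _ ⟨y, rfl⟩
    obtain ⟨y', h⟩ := hn y
    exact ⟨y', h.symm⟩))
  refine ⟨x, Units.mk0 l hl, ⟨Units.mk0 m hm, hm'⟩, fun y => ?_⟩
  rw [map_mul, map_mul, map_inv, gl_apply y, e]
  rfl

/-- The twisted torus. -/
noncomputable def Dl (l : Kˣ) (m : ku K) : GL (Fin 4 ⊕ Fin 24) K :=
  Dg m l (Units.map (tθ K : K →* K) l) (Units.map (tθ K : K →* K) (Units.map (tθ K : K →* K) l))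

theorem Dl_val (l : Kˣ) (m : ku K) : (Dl l m).1 = diagonal fun a => (l : K) ^ (SD K).wt a 0 *
    ((m : Kˣ) : K) ^ (SD K).wt a 1 * th (l : K) ^ (SD K).wt a 2 *
      th (th (l : K)) ^ (SD K).wt a 3 := by
  simp only [Dl, Dg, Sys.tor, Units.val_mul, diagonal_mul_diagonal]
  rfl

/-- Field automorphisms act on `ku`. -/
def kmap (σ : K ≃+* K) (m : ku K) : ku K :=
  ⟨Units.map (σ : K →* K) m, by simp [mem_ku, ← map_th]⟩

theorem Dl_mul (l l' : Kˣ) (m m' : ku K) (σ : K ≃+* K) :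
    Dl (l * Units.map (σ : K →* K) l') (m * kmap σ m') = Dl l m * gmap σ (Dl l' m') := by
  ext1
  have h : (gmap (σ : K →+* K) (Dl l' m')).1 = (Dl l' m').1.map σ := rfl
  rw [Units.val_mul, h, Dl_val, Dl_val, Dl_val, diagonal_map (map_zero σ), diagonal_mul_diagonal]
  congr 1
  ext a
  simp only [kmap, Units.val_mul, Units.coe_map, MonoidHom.coe_coe, map_mul, mul_zpow, map_zpow₀,
    Subgroup.coe_mul, map_th]
  ring

theorem Dl_one : Dl (1 : Kˣ) (1 : ku K) = 1 := by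
  ext1
  rw [Dl_val]
  simp

theorem Dl_pow (l : Kˣ) (m : ku K) : Dl l m ^ (Fintype.card K - 1) = 1 := by
  ext1
  rw [Units.val_pow_eq_pow_val, Dl_val, diagonal_pow, Units.val_one, ← diagonal_one]
  congr 1
  ext a
  refine FiniteField.pow_card_sub_one_eq_one _ ?_
  simp [zpow_ne_zero]

theorem Dl_gl (l : Kˣ) (m : ku K) (σ : K ≃+* K) (y : P K) :
    Dl l m * gmap σ (gl y) * (Dl l m)⁻¹ = gl (dg l m σ y) := by
  rw [mul_assoc, gl_apply, ff, gmap_F, Dl, mono_F (K := K) (Dg_mono ..) (m := (m : Kˣ)) (l0 := l)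
    (l1 := th (l : K)) (l2 := th (th (l : K))) (by rw [ce_Dg _ _ _ _ (by decide)]; simp [rtD])
    (by rw [ce_Dg _ _ _ _ (by decide)]; simp [rtD]) (by rw [ce_Dg _ _ _ _ (by decide)]; simp [rtD])
    (by rw [ce_Dg _ _ _ _ (by decide)]; simp [rtD]), mul_inv_cancel, mul_one, gl_apply, ff]
  simp only [dg_t, dg_u, dg_v, dg_w, dg_s, dg_z, tθ_apply, sh, nm, map_mul, th3, th_ku,
    RingHom.coe_coe, map_th]

theorem Dl_mem (l : Kˣ) (m : ku K) (σ : K ≃+* K) {g : GL (Fin 4 ⊕ Fin 24) K}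
    (hg : g ∈ G0 K (Tf.q K)) : Dl l m * gmap σ g * (Dl l m)⁻¹ ∈ G0 K (Tf.q K) := by
  have hM : (Dl l m, 1) ∈ (SD K).Mono := Dg_mono ..
  have : G0 K (Tf.q K) ≤ (G0 K (Tf.q K)).comap
      ((MulAut.conj (Dl l m)).toMonoidHom.comp (gmap σ)) := by
    conv_lhs => rw [G0_eq tθ_eq]
    refine (closure_le _).2 ?_
    rintro _ (⟨t, ht, rfl | rfl⟩ | ⟨u, rfl | rfl⟩) <;> change Dl l m * gmap σ _ * _ ∈ G0 K _
    · exact (Dl_gl l m σ ⟨t, 0, 0, 0, 0, 0, ht, by simp, by simp⟩).symm ▸ gl_mem _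
    · rw [mul_assoc, gmap_X, mono_X hM, mul_inv_cancel, mul_one, Dl, ce_Dg _ _ _ _ (by decide)]
      exact Bm_mem tθ_eq (by simp [rtD, ← map_th, show th t = t from ht])
    · exact (Dl_gl l m σ ⟨0, u, 0, 0, 0, 0, by simp, by simp, by simp⟩).symm ▸ gl_mem _
    · simp only [Am, map_mul, gmap_X, mul_assoc, mono_X hM, mul_inv_cancel, mul_one]
      convert Am_mem tθ_eq ((l : K)⁻¹ * σ u) using 1
      simp only [Am, Dl, ce_Dg _ _ _ _ (show 5 < 24 by decide),
        ce_Dg _ _ _ _ (show 10 < 24 by decide), ce_Dg _ _ _ _ (show 11 < 24 by decide)]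
      simp [rtD, map_th]
  exact this hg

theorem dg_mul (l l' : Kˣ) (m m' : ku K) (σ σ' : RingAut K) : dg l m σ * dg l' m' σ' =
    dg (l * Units.map (σ : K →* K) l') (m * kmap σ m') (σ * σ') := by
  ext x <;> simp [kmap, sh, nm, map_th] <;> ring

theorem dg_one : dg 1 1 (1 : RingAut K) = 1 := by ext x <;> simp [sh, nm]

theorem dg_pow (l : Kˣ) (m : ku K) (σ : RingAut K) (n : ℕ) :
    ∃ l' m', dg l m σ ^ n = dg l' m' (σ ^ n) := by
  induction n with
  | zero => exact ⟨1, 1, by rw [pow_zero, pow_zero, dg_one]⟩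
  | succ n ih =>
    obtain ⟨l', m', e⟩ := ih
    exact ⟨_, _, by rw [pow_succ, pow_succ, e, dg_mul]⟩

theorem eq_one_of_dg {l : Kˣ} {m : ku K} {σ : RingAut K} (h : dg l m σ = 1) : σ = 1 := by
  have h1 : ∀ a, (l : K) * σ a = a := fun a => by
    have := congrArg P.u (DFunLike.congr_fun h ⟨0, a, 0, 0, 0, 0, by simp, by simp, by simp⟩)
    exact this
  ext a
  simpa [show (l : K) = 1 by simpa using h1 1] using h1 a

/-- Field automorphisms act on invertible matrices. -/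
def fa : RingAut K →* MulAut (GL (Fin 4 ⊕ Fin 24) K) where
  toFun σ := Units.mapEquiv (RingEquiv.mapMatrix σ).toMulEquiv
  map_one' := by ext; rfl
  map_mul' _ _ := by ext; rfl

theorem fa_apply (σ : RingAut K) (A : GL (Fin 4 ⊕ Fin 24) K) : fa σ A = gmap σ A := rfl

variable (K) in
/-- The semilinear group. -/
abbrev SG : Type := GL (Fin 4 ⊕ Fin 24) K ⋊[fa] RingAut K

instance : Finite (RingAut K) := Finite.of_injective (fun σ : K ≃+* K => (σ : K → K))
  DFunLike.coe_injective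

instance : Finite (SG K) :=
  Finite.of_injective (fun g => (g.left, g.right)) fun _ _ h =>
    SemidirectProduct.ext (congrArg Prod.fst h) (congrArg Prod.snd h)

/-- The model. -/
noncomputable def GG (H : Subgroup (MulAut (P K))) : Subgroup (SG K) := subOfFin
  { carrier := {g | ∃ l m, dg l m g.right ∈ H ∧ g.left * (Dl l m)⁻¹ ∈ G0 K (Tf.q K)}
    one_mem' := ⟨1, 1, by simp [dg_one, H.one_mem], by simp [Dl_one]⟩
    mul_mem' := by
      rintro g g' ⟨l, m, h1, h2⟩ ⟨l', m', h1', h2'⟩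
      refine ⟨_, _, dg_mul l l' m m' g.right g'.right ▸ H.mul_mem h1 h1', ?_⟩
      convert mul_mem h2 (Dl_mem l m g.right h2') using 1
      rw [Dl_mul, SemidirectProduct.mul_left, fa_apply, map_mul, map_inv]
      group }

theorem inl_mem (H : Subgroup (MulAut (P K))) {A : GL (Fin 4 ⊕ Fin 24) K}
    (h : A ∈ G0 K (Tf.q K)) : SemidirectProduct.inl A ∈ GG H :=
  ⟨1, 1, by simp [dg_one, H.one_mem], by simpa [Dl_one] using h⟩

/-- The embedding of the Sylow subgroup. -/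
noncomputable def emb (H : Subgroup (MulAut (P K))) : P K →* GG H :=
  (SemidirectProduct.inl.comp gl).codRestrict _ fun x => inl_mem H (gl_mem x)

theorem conj_iff {H : Subgroup (MulAut (P K))} (g : GG H) (y y' : P K) :
    g * emb H y * g⁻¹ = emb H y' ↔ g.1.left * gmap g.1.right (gl y) * g.1.left⁻¹ = gl y' := by
  rw [mul_inv_eq_iff_eq_mul, mul_inv_eq_iff_eq_mul, Subtype.ext_iff, SemidirectProduct.ext_iff]
  simp [emb, fa_apply]

theorem conj_dec {l : Kˣ} {m : ku K} {σ : RingAut K} (g : GL (Fin 4 ⊕ Fin 24) K) (y : P K) :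
    g * gmap σ (gl y) * g⁻¹ = g * (Dl l m)⁻¹ * gl (dg l m σ y) * (g * (Dl l m)⁻¹)⁻¹ := by
  rw [← Dl_gl]; group

theorem pow_mem_G0 {l : Kˣ} {m : ku K} {g : GL (Fin 4 ⊕ Fin 24) K}
    (h : g * (Dl l m)⁻¹ ∈ G0 K (Tf.q K)) (n : ℕ) : g ^ n * (Dl l m ^ n)⁻¹ ∈ G0 K (Tf.q K) := by
  induction n with
  | zero => simp
  | succ n ih =>
    convert mul_mem h (Dl_mem l m (1 : RingAut K) ih) using 1
    rw [← fa_apply, map_one, MulAut.one_apply]
    group

end Md

open Md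

theorem model : ModelStmt := by
  intro K _ _ _ p _ _ H hH hp hd
  obtain ⟨hS, hN⟩ := sylow_gl (K := K) p
  have hi : Function.Injective (emb H) := fun x y h =>
    gl_inj (SemidirectProduct.inl_injective (congrArg Subtype.val h))
  have hP : IsPGroup p (P K) := hS.isPGroup.of_equiv (MonoidHom.ofInjective gl_inj).symm
  refine ⟨GG H, inferInstance, inferInstance, emb H, hi, ?_, fun g hg => ?_, fun h hh => ?_, ?_, ?_⟩
  · refine sylow_of_norm (hP.of_surjective _ (emb H).rangeRestrict_surjective) fun g hg k hk => ?_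
    obtain ⟨l, m, h1, e⟩ := g.2
    have hk' : g.1 ^ p ^ k = 1 := by simpa using congrArg Subtype.val hk
    have h2 : g.1.right = 1 := by
      obtain ⟨l', m', e'⟩ := dg_pow l m g.1.right (Nat.card H)
      have a1 : dg l m g.1.right ^ Nat.card H = 1 :=
        congrArg Subtype.val (pow_card_eq_one' (x := (⟨_, h1⟩ : H)))
      have a2 : g.1.right ^ p ^ k = 1 := by
        have := congrArg SemidirectProduct.rightHom hk'
        rwa [map_pow] at this
      rw [← orderOf_eq_one_iff]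
      exact Nat.eq_one_of_dvd_coprimes (((Nat.Prime.coprime_iff_not_dvd Fact.out).2 hp).pow_left k)
        (orderOf_dvd_of_pow_eq_one a2) (orderOf_dvd_of_pow_eq_one (eq_one_of_dg (e' ▸ a1)))
    have h3 : g.1 = SemidirectProduct.inl g.1.left := by ext <;> simp [h2]
    rw [h3, ← map_pow, map_eq_one_iff _ SemidirectProduct.inl_injective] at hk'
    have h4 := pow_mem_G0 e (Fintype.card K - 1)
    rw [Dl_pow, inv_one, mul_one] at h4
    have h5 : g.1.left ∈ G0 K (Tf.q K) := by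
      refine zpowers_le.2 h4 (mem_zpowers_pow_iff.2 ?_)
      refine Nat.Coprime.coprime_dvd_right (orderOf_dvd_of_pow_eq_one hk') (Nat.Coprime.pow_right _ ?_)
      obtain ⟨n, -, hn⟩ := FiniteField.card K p
      rw [hn]
      exact (Nat.coprime_pow_right_iff n.2 ..).1 ((Nat.coprime_self_sub_left
        (Nat.one_le_pow _ _ (Nat.Prime.pos Fact.out))).2 (Nat.coprime_one_left _))
    obtain ⟨x, hx⟩ := hS.le_of_le_normalizer' (isPGroup_zpowers hk') (zpowers_le.2 h5)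
      (zpowers_le.2 (mem_normalizer_fintype (by
        rintro _ ⟨y, rfl⟩
        obtain ⟨y', h⟩ := (mem_normalizer_iff.1 hg _).1 ⟨y, rfl⟩
        have := (conj_iff g y y').1 h.symm
        rw [h2, ← fa_apply, map_one, MulAut.one_apply] at this
        exact ⟨y', this.symm⟩))) (mem_zpowers _)
    exact ⟨x, Subtype.ext (h3.trans (congrArg _ hx.symm)).symm⟩
  · obtain ⟨l, m, h1, e⟩ := g.2
    obtain ⟨x, l', m', e'⟩ := hN _ e fun y => by
      obtain ⟨y', h⟩ := hg ((dg l m g.1.right)⁻¹ y)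
      rw [conj_iff, conj_dec (l := l) (m := m), MulAut.apply_inv_self] at h
      exact ⟨y', h⟩
    refine ⟨x, _, H.mul_mem (hd l' m') h1, fun y => ?_⟩
    rw [conj_iff, conj_dec (l := l) (m := m), e']
    rfl
  · obtain ⟨l, m, σ, rfl⟩ := hH h hh
    exact ⟨⟨⟨Dl l m, σ⟩, l, m, hh, by simp⟩, fun y => (conj_iff _ _ _).2 (Dl_gl l m σ y)⟩
  · refine ⟨⟨_, inl_mem H (na_mem tθ_eq)⟩, fun y hy => ?_⟩
    refine ⟨⟨-y.s, 0, y.w, -y.v, y.t, y.z + y.s * y.t - tr (y.v * y.w), by simp, by simp, by simp⟩,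
      rfl, (conj_iff _ _ _).2 ?_, rfl⟩
    change na * gl y * na⁻¹ = _
    rw [gl_apply, mem_Q.1 hy, na_ff, gl_apply]
    simp only [tr, map_mul, tθ_apply]
  · refine ⟨⟨_, inl_mem H (nb_mem tθ_eq)⟩, fun y hy => ?_⟩
    refine ⟨⟨0, y.v, -y.u, y.w - cr y.u y.v, -y.z + tr (y.v * y.w) - tr (y.u * sh y.v),
      y.s - tr (y.u * y.w) + tr (sh y.u * y.v), by simp, by simp, by simp⟩,
      rfl, (conj_iff _ _ _).2 ?_, rfl⟩
    change nb * gl y * nb⁻¹ = _
    rw [gl_apply, mem_R.1 hy, nb_ff tθ3, gl_apply]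
    simp only [tr, sh, cr, map_mul, tθ_apply, th3]
    congr 1 <;> ring

end Cfsg.Agent.D4
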