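import Cfsg.Agent.Lib.D4.Nrm2

/-!
Row NRM: the normal form of `Aut_F(S)`.
-/

set_option autoImplicit false

namespace Cfsg.Agent.D4

open Cfsg.Agent.Fus Cfsg.Agent.Fus2 Subgroup

namespace Nr

variable {K : Type} [Field K] [Fintype K] [Tf K]

variable (K) in
/-- The diagonal and field automorphisms. -/
def Dg : Subgroup (MulAut (P K)) where
  carrier := {h | ∃ l m σ, h = dg l m σ}
  one_mem' := ⟨1, 1, RingEquiv.refl K, by ext x <;> simp [sh, nm]⟩
  mul_mem' := by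
    rintro _ _ ⟨l, m, σ, rfl⟩ ⟨l', m', σ', rfl⟩
    refine ⟨l * Units.map (σ : K →* K) l', m * ⟨Units.map (σ : K →* K) m',
      by simp [mem_ku, ← map_th]⟩, σ'.trans σ, ?_⟩
    ext x <;> simp [sh, nm, map_th] <;> ring
  inv_mem' := by
    rintro _ ⟨l, m, σ, rfl⟩
    exact ⟨Units.map (σ.symm : K →* K) l⁻¹, ⟨Units.map (σ.symm : K →* K) (m⁻¹ : ku K),
      by simp [mem_ku, ← map_th]⟩, σ.symm, MulEquiv.ext fun _ => rfl⟩

theorem conj_of (p : ℕ) [hp : Fact p.Prime] [CharP K p] {A : Subgroup (MulAut (P K))}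
    (hA : ¬ p ∣ Nat.card A) (h : ∀ a ∈ A, ∃ τ : K ≃+* K, ∀ u, fB a u = fB a 1 * τ u) :
    ∃ θ : MulAut (P K), ∀ a ∈ A, θ⁻¹ * a * θ ∈ Dg K := by
  have h₁ : IsPGroup p (Ess.trivSub ⊤ (Z4 K) le_top) := fun β => by
    obtain ⟨k, hk⟩ := pow_eq_one p β.2
    exact ⟨k, Subtype.ext hk⟩
  have : (Ess.trivSub ⊤ (Z4 K) le_top).Normal :=
    ⟨fun β hβ γ => TrivOn.conj hβ (fun _ _ => trivial) fun _ => inv_Z4 γ⟩
  obtain ⟨θ, -, h⟩ := Solv.sz_star (A := A) (K := Ess.trivSub ⊤ (Z4 K) le_top) (S := Dg K)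
    le_normalizer_of_normal (by
      obtain ⟨k, hk⟩ := h₁.exists_card_eq
      rw [hk]
      exact ((hp.out.coprime_iff_not_dvd.2 hA).symm).pow_right k)
    (.inr (by have := h₁.isNilpotent; infer_instance)) fun a ha => by
      obtain ⟨τ, hτ⟩ := h a ha
      obtain ⟨l, m, h⟩ := dg_of hτ
      refine ⟨a * (dg l m τ)⁻¹, fun x _ => ?_, l, m, τ, by group⟩
      obtain ⟨x, rfl⟩ := (dg l m τ).surjective x
      exact ⟨by simp [(h x).1], by simp [(h x).2]⟩
  exact ⟨θ, h⟩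

theorem fB_mul (α β : MulAut (P K)) (u : K) : fB (α * β) u = fB α (fB β u) := hB α _

@[simp] theorem fB_one (u : K) : fB 1 u = u := rfl

theorem fB_dg (l : Kˣ) (m : ku K) (σ : K ≃+* K) (u : K) : fB (dg l m σ) u = l * σ u := rfl

theorem fB_pow (l : Kˣ) (n : ℕ) (u : K) : fB (dg l 1 (RingEquiv.refl K) ^ n) u = l ^ n * u := by
  induction n with
  | zero => exact (pow_zero (l : K)).symm ▸ (one_mul u).symm
  | succ n ih => rw [pow_succ', fB_mul, fB_dg, ih, pow_succ', mul_assoc]; rfl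

theorem card_dvd (hq : Tf.q K = 2) [CharP K 2] {B : Subgroup (MulAut (P K))}
    (hB : ¬ 2 ∣ Nat.card B) : Nat.card B ∣ 21 := by
  classical
  letI := ZMod.algebra K 2
  have hn : Module.finrank (ZMod 2) K = 3 := by
    have := Module.card_eq_pow_finrank (K := ZMod 2) (V := K)
    rw [Tf.card_eq, hq, ZMod.card] at this
    exact (Nat.pow_right_injective le_rfl this).symm
  have b := Module.finBasisOfFinrankEq (ZMod 2) K hn
  let ρ : MulAut (P K) →* (K →ₗ[ZMod 2] K) :=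
    { toFun := fun α => (fB α).toZModLinearMap 2
      map_one' := LinearMap.ext fun _ => rfl
      map_mul' := fun α β => LinearMap.ext (fB_mul α β) }
  have h := card_dvd_of_injective (((Units.map (LinearMap.toMatrixAlgEquiv b).toMonoidHom).comp
    ρ.toHomUnits).comp B.subtype) ((injective_iff_map_eq_one _).2 fun g hg => by
      have e : ρ g = 1 := (map_eq_one_iff _ (LinearMap.toMatrixAlgEquiv b).injective).1
        (congrArg Units.val hg)
      have e1 : ∀ u, fB g.1 u = u := fun u => LinearMap.congr_fun e u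
      obtain ⟨l, m, h⟩ := dg_of (α := g.1) (τ := RingEquiv.refl K) fun u => by simp [e1]
      have hm : ((m : Kˣ) : K) = 1 := (eq_of_q_two hq m.2).resolve_left (m : Kˣ).ne_zero
      obtain ⟨k, hk⟩ := pow_eq_one 2 (β := g.1) fun x _ =>
        ⟨by simp [(h x).1, hm], by simp [Nr.hB, e1]⟩
      exact orderOf_eq_one_iff.1 (Nat.eq_one_of_dvd_coprimes
        (((Nat.prime_two.coprime_iff_not_dvd).2 hB).pow_left k)
        (orderOf_dvd_of_pow_eq_one (Subtype.ext hk)) (orderOf_dvd_natCard g)))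
  rw [Matrix.card_GL_field, ZMod.card, Fin.prod_univ_three] at h
  exact (((Nat.prime_two.coprime_iff_not_dvd).2 hB).symm.pow_right 3).dvd_of_dvd_mul_left h

theorem conj_le (hq : Tf.q K = 2) [CharP K 2] {r : ℕ} [hr : Fact r.Prime] (h2 : r ≠ 2)
    {X : Subgroup (MulAut (P K))} (hX : IsPGroup r X) {y : MulAut (P K)} (hy : orderOf y = r) :
    ∃ θ : MulAut (P K), ∀ a ∈ X, θ * a * θ⁻¹ ∈ zpowers y := by
  obtain ⟨S, hS⟩ := hX.exists_le_sylow
  obtain ⟨T, hT⟩ := (IsPGroup.of_card (p := r) (n := 1)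
    (by rw [Nat.card_zpowers, hy, pow_one] : Nat.card (zpowers y) = _)).exists_le_sylow
  obtain ⟨θ, rfl⟩ := MulAction.exists_smul_eq (MulAut (P K)) S T
  refine ⟨θ, fun a ha => ?_⟩
  obtain ⟨k, hk⟩ := (θ • S).isPGroup'.exists_card_eq
  have h1 := card_dvd hq (B := (θ • S : Sylow r _)) fun e => h2
    ((Nat.prime_dvd_prime_iff_eq Nat.prime_two hr.out).1 (Nat.prime_two.dvd_of_dvd_pow (hk ▸ e))).symm
  rw [eq_of_le_of_card_ge hT (by
    rw [Nat.card_zpowers, hy, hk]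
    refine (Nat.pow_le_pow_right hr.out.pos (not_lt.1 fun e => hr.out.not_isUnit
      ((show Squarefree 21 by decide +kernel) r ?_))).trans (pow_one r).le
    exact (sq r ▸ pow_dvd_pow r e).trans (hk ▸ h1))]
  exact smul_mem_pointwise_smul _ _ _ (hS ha)

theorem exists_conj (p : ℕ) [hp : Fact p.Prime] [CharP K p] {A : Subgroup (MulAut (P K))}
    (hA : ¬ p ∣ Nat.card A) : ∃ θ : MulAut (P K), ∀ a ∈ A, θ⁻¹ * a * θ ∈ Dg K := by
  by_cases hq : Tf.q K = 2
  swap
  · exact conj_of p hA fun a _ => exists_semi a hq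
  obtain rfl : p = 2 := by
    obtain ⟨n, hn, e⟩ := exists_q_pow K p
    exact (Nat.prime_dvd_prime_iff_eq hp.out Nat.prime_two).1
      (hq ▸ e ▸ dvd_pow_self p (by omega))
  suffices ∃ θ : MulAut (P K), ∀ a ∈ A, ∃ τ : K ≃+* K, ∀ u, fB (θ * a * θ⁻¹) u =
      fB (θ * a * θ⁻¹) 1 * τ u by
    obtain ⟨θ, h⟩ := this
    obtain ⟨θ', h'⟩ := conj_of 2 (A := A.map (MulAut.conj θ).toMonoidHom)
      (fun e => hA (e.trans (card_map_dvd _ _))) (by rintro _ ⟨a, ha, rfl⟩; exact h a ha)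
    exact ⟨θ⁻¹ * θ', fun a ha => by simpa [mul_assoc] using h' _ ⟨a, ha, rfl⟩⟩
  have h21 := card_dvd hq hA
  by_cases h7 : 7 ∣ Nat.card A
  · haveI : Fact (Nat.Prime 7) := ⟨by norm_num⟩
    obtain ⟨g, g0, hg, hg'⟩ := exists_gen K
    have hy : orderOf (dg (Units.mk0 g g0) 1 (RingEquiv.refl K)) = 7 := by
      refine orderOf_eq_prime ?_ fun e => ?_
      · have e : g ^ 7 = 1 := by
          have := FiniteField.pow_card_sub_one_eq_one g g0
          rwa [Tf.card_eq, hq] at this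
        have e' : ∀ n, dg (Units.mk0 g g0) 1 (RingEquiv.refl K) ^ n =
            dg (Units.mk0 g g0 ^ n) 1 (RingEquiv.refl K) := fun n => by
          induction n with
          | zero => ext x <;> simp [sh, nm]
          | succ n ih => rw [pow_succ, ih]; ext x <;> simp [sh, nm, pow_succ] <;> ring
        rw [e', show Units.mk0 g g0 ^ 7 = 1 from Units.ext e]
        ext x <;> simp [sh, nm]
      · have := hg 1 (by simpa [fB_dg] using congrArg (fB · (1 : K)) e)
        rw [hq] at this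
        omega
    obtain ⟨a₀, h₀⟩ := exists_prime_orderOf_dvd_card' 7 h7
    have hN : (zpowers a₀).Normal := by
      have e := (zpowers a₀).card_mul_index
      rw [Nat.card_zpowers, h₀] at e
      rcases (Nat.dvd_prime Nat.prime_three).1 (Nat.dvd_of_mul_dvd_mul_left (by norm_num : 0 < 7)
        (e ▸ h21 : 7 * (zpowers a₀).index ∣ 7 * 3)) with h | h
      · rw [index_eq_one.1 h]; infer_instance
      · exact normal_of_index_eq_minFac_card (by rw [← e, h]; decide +kernel)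
    have h₁ : orderOf a₀.1 = 7 := by rw [Subgroup.orderOf_coe, h₀]
    obtain ⟨θ, hθ⟩ := conj_le hq (by norm_num) (IsPGroup.of_card (p := 7) (n := 1)
      (by rw [Nat.card_zpowers, h₁, pow_one] : Nat.card (zpowers a₀.1) = _)) hy
    have h₂ : zpowers (θ * a₀.1 * θ⁻¹) = _ := eq_of_le_of_card_ge
      (zpowers_le.2 (hθ _ (mem_zpowers _))) (by
        rw [Nat.card_zpowers, Nat.card_zpowers, hy, ← MulAut.conj_apply, MulEquiv.orderOf_eq, h₁])
    obtain ⟨i, hi⟩ := mem_zpowers_iff.1 (h₂.ge (mem_zpowers _))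
    refine ⟨θ, fun a ha => ?_⟩
    obtain ⟨j, hj⟩ := mem_powers_iff_mem_zpowers.2 (hθ (a * a₀.1 ^ i * a⁻¹) (by
      obtain ⟨n, hn⟩ := hN.conj_mem _ (zpow_mem (mem_zpowers a₀) i) ⟨a, ha⟩
      exact ⟨n, congrArg Subtype.val hn⟩))
    generalize hb : θ * a * θ⁻¹ = b
    have h₃ : ∀ u, fB b (g * u) = g ^ j * fB b u := fun u => by
      have e : b * dg (Units.mk0 g g0) 1 (RingEquiv.refl K) =
          dg (Units.mk0 g g0) 1 (RingEquiv.refl K) ^ j * b := by
        rw [show _ ^ j = _ from hj, ← hi, ← hb, conj_zpow]; group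
      simpa [fB_mul, fB_pow, fB_dg] using congrArg (fB · u) e
    have h₄ : ∀ n u, fB b (g ^ n * u) = g ^ (j * n) * fB b u := fun n u => by
      induction n with
      | zero => simp
      | succ n ih => rw [pow_succ', mul_assoc, h₃, ih]; ring
    have l0 : fB b 1 ≠ 0 := (map_ne_zero_iff _ (fB_inj b)).2 one_ne_zero
    let B : K →+ K := (AddMonoidHom.mulLeft (fB b 1)⁻¹).comp (fB b)
    have eB : ∀ u, B u = (fB b 1)⁻¹ * fB b u := fun _ => rfl
    refine ⟨RingEquiv.ofBijective (⟨⟨⟨B, by rw [eB, inv_mul_cancel₀ l0]⟩, fun x y => ?_⟩,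
      B.map_zero, B.map_add⟩ : K →+* K) (Finite.injective_iff_bijective.1 fun x y h =>
        fB_inj b (mul_left_cancel₀ (inv_ne_zero l0) h)), fun u => ?_⟩
    · by_cases hx : x = 0
      · simp [hx]
      obtain ⟨n, rfl⟩ := hg' x hx
      have := h₄ n 1
      rw [mul_one] at this
      simp only [eB, h₄, this]
      field_simp
    · change _ = _ * B u
      rw [eB]; field_simp
  · haveI : Fact (Nat.Prime 3) := ⟨Nat.prime_three⟩
    have hy : orderOf (dg 1 1 (th (K := K))) = 3 := by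
      refine orderOf_eq_prime (by ext x <;> simp [pow_succ, sh, nm]) fun e => ?_
      obtain ⟨a, ha⟩ := exists_th_ne K
      exact ha (by simpa [fB_dg] using congrArg (fB · a) e)
    obtain ⟨θ, hθ⟩ := conj_le hq (by norm_num) (IsPGroup.of_card_dvd_pow (p := 3) (n := 1) (G := A)
      (((Nat.Prime.coprime_iff_not_dvd (by norm_num)).2 h7).symm.dvd_of_dvd_mul_right h21)) hy
    refine ⟨θ, fun a ha => ?_⟩
    obtain ⟨l, m, σ, e⟩ := (zpowers_le (H := Dg K)).2 ⟨1, 1, th, rfl⟩ (hθ a ha)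
    exact ⟨σ, fun u => by simp [e, fB_dg]⟩

end Nr

theorem nrm : NrmStmt := by
  intro K _ _ _ p hp _ F hF
  have hs := sat_sylow_top (pg_top K p) hF
  have := Inn_subgroupOf_normal (F.autGroup ⊤)
  obtain ⟨H, hH⟩ := exists_right_complement'_of_coprime
    (N := (Inn (⊤ : Subgroup (P K))).subgroupOf (F.autGroup ⊤)) (by
      obtain ⟨k, hk⟩ := (hs.isPGroup.comap_subtype (K := F.autGroup ⊤)).exists_card_eq
      rw [show Nat.card ((Inn (⊤ : Subgroup (P K))).subgroupOf (F.autGroup ⊤)) = _ from hk]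
      exact (hp.out.coprime_iff_not_dvd.2 hs.not_dvd_relIndex).pow_left k)
  let e : F.autGroup ⊤ →* MulAut (P K) :=
    (MulAut.congr topEquiv).toMonoidHom.comp (F.autGroup ⊤).subtype
  obtain ⟨θ, hθ⟩ := Nr.exists_conj p (A := H.map e) fun h => hs.not_dvd_relIndex (by
    rw [relIndex, hH.symm.index_eq_card]
    exact h.trans (card_map_dvd H e))
  refine ⟨θ⁻¹, fun f hf => ?_⟩
  obtain ⟨β, hβ, eβ⟩ := hf.exists_aut' fun _ _ => trivial
  obtain ⟨⟨⟨n, hn⟩, h⟩, e₁⟩ := hH.2 ⟨β, hβ⟩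
  obtain ⟨g, -, hg⟩ := (Fus2.mem_Inn_iff (α := n.1)).1 hn
  obtain ⟨l, m, σ, e₂⟩ := hθ _ ⟨h, h.2, rfl⟩
  refine ⟨θ⁻¹ g, l, m, σ, fun y => ?_⟩
  have e₃ : β = n.1 * h.1.1 := (congrArg Subtype.val e₁).symm
  rw [← eβ _ trivial, e₃, afn_mul, hg _ trivial, ← e₂, afn_apply _ (mem_top _), map_mul, map_mul,
    map_inv]
  rfl

end Cfsg.Agent.D4
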