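import Cfsg.Agent.Lib.D4.Defs

/-!
Row NRM: field lemmas.
-/

set_option autoImplicit false

namespace Cfsg.Agent.D4.Nr

variable {K : Type} [Field K] [Fintype K] [Tf K]

variable (K) in
theorem two_le : 2 ≤ Tf.q K := by
  have h := Fintype.one_lt_card (α := K)
  rw [Tf.card_eq] at h
  by_contra hc
  have : Tf.q K = 0 ∨ Tf.q K = 1 := by omega
  rcases this with e | e <;> simp [e] at h

variable (K) in
theorem exists_gen : ∃ g : K, g ≠ 0 ∧ (∀ n, g ^ n = 1 → Tf.q K ^ 3 - 1 ∣ n) ∧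
    ∀ x ≠ 0, ∃ n : ℕ, g ^ n = x := by
  classical
  obtain ⟨g, hg⟩ := IsCyclic.exists_generator (α := Kˣ)
  refine ⟨g, g.ne_zero, fun n hn => ?_, fun x hx => ?_⟩
  · rw [← Tf.card_eq, ← Fintype.card_units, ← Nat.card_eq_fintype_card,
      ← orderOf_eq_card_of_forall_mem_zpowers hg]
    exact orderOf_dvd_of_pow_eq_one (Units.ext (by simpa using hn))
  · obtain ⟨n, hn⟩ := mem_powers_iff_mem_zpowers.2 (hg (Units.mk0 x hx))
    exact ⟨n, by simpa using congrArg Units.val hn⟩

variable (K) in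
theorem exists_th_ne : ∃ a : K, th a ≠ a := by
  obtain ⟨g, h0, h, -⟩ := exists_gen K
  refine ⟨g, fun e => ?_⟩
  have h2 := two_le K
  obtain ⟨r, hr⟩ := Nat.exists_eq_add_of_le h2
  rw [Tf.th_eq, hr, show 2 + r = r + 1 + 1 by ring, pow_succ] at e
  have h3 := Nat.le_of_dvd (by omega) (h _ (mul_right_cancel₀ h0 (e.trans (one_mul g).symm)))
  rw [hr, Nat.sub_le_iff_le_add] at h3
  nlinarith [Nat.zero_le (r ^ 2), Nat.zero_le (r ^ 3)]

theorem exists_k (hq : Tf.q K ≠ 2) : ∃ t : K, th t = t ∧ t ≠ 0 ∧ t ≠ 1 := by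
  obtain ⟨g, h0, h, -⟩ := exists_gen K
  refine ⟨nm g, th_nm g, by simp [nm, h0], fun e => ?_⟩
  obtain ⟨r, hr⟩ := Nat.exists_eq_add_of_le (show 3 ≤ Tf.q K by have := two_le K; omega)
  simp only [nm, Tf.th_eq, ← pow_mul] at e
  rw [← pow_succ', ← pow_add] at e
  have h3 := Nat.le_of_dvd (by omega) (h _ e)
  rw [hr, Nat.sub_le_iff_le_add] at h3
  nlinarith [Nat.zero_le (r ^ 2), Nat.zero_le (r ^ 3)]

theorem th2_ne {a : K} (h : th a ≠ a) : th (th a) ≠ a := fun e => h (by rw [← e, th3, e])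

variable (K) in
theorem exists_tr_ne : ∃ x : K, tr x ≠ 0 := by
  by_contra! h
  obtain ⟨a, ha⟩ := exists_th_ne K
  have h1 := h 1
  have h2 := h a
  have h3 := h (a * a)
  simp only [tr, map_one, map_mul] at h1 h2 h3
  refine mul_ne_zero (sub_ne_zero.2 ha) (sub_ne_zero.2 (th2_ne ha)) ?_
  linear_combination h3 - (th a + th (th a)) * h2 + th a * th (th a) * h1

theorem tr_smul {t : K} (ht : th t = t) (x : K) : tr (t * x) = t * tr x := by
  simp only [tr, map_mul, ht]; ring

theorem tr_nondeg {w : K} (h : ∀ u, tr (u * w) = 0) : w = 0 := by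
  by_contra hw
  obtain ⟨x, hx⟩ := exists_tr_ne K
  exact hx (by simpa [hw] using h (x / w))

theorem exists_tr {t : K} (ht : th t = t) : ∃ x, tr x = t := by
  obtain ⟨x, hx⟩ := exists_tr_ne K
  exact ⟨t / tr x * x, by rw [tr_smul (by simp [ht]), div_mul_cancel₀ _ hx]⟩

theorem cr_nondeg {v : K} (h : ∀ u, cr u v = 0) : v = 0 := by
  obtain ⟨a, ha⟩ := exists_th_ne K
  have h1 := h 1
  have h2 := h a
  simp only [cr, map_one] at h1 h2
  have : (th a - th (th a)) * th (th v) = 0 := by linear_combination h2 - th (th a) * h1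
  simpa [sub_eq_zero, (th.injective.ne ha).symm] using this

theorem pure₀ (B ω : K →+ K) (hi : Function.Injective B) (h1 : B 1 = 1) {c : K} (hc : th c = c)
    (c0 : c ≠ 0) (hk : ∀ t, th t = t → th (B t) = B t)
    (hB : ∀ t u, th t = t → B (t * u) = B t * B u) (hω : ∀ t u, th t = t → ω (t * u) = B t * ω u)
    (h₁ : ∀ u, ω (sh u) = sh (B u)) (h₂ : ∀ u v, ω (cr u v) = cr (B u) (B v))
    (h₃ : ∀ u w, tr (B u * ω w) = c * B (tr (u * w))) (a b : K) : B (a * b) = B a * B b := by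
  have w1 : ω 1 = 1 := by simpa [sh, h1] using h₁ 1
  have t1 : ∀ u, tr (B u) = c * B (tr u) := fun u => by simpa [w1] using h₃ u 1
  have e1 : ∀ v, ω v = B v + (1 - c) * B (tr v) := fun v => by
    have a1 := h₂ 1 v
    have a2 := hω (tr v) 1 (th_tr v)
    rw [show cr 1 v = tr v * 1 - v by simp [cr, tr]; ring, map_sub, a2, w1, h1,
      show cr 1 (B v) = tr (B v) - B v by simp [cr, tr]; ring, t1] at a1
    linear_combination -a1
  have e2 : c = 1 := by
    by_contra hne
    have a3 : (3 : K) = 0 := by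
      have := t1 1
      rw [h1, show tr (1 : K) = 1 + 1 + 1 by simp [tr], map_add, map_add, h1] at this
      exact (mul_eq_zero.1 (by linear_combination this : (1 - c) * 3 = 0)).resolve_left
        (sub_ne_zero.2 (Ne.symm hne))
    obtain ⟨u, u1, u2⟩ : ∃ u : K, tr u ≠ 0 ∧ tr (sh u) ≠ 0 := by
      obtain ⟨x, hx⟩ := exists_tr_ne K
      by_cases h : tr (sh x) = 0
      · refine ⟨x + 1, fun e => hx ?_, fun e => hx ?_⟩ <;>
          simp only [tr, sh, map_add, map_one, map_mul, th3] at e h ⊢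
        · linear_combination e - a3
        · linear_combination h - e + (x + th x + th (th x) + 1) * a3
      · exact ⟨x, hx, h⟩
    have n0 : ∀ y, y ≠ 0 → B y ≠ 0 := fun y hy => (map_ne_zero_iff B hi).2 hy
    have hx : th (B u) ≠ B u := fun e => mul_ne_zero c0 (n0 _ u1) (by
      rw [← t1, tr, e, e]; linear_combination B u * a3)
    have b1 := h₁ (sh u)
    have b2 := e1 (sh u)
    rw [h₁] at b2
    rw [show sh (sh u) = nm u * u by simp only [sh, nm, map_mul, th3]; ring, hω _ _ (th_nm u), e1,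
      show B (sh u) = sh (B u) - (1 - c) * B (tr (sh u)) by linear_combination -b2] at b1
    have k1 := hk _ (th_nm u)
    have k2 := hk _ (th_tr u)
    have k3 := hk _ (th_tr (sh u))
    have b3 := congrArg th b1
    generalize B u = x, B (nm u) = n, B (tr u) = m at *
    have r0 := mul_ne_zero (sub_ne_zero.2 (Ne.symm hne)) (n0 _ u2)
    generalize B (tr (sh u)) = r at *
    simp only [sh, map_add, map_sub, map_mul, map_one, th3, hc, k1, k2, k3] at b1 b3
    have b4 : x * th x * th (th x) - n = (1 - c) * r * th (th x) :=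
      mul_left_cancel₀ (sub_ne_zero.2 hx) (by linear_combination b1 - b3)
    have b5 := congrArg th b4
    simp only [map_sub, map_mul, map_one, th3, hc, k1, k3] at b5
    exact th2_ne hx (mul_left_cancel₀ r0 (by linear_combination b5 - b4))
  have e3 : ∀ v, ω v = B v := fun v => by rw [e1, e2]; ring
  simp only [e3, e2, one_mul] at h₁ h₂ h₃
  have e4 : ∀ a b, B (a * a * b) = B a * B a * B b := fun a b => by
    rw [show a * a * b = tr (a * b) * a - cr (sh a) b by
      simp only [tr, cr, sh, map_mul, th3]; ring, map_sub, hB _ _ (th_tr _), ← h₃, h₂, h₁]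
    simp only [tr, cr, sh, map_mul, th3]; ring
  by_cases h2 : (2 : K) = 0
  · have : CharP K 2 := CharTwo.of_one_ne_zero_of_two_eq_zero one_ne_zero h2
    obtain ⟨r, rfl⟩ := FiniteField.isSquare_of_char_two (ringChar.eq K 2) a
    have := e4 r 1
    rw [mul_one, h1, mul_one] at this
    rw [e4, this]
  · have a1 := e4 (a + 1) b
    rw [show (a + 1) * (a + 1) * b = a * a * b + (a * b + a * b) + b by ring, map_add, map_add,
      map_add, map_add, e4, h1] at a1
    exact mul_left_cancel₀ h2 (by linear_combination a1)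

theorem pure (B ω : K →+ K) (hi : Function.Injective B) (σ : K → K) {μ c : K} (hμ : th μ = μ)
    (μ0 : μ ≠ 0) (hc : th c = c) (c0 : c ≠ 0) (hk : ∀ t, th t = t → th (σ t) = σ t)
    (hB : ∀ t u, th t = t → B (t * u) = σ t * B u) (hω : ∀ t u, th t = t → ω (t * u) = σ t * ω u)
    (h₁ : ∀ u, ω (sh u) = μ * sh (B u)) (h₂ : ∀ u v, ω (cr u v) = μ * cr (B u) (B v))
    (h₃ : ∀ u w, tr (B u * ω w) = c * σ (tr (u * w))) :
    ∃ τ : K ≃+* K, ∀ u, B u = B 1 * τ u := by
  have l0 : B 1 ≠ 0 := (map_ne_zero_iff B hi).2 one_ne_zero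
  have l1 : th (B 1) ≠ 0 := (map_ne_zero _).2 l0
  have l2 : th (th (B 1)) ≠ 0 := (map_ne_zero _).2 l1
  let B' : K →+ K := (AddMonoidHom.mulLeft (B 1)⁻¹).comp B
  let ω' : K →+ K := (AddMonoidHom.mulLeft (μ * sh (B 1))⁻¹).comp ω
  have eB : ∀ u, B' u = (B 1)⁻¹ * B u := fun _ => rfl
  have eω : ∀ u, ω' u = (μ * sh (B 1))⁻¹ * ω u := fun _ => rfl
  have es : ∀ t, th t = t → B' t = σ t := fun t ht => by
    have := hB t 1 ht
    rw [mul_one] at this
    rw [eB, this]; field_simp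
  have hi' : Function.Injective B' := fun x y h => hi (mul_left_cancel₀ (inv_ne_zero l0) h)
  have hm := pure₀ B' ω' hi' (by rw [eB, inv_mul_cancel₀ l0]) (c := c / (μ * nm (B 1)))
    (by simp [hc, hμ]) (by simp [c0, μ0, nm, l0]) (fun t ht => by rw [es t ht, hk t ht])
    (fun t u ht => by rw [es t ht, eB, eB, hB t u ht]; ring)
    (fun t u ht => by rw [es t ht, eω, eω, hω t u ht]; ring)
    (fun u => by rw [eω, h₁, eB]; simp only [sh, map_mul, map_inv₀]; field_simp)
    (fun u v => by rw [eω, h₂, eB, eB]; simp only [sh, cr, map_mul, map_inv₀]; field_simp)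
    (fun u w => by
      rw [es _ (th_tr _), eB, eω, show (B 1)⁻¹ * B u * ((μ * sh (B 1))⁻¹ * ω w) =
        (μ * nm (B 1))⁻¹ * (B u * ω w) by simp only [sh, nm]; field_simp,
        tr_smul (by simp [hμ]), h₃]
      ring)
  refine ⟨RingEquiv.ofBijective (⟨⟨⟨B', by rw [eB, inv_mul_cancel₀ l0]⟩, hm⟩, B'.map_zero,
    B'.map_add⟩ : K →+* K) (Finite.injective_iff_bijective.1 hi'), fun u => ?_⟩
  change B u = B 1 * B' u
  rw [eB]; field_simp

end Cfsg.Agent.D4.Nr
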