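import Cfsg.Agent.Lib.D4.Basic
import Cfsg.Agent.Lib.D4.Nrm1
import Cfsg.Agent.Lib.Solv.SZ
import Cfsg.Agent.Lib.Ess.Ctl

/-!
Row NRM: automorphisms of `S`.
-/

set_option autoImplicit false

namespace Cfsg.Agent.D4.Nr

open Cfsg.Agent.Fus Cfsg.Agent.Fus2 Subgroup

variable {K : Type} [Field K] [Fintype K] [Tf K]

theorem map_icj (α : MulAut (P K)) (g x : P K) :
    α (x⁻¹ * (g * x * g⁻¹)) = (α x)⁻¹ * (α g * α x * (α g)⁻¹) := by simp

theorem map_icj' (α : MulAut (P K)) (g x : P K) :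
    (α x)⁻¹ * (g * α x * g⁻¹) = α (x⁻¹ * (α⁻¹ g * x * (α⁻¹ g)⁻¹)) := by simp

theorem comm' (α : MulAut (P K)) {x y : P K} (h : x * α⁻¹ y = α⁻¹ y * x) : α x * y = y * α x := by
  simpa using congrArg α h

theorem inv_Z (α : MulAut (P K)) {x : P K} (hx : x ∈ Z K) : α x ∈ Z K :=
  mem_Z_of_comm fun _ _ => comm' α (comm_Z hx _)

theorem mem_Z4_of {x : P K} (h : ∀ g, x⁻¹ * (g * x * g⁻¹) ∈ Z3 K) : x ∈ Z4 K := by
  have h₁ := (h (xr 1 0 0)).2.2
  have h₂ := (h (xt 1 (map_one _))).2.2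
  rw [icj_v] at h₁ h₂
  exact ⟨by simpa using h₁, by simpa using h₂⟩

theorem mem_Z3_of {x : P K} (h : ∀ g, x⁻¹ * (g * x * g⁻¹) ∈ Z2 K) : x ∈ Z3 K := by
  have h₁ := mem_Z4_of fun g => Z2_le_Z3 (h g)
  refine ⟨h₁.1, h₁.2, cr_nondeg fun u => ?_⟩
  have := (h (xr u 0 0)).2.2.2
  rw [(icj_Q _ (Z4_le_Q h₁)).2.1, h₁.1] at this
  simpa using this

theorem mem_Z2_of {x : P K} (h : ∀ g, x⁻¹ * (g * x * g⁻¹) ∈ Z K) : x ∈ Z2 K := by
  have h₁ := mem_Z3_of fun g => Z_le_Z2 (h g)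
  refine ⟨h₁.1, h₁.2.1, h₁.2.2, tr_nondeg fun u => ?_⟩
  have := (h (xr u 0 0)).2.2.2.2
  rwa [(icj_Z3 _ h₁).1] at this

theorem inv_Z2 (α : MulAut (P K)) {x : P K} (hx : x ∈ Z2 K) : α x ∈ Z2 K :=
  mem_Z2_of fun g => by rw [map_icj']; exact inv_Z α (icj_mem_Z _ hx)

theorem inv_Z3 (α : MulAut (P K)) {x : P K} (hx : x ∈ Z3 K) : α x ∈ Z3 K :=
  mem_Z3_of fun g => by rw [map_icj']; exact inv_Z2 α (icj_mem_Z2 _ hx)

theorem inv_Z4 (α : MulAut (P K)) {x : P K} (hx : x ∈ Z4 K) : α x ∈ Z4 K :=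
  mem_Z4_of fun g => by rw [map_icj']; exact inv_Z3 α (icj_mem_Z3 _ hx)

theorem inv_R (α : MulAut (P K)) {x : P K} (hx : x ∈ R K) : α x ∈ R K :=
  mem_R_of_comm fun _ hy => comm' α (comm_Z2 (inv_Z2 _ hy) hx).symm

theorem inv_Q (α : MulAut (P K)) {x : P K} (hx : x ∈ Q K) : α x ∈ Q K :=
  mem_Q_of_icj fun y hy => by
    have := inv_Z α (icj_Q_mem hx (Z3_le_Q (inv_Z3 α⁻¹ hy)))
    rwa [map_icj, MulAut.apply_inv_self] at this

variable (α : MulAut (P K))

open Classical in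
/-- The action on the coordinate `t`. -/
noncomputable def fA (t : K) : K := if h : th t = t then (α (xt t h)).t else 0

open Classical in
/-- The action on the coordinate `s`. -/
noncomputable def fS (s : K) : K := if h : th s = s then (α (xz s 0 h (map_zero _))).s else 0

/-- The action on the coordinate `u`. -/
def fB : K →+ K := AddMonoidHom.mk' (fun u => (α (xr u 0 0)).u) fun u u' => by
  rw [← P.mul_u, ← map_mul]
  congr 2
  ext <;> simp

/-- The action on the coordinate `w`. -/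
def fW : K →+ K := AddMonoidHom.mk' (fun w => (α (xr 0 0 w)).w) fun w w' => by
  have h := inv_Z3 α (xr_mem_Z3 w)
  have : xr 0 0 (w + w') = xr 0 0 w * xr 0 0 w' := by ext <;> simp
  simp [this, h.2.1]

theorem hA (x : P K) : (α x).t = fA α x.t := by
  have := inv_R α (x := x⁻¹ * xt x.t x.ht) (by simp [mem_R])
  rw [mem_R, map_mul, map_inv, P.mul_t, P.inv_t] at this
  rw [fA, dif_pos x.ht]
  linear_combination -this

theorem hB (x : P K) : (α x).u = fB α x.u := by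
  have := inv_Q α (x := x⁻¹ * xr x.u 0 0) (by simp [mem_Q])
  rw [mem_Q, map_mul, map_inv, P.mul_u, P.inv_u] at this
  change _ = (α (xr x.u 0 0)).u
  linear_combination -this

variable {α}

theorem hD {x : P K} (hx : x ∈ Z4 K) : (α x).v = (α (xr 0 x.v 0)).v := by
  have := (inv_Z3 α (x := x⁻¹ * xr 0 x.v 0) (by simp [mem_Z3, hx.1, hx.2])).2.2
  rw [map_mul, map_inv, P.mul_v, P.inv_v, P.inv_u, (inv_Z4 α hx).2] at this
  linear_combination -this

theorem hW {x : P K} (hx : x ∈ Z4 K) : (α x).w = (α (xr 0 x.v 0)).w + fW α x.w := by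
  have := (inv_Z2 α (x := x⁻¹ * (xr 0 x.v 0 * xr 0 0 x.w))
    (by simp [mem_Z2, hx.1, hx.2])).2.2.2
  rw [map_mul, map_inv, map_mul, P.mul_w, P.mul_w, P.inv_w, P.inv_u, (inv_Z4 α hx).2,
    (inv_Z4 α (xr_mem_Z4 x.v 0)).2] at this
  simp only [neg_zero, cr_zero_left, sh_zero, mul_zero] at this
  change _ = _ + (α (xr 0 0 x.w)).w
  linear_combination -this

theorem hW3 {x : P K} (hx : x ∈ Z3 K) : (α x).w = fW α x.w := by
  rw [hW (Z3_le_Z4 hx), hx.2.2, show xr (0 : K) 0 0 = 1 from rfl, map_one, P.one_w, zero_add]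

theorem hS {x : P K} (hx : x ∈ Z2 K) : (α x).s = fS α x.s := by
  have := (inv_Z α (x := x⁻¹ * xz x.s 0 x.hs (map_zero _))
    (by simp [mem_Z, hx.1, hx.2.1, hx.2.2.1, hx.2.2.2])).2.2.2.2
  rw [map_mul, map_inv, P.mul_s, P.inv_s, P.inv_u, (inv_Z2 α hx).2.1] at this
  simp only [neg_zero, zero_mul, tr_zero, sh_zero, nm_zero, mul_zero] at this
  rw [fS, dif_pos x.hs]
  linear_combination -this

variable (α)

theorem fB_inj : Function.Injective (fB α) := (injective_iff_map_eq_zero _).2 fun u h => by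
  simpa [mem_Q] using inv_Q α⁻¹ (x := α (xr u 0 0)) h

theorem th_fA (t : K) : th (fA α t) = fA α t := by
  unfold fA; split_ifs <;> simp

theorem th_fS (t : K) : th (fS α t) = fS α t := by
  unfold fS; split_ifs <;> simp

theorem fA_one : fA α 1 ≠ 0 := fun h => by
  simpa [mem_R] using inv_R α⁻¹ (x := α (xt 1 (map_one _))) ((hA α _).trans h)

theorem fS_one : fS α 1 ≠ 0 := fun h => by
  have h1 := inv_Z2 α (xz_mem_Z2 (1 : K) 0 (map_one _) (map_zero _))
  simpa [mem_Z] using inv_Z α⁻¹ ⟨h1.1, h1.2.1, h1.2.2.1, h1.2.2.2,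
    (hS (xz_mem_Z2 _ _ _ _)).trans h⟩

theorem rD {t : K} (ht : th t = t) (u : K) : (α (xr 0 (t * u) 0)).v = fA α t * fB α u := by
  have := hD (α := α) (icj_mem_Z4 (xr u 0 0) (xt t ht))
  rw [map_icj, icj_v, icj_v, hA, hB, hA, hB] at this
  simpa using this.symm

theorem rB {t : K} (ht : th t = t) (u : K) : fB α (t * u) = fA α t / fA α 1 * fB α u := by
  have h1 := rD α (map_one _) (t * u)
  rw [one_mul, rD α ht] at h1
  have := fA_one α
  field_simp
  linear_combination -h1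

theorem rW (u v : K) : fW α (cr u v) = fA α 1 * cr (fB α u) (fB α v) := by
  have := hW3 (α := α) (icj_mem_Z3 (xr u 0 0) (xr_mem_Z4 v 0))
  have h1 := rD α (map_one _) v
  rw [one_mul] at h1
  rw [map_icj, (icj_Q _ (inv_Q α (Z4_le_Q (xr_mem_Z4 v 0)))).2.1,
    (icj_Q _ (Z4_le_Q (xr_mem_Z4 v 0))).2.1, (inv_Z4 α (xr_mem_Z4 v 0)).1, h1, hB,
    cr_smul_right (th_fA α 1)] at this
  simpa using this.symm

theorem rS' (u w : K) : fS α (tr (u * w)) = tr (fB α u * fW α w) := by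
  have := hS (α := α) (icj_mem_Z2 (xr u 0 0) (xr_mem_Z3 w))
  rw [map_icj, (icj_Z3 _ (inv_Z3 α (xr_mem_Z3 w))).1, (icj_Z3 _ (xr_mem_Z3 w)).1, hB] at this
  exact this.symm

theorem rS (u w : K) : tr (fB α u * fW α w) = fS α 1 * (fA α (tr (u * w)) / fA α 1) := by
  obtain ⟨x, hx⟩ := exists_tr (K := K) (t := 1) (map_one _)
  have h1 := rS' α (tr (u * w) * x) 1
  rw [mul_one, tr_smul (th_tr _), hx, mul_one, rB α (th_tr _), mul_assoc,
    tr_smul (t := fA α (tr (u * w)) / fA α 1) (by simp [th_fA]), ← rS', mul_one, hx] at h1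
  rw [← rS', h1, mul_comm]

theorem rA {t t' : K} (ht : th t = t) (ht' : th t' = t') :
    fA α (t * t') / fA α 1 = fA α t / fA α 1 * (fA α t' / fA α 1) := by
  have h1 := rB α (t := t * t') (by simp [ht, ht']) 1
  rw [mul_assoc, rB α ht, rB α ht', ← mul_assoc] at h1
  exact (mul_right_cancel₀ ((map_ne_zero_iff _ (fB_inj α)).2 one_ne_zero) h1).symm

theorem rW' {t : K} (ht : th t = t) (w : K) : fW α (t * w) = fA α t / fA α 1 * fW α w := by
  rw [← sub_eq_zero]
  refine tr_nondeg fun y => ?_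
  obtain ⟨u, rfl⟩ := Finite.injective_iff_surjective.1 (fB_inj α) y
  rw [mul_sub, tr_sub, mul_left_comm, tr_smul (t := fA α t / fA α 1) (by simp [th_fA]), rS, rS, mul_left_comm u,
    tr_smul ht, rA α ht (th_tr _)]
  ring

theorem rH (hq : Tf.q K ≠ 2) (u : K) : fW α (sh u) = fA α 1 * sh (fB α u) := by
  have key : ∀ t (ht : th t = t) u, (α (xr 0 (t * u) 0)).w + fA α t / fA α 1 * fW α (sh u) =
      cr (fB α u) (α (xt t ht)).v + fA α t * sh (fB α u) := fun t ht u => by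
    have := hW (α := α) (icj_mem_Z4 (xr u 0 0) (xt t ht))
    rw [map_icj, (icj_Q _ (inv_Q α (xt_mem_Q t ht))).2.1, (icj_Q _ (xt_mem_Q t ht)).2.1,
      (icj_Q _ (xt_mem_Q t ht)).1, hA, hB] at this
    simp only [xt_t, xr_u, xt_v, cr_zero_right, zero_add] at this
    rw [← rW' α ht, this]
  obtain ⟨t, ht, t0, t1⟩ := exists_k hq
  have μ0 := fA_one α
  have hs : th (fA α t / fA α 1) = fA α t / fA α 1 := by simp [th_fA]
  have l0 : fB α 1 ≠ 0 := (map_ne_zero_iff _ (fB_inj α)).2 one_ne_zero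
  have s0 : fA α t / fA α 1 ≠ 0 := fun e => t0 (fB_inj α (by
    rw [← mul_one t, rB α ht, e, zero_mul, map_zero]))
  have s1 : 1 - fA α t / fA α 1 ≠ 0 := fun e => t1 (fB_inj α (by
    rw [← mul_one t, rB α ht, ← sub_eq_zero.1 e, one_mul]))
  have k2 : ∀ u, fA α t / fA α 1 * (1 - fA α t / fA α 1) * (fW α (sh u) - fA α 1 * sh (fB α u)) =
      cr (fB α u) (α (xt t ht)).v - fA α t / fA α 1 * cr (fB α u) (α (xt 1 (map_one _))).v :=
    fun u => by
      have a1 := key t ht u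
      have a2 := key 1 (map_one _) (t * u)
      rw [one_mul, div_self μ0, sh_mul, sh_of_fix ht, sq, mul_assoc, rW' α ht, rW' α ht, rB α ht,
        sh_mul, sh_of_fix hs, cr_smul_left hs] at a2
      have a3 : fA α t = fA α t / fA α 1 * fA α 1 := by field_simp
      generalize fA α t / fA α 1 = r at *
      linear_combination a1 - a2 + sh (fB α u) * a3
  have a1 := k2 u
  have a2 := k2 (t * u)
  rw [sh_mul, sh_of_fix ht, sq, mul_assoc t, rW' α ht, rW' α ht, rB α ht, sh_mul, sh_of_fix hs,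
    cr_smul_left hs, cr_smul_left hs] at a2
  generalize fA α t / fA α 1 = r at *
  have : r * r * (1 - r) * (1 - r) * (fW α (sh u) - fA α 1 * sh (fB α u)) = 0 := by
    linear_combination r * a1 - a2
  simpa [s0, s1, sub_eq_zero] using this

theorem dg_of {α : MulAut (P K)} {τ : K ≃+* K} (h : ∀ u, fB α u = fB α 1 * τ u) :
    ∃ (l : Kˣ) (m : ku K), ∀ x, (α x).t = (m : Kˣ) * τ x.t ∧ (α x).u = l * τ x.u := by
  have l0 : fB α 1 ≠ 0 := (map_ne_zero_iff _ (fB_inj α)).2 one_ne_zero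
  refine ⟨Units.mk0 _ l0, ⟨Units.mk0 _ (fA_one α), th_fA α 1⟩, fun x => ⟨?_, (hB α x).trans (h _)⟩⟩
  have h1 := rB α x.ht 1
  rw [mul_one, h, mul_comm] at h1
  have := fA_one α
  rw [hA, Units.val_mk0, mul_right_cancel₀ l0 h1]
  field_simp

theorem exists_semi (hq : Tf.q K ≠ 2) : ∃ τ : K ≃+* K, ∀ u, fB α u = fB α 1 * τ u :=
  pure (fB α) (fW α) (fB_inj α) (fun t => fA α t / fA α 1) (th_fA α 1) (fA_one α) (th_fS α 1)
    (fS_one α) (fun t _ => by simp [th_fA]) (fun _ u ht => rB α ht u) (fun _ u ht => rW' α ht u)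
    (rH α hq) (rW α) (rS α)

theorem pow_eq_one (p : ℕ) [Fact p.Prime] [CharP K p] {β : MulAut (P K)}
    (h : TrivOn β ⊤ (Z4 K)) : ∃ k : ℕ, β ^ p ^ k = 1 := by
  have ht : ∀ x, (β x).t = x.t := fun x => by
    have := (h x trivial).1
    rw [P.mul_t, P.inv_t] at this
    linear_combination this
  have hu : ∀ x, (β x).u = x.u := fun x => by
    have := (h x trivial).2
    rw [P.mul_u, P.inv_u] at this
    linear_combination this
  have eA : ∀ t, th t = t → fA β t = t := fun t e => (hA β (xt t e)).symm.trans (ht _)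
  have eB : ∀ u, fB β u = u := fun u => hu _
  have e1 := eA 1 (map_one _)
  have eW : ∀ w, fW β w = fS β 1 * w := fun w => by
    rw [← sub_eq_zero]
    refine tr_nondeg fun u => ?_
    have := rS β u w
    rw [eB, eA _ (th_tr _), e1, div_one] at this
    rw [mul_sub, tr_sub, this, mul_left_comm, tr_smul (th_fS β 1), sub_self]
  have c1 : fS β 1 = 1 := by
    by_contra hc
    refine one_ne_zero (cr_nondeg (v := (1 : K)) fun u => ?_)
    have := rW β u 1
    rw [eW, eB, eB, e1] at this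
    exact (mul_eq_zero.1 (by linear_combination this : (fS β 1 - 1) * cr u 1 = 0)).resolve_left
      (sub_ne_zero.2 hc)
  have hv : ∀ x ∈ Z4 K, (β x).v = x.v := fun x hx => by
    have := rD β (map_one _) x.v
    rwa [one_mul, e1, one_mul, eB, ← hD hx] at this
  have hw : ∀ x ∈ Z3 K, (β x).w = x.w := fun x hx => by rw [hW3 hx, eW, c1, one_mul]
  have hs : ∀ x ∈ Z2 K, (β x).s = x.s := fun x hx => by
    obtain ⟨y, hy⟩ := exists_tr x.hs
    have := rS' β y 1
    rw [eW, c1, eB, mul_one, mul_one, hy] at this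
    rw [hS hx, this, mul_one, hy]
  have hz : ∀ x ∈ Z K, β x = x := fun x hx => by
    refine eq_of_z (inv_Z β hx) hx ?_
    obtain ⟨g, hg, y, hy, rfl⟩ := exists_icj_Z hx
    rw [map_icj, (icj_Z3 _ hy).2, (icj_Z3 _ (inv_Z3 β hy)).2, ht, hg.1, hv g hg, hw y hy]
    simp
  refine exists_pow_eq_one_of_chain (pg K p)
    (fun i => if i = 0 then ⊥ else if i = 1 then Z K else if i = 2 then Z2 K else if i = 3 then Z3 K
      else if i = 4 then Z4 K else ⊤) 5 (fun i hi => ?_) rfl (fun i hi => ?_)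
    ⟨0, fun x hx => by rw [mem_bot.1 hx, map_one]⟩
  · interval_cases i <;> simp [Z_le_Z2, Z2_le_Z3, Z3_le_Z4]
  interval_cases i
  · exact fun x hx => by rw [hz x hx, inv_mul_cancel]; exact one_mem _
  · refine fun x hx => ?_
    have := mul_mem (inv_mem (show x ∈ Z2 K from hx)) (inv_Z2 β hx)
    exact ⟨this.1, this.2.1, this.2.2.1, this.2.2.2, by simp [hs x hx, hx.2.1]⟩
  · refine fun x hx => ?_
    have := mul_mem (inv_mem (show x ∈ Z3 K from hx)) (inv_Z3 β hx)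
    exact ⟨this.1, this.2.1, this.2.2, by simp [hw x hx, hx.2.1]⟩
  · refine fun x hx => ?_
    have := mul_mem (inv_mem (show x ∈ Z4 K from hx)) (inv_Z4 β hx)
    exact ⟨this.1, this.2, by simp [hv x hx, hx.2]⟩
  · exact h

end Cfsg.Agent.D4.Nr
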