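import Cfsg.Agent.Lib.Chev.WD4

/-! Commutator relations of the positive root elements of type D4. -/

set_option autoImplicit false
set_option maxRecDepth 100000

namespace Cfsg.Agent.D4

open Cfsg.Lie Cfsg.Agent.Chev

theorem ok4 : tabD4.OK 4 24 := okD4

variable {K : Type} [Field K]

/-- Root elements. -/
noncomputable abbrev X (r : ℕ) (t : K) : GL (Fin 4 ⊕ Fin 24) K := xN ok4 r t

theorem com {a b : ℕ}
    (h : (([(a, 0, 2), (b, 0, 3)] ++ [(b, 0, 3), (a, 0, 2)] : List (ℕ × ℕ × ℕ)).all
      (fun q => Nat.ble (q.1 + 1) 24) && eqW (4 + 24) 0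
      ([(a, 0, 2), (b, 0, 3)].map fun q : ℕ × ℕ × ℕ => tabD4.xl 4 24 q.1 q.2.1 1 q.2.2)
      ([(b, 0, 3), (a, 0, 2)].map fun q : ℕ × ℕ × ℕ => tabD4.xl 4 24 q.1 q.2.1 1 q.2.2)) = true)
    (t u : K) (g) : X a t * (X b u * g) = X b u * (X a t * g) := by
  rw [← mul_assoc, xN_comm ok4 (P := 0) Nat.cast_zero h t u, mul_assoc]

theorem rel {r s v e : ℕ}
    (h : (([(r, 0, 2), (s, 0, 3)] ++ [(s, 0, 3), (r, 0, 2), (v, e, 6)] : List (ℕ × ℕ × ℕ)).all
      (fun q => Nat.ble (q.1 + 1) 24) && eqW (4 + 24) 0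
      ([(r, 0, 2), (s, 0, 3)].map fun q : ℕ × ℕ × ℕ => tabD4.xl 4 24 q.1 q.2.1 1 q.2.2)
      ([(s, 0, 3), (r, 0, 2), (v, e, 6)].map
        fun q : ℕ × ℕ × ℕ => tabD4.xl 4 24 q.1 q.2.1 1 q.2.2)) = true)
    (t u : K) (g) : X r t * (X s u * g) = X s u * (X r t * (X v ((-1) ^ e * (t * u)) * g)) := by
  obtain ⟨φ, h2, h3, -⟩ := exists_φ t u 0 0 0
  have h6 : φ 6 = t * u := by rw [show 6 = 2 * 3 from rfl, map_mul, h2, h3]
  have := wprod_eq ok4 (P := 0) Nat.cast_zero φ h
  simp only [List.map_cons, List.map_nil, wprod_cons, wprod_nil, pow_zero, one_mul, mul_one, h2,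
    h3, h6] at this
  rw [← mul_assoc, this]
  simp only [mul_assoc]

theorem r19_14 (t u : K) (g) : X 19 t * (X 14 u * g) = X 14 u * (X 19 t * g) :=
  com (by decide +kernel) t u g

theorem r16_14 (t u : K) (g) : X 16 t * (X 14 u * g) = X 14 u * (X 16 t * g) :=
  com (by decide +kernel) t u g

theorem r16_19 (t u : K) (g) : X 16 t * (X 19 u * g) = X 19 u * (X 16 t * g) :=
  com (by decide +kernel) t u g

theorem r15_14 (t u : K) (g) : X 15 t * (X 14 u * g) = X 14 u * (X 15 t * g) :=
  com (by decide +kernel) t u g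

theorem r15_19 (t u : K) (g) : X 15 t * (X 19 u * g) = X 19 u * (X 15 t * g) :=
  com (by decide +kernel) t u g

theorem r15_16 (t u : K) (g) : X 15 t * (X 16 u * g) = X 16 u * (X 15 t * g) :=
  com (by decide +kernel) t u g

theorem r17_14 (t u : K) (g) : X 17 t * (X 14 u * g) = X 14 u * (X 17 t * g) :=
  com (by decide +kernel) t u g

theorem r17_19 (t u : K) (g) : X 17 t * (X 19 u * g) = X 19 u * (X 17 t * (X 23 (t * u) * g)) :=
  by simpa using rel (r := 17) (s := 19) (v := 23) (e := 0) (by decide +kernel) t u g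

theorem r17_16 (t u : K) (g) : X 17 t * (X 16 u * g) = X 16 u * (X 17 t * g) :=
  com (by decide +kernel) t u g

theorem r17_15 (t u : K) (g) : X 17 t * (X 15 u * g) = X 15 u * (X 17 t * g) :=
  com (by decide +kernel) t u g

theorem r20_14 (t u : K) (g) : X 20 t * (X 14 u * g) = X 14 u * (X 20 t * g) :=
  com (by decide +kernel) t u g

theorem r20_19 (t u : K) (g) : X 20 t * (X 19 u * g) = X 19 u * (X 20 t * g) :=
  com (by decide +kernel) t u g

theorem r20_16 (t u : K) (g) : X 20 t * (X 16 u * g) = X 16 u * (X 20 t * (X 23 (t * u) * g)) :=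
  by simpa using rel (r := 20) (s := 16) (v := 23) (e := 0) (by decide +kernel) t u g

theorem r20_15 (t u : K) (g) : X 20 t * (X 15 u * g) = X 15 u * (X 20 t * g) :=
  com (by decide +kernel) t u g

theorem r20_17 (t u : K) (g) : X 20 t * (X 17 u * g) = X 17 u * (X 20 t * g) :=
  com (by decide +kernel) t u g

theorem r21_14 (t u : K) (g) : X 21 t * (X 14 u * g) = X 14 u * (X 21 t * g) :=
  com (by decide +kernel) t u g

theorem r21_19 (t u : K) (g) : X 21 t * (X 19 u * g) = X 19 u * (X 21 t * g) :=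
  com (by decide +kernel) t u g

theorem r21_16 (t u : K) (g) : X 21 t * (X 16 u * g) = X 16 u * (X 21 t * g) :=
  com (by decide +kernel) t u g

theorem r21_15 (t u : K) (g) : X 21 t * (X 15 u * g) = X 15 u * (X 21 t * (X 23 (t * u) * g)) :=
  by simpa using rel (r := 21) (s := 15) (v := 23) (e := 0) (by decide +kernel) t u g

theorem r21_17 (t u : K) (g) : X 21 t * (X 17 u * g) = X 17 u * (X 21 t * g) :=
  com (by decide +kernel) t u g

theorem r21_20 (t u : K) (g) : X 21 t * (X 20 u * g) = X 20 u * (X 21 t * g) :=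
  com (by decide +kernel) t u g

theorem r22_14 (t u : K) (g) : X 22 t * (X 14 u * g) = X 14 u * (X 22 t * (X 23 (-(t * u)) * g)) :=
  by simpa using rel (r := 22) (s := 14) (v := 23) (e := 1) (by decide +kernel) t u g

theorem r22_19 (t u : K) (g) : X 22 t * (X 19 u * g) = X 19 u * (X 22 t * g) :=
  com (by decide +kernel) t u g

theorem r22_16 (t u : K) (g) : X 22 t * (X 16 u * g) = X 16 u * (X 22 t * g) :=
  com (by decide +kernel) t u g

theorem r22_15 (t u : K) (g) : X 22 t * (X 15 u * g) = X 15 u * (X 22 t * g) :=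
  com (by decide +kernel) t u g

theorem r22_17 (t u : K) (g) : X 22 t * (X 17 u * g) = X 17 u * (X 22 t * g) :=
  com (by decide +kernel) t u g

theorem r22_20 (t u : K) (g) : X 22 t * (X 20 u * g) = X 20 u * (X 22 t * g) :=
  com (by decide +kernel) t u g

theorem r22_21 (t u : K) (g) : X 22 t * (X 21 u * g) = X 21 u * (X 22 t * g) :=
  com (by decide +kernel) t u g

theorem r23_14 (t u : K) (g) : X 23 t * (X 14 u * g) = X 14 u * (X 23 t * g) :=
  com (by decide +kernel) t u g

theorem r23_19 (t u : K) (g) : X 23 t * (X 19 u * g) = X 19 u * (X 23 t * g) :=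
  com (by decide +kernel) t u g

theorem r23_16 (t u : K) (g) : X 23 t * (X 16 u * g) = X 16 u * (X 23 t * g) :=
  com (by decide +kernel) t u g

theorem r23_15 (t u : K) (g) : X 23 t * (X 15 u * g) = X 15 u * (X 23 t * g) :=
  com (by decide +kernel) t u g

theorem r23_17 (t u : K) (g) : X 23 t * (X 17 u * g) = X 17 u * (X 23 t * g) :=
  com (by decide +kernel) t u g

theorem r23_20 (t u : K) (g) : X 23 t * (X 20 u * g) = X 20 u * (X 23 t * g) :=
  com (by decide +kernel) t u g

theorem r23_21 (t u : K) (g) : X 23 t * (X 21 u * g) = X 21 u * (X 23 t * g) :=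
  com (by decide +kernel) t u g

theorem r23_22 (t u : K) (g) : X 23 t * (X 22 u * g) = X 22 u * (X 23 t * g) :=
  com (by decide +kernel) t u g

theorem r18_14 (t u : K) (g) : X 18 t * (X 14 u * g) = X 14 u * (X 18 t * (X 19 (-(t * u)) * g)) :=
  by simpa using rel (r := 18) (s := 14) (v := 19) (e := 1) (by decide +kernel) t u g

theorem r18_19 (t u : K) (g) : X 18 t * (X 19 u * g) = X 19 u * (X 18 t * g) :=
  com (by decide +kernel) t u g

theorem r18_16 (t u : K) (g) : X 18 t * (X 16 u * g) = X 16 u * (X 18 t * (X 21 (-(t * u)) * g)) :=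
  by simpa using rel (r := 18) (s := 16) (v := 21) (e := 1) (by decide +kernel) t u g

theorem r18_15 (t u : K) (g) : X 18 t * (X 15 u * g) = X 15 u * (X 18 t * (X 20 (-(t * u)) * g)) :=
  by simpa using rel (r := 18) (s := 15) (v := 20) (e := 1) (by decide +kernel) t u g

theorem r18_17 (t u : K) (g) : X 18 t * (X 17 u * g) = X 17 u * (X 18 t * (X 22 (-(t * u)) * g)) :=
  by simpa using rel (r := 18) (s := 17) (v := 22) (e := 1) (by decide +kernel) t u g

theorem r18_20 (t u : K) (g) : X 18 t * (X 20 u * g) = X 20 u * (X 18 t * g) :=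
  com (by decide +kernel) t u g

theorem r18_21 (t u : K) (g) : X 18 t * (X 21 u * g) = X 21 u * (X 18 t * g) :=
  com (by decide +kernel) t u g

theorem r18_22 (t u : K) (g) : X 18 t * (X 22 u * g) = X 22 u * (X 18 t * g) :=
  com (by decide +kernel) t u g

theorem r18_23 (t u : K) (g) : X 18 t * (X 23 u * g) = X 23 u * (X 18 t * g) :=
  com (by decide +kernel) t u g

theorem r13_14 (t u : K) (g) : X 13 t * (X 14 u * g) = X 14 u * (X 13 t * (X 16 (t * u) * g)) :=
  by simpa using rel (r := 13) (s := 14) (v := 16) (e := 0) (by decide +kernel) t u g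

theorem r13_19 (t u : K) (g) : X 13 t * (X 19 u * g) = X 19 u * (X 13 t * (X 21 (t * u) * g)) :=
  by simpa using rel (r := 13) (s := 19) (v := 21) (e := 0) (by decide +kernel) t u g

theorem r13_16 (t u : K) (g) : X 13 t * (X 16 u * g) = X 16 u * (X 13 t * g) :=
  com (by decide +kernel) t u g

theorem r13_15 (t u : K) (g) : X 13 t * (X 15 u * g) = X 15 u * (X 13 t * (X 17 (t * u) * g)) :=
  by simpa using rel (r := 13) (s := 15) (v := 17) (e := 0) (by decide +kernel) t u g

theorem r13_17 (t u : K) (g) : X 13 t * (X 17 u * g) = X 17 u * (X 13 t * g) :=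
  com (by decide +kernel) t u g

theorem r13_20 (t u : K) (g) : X 13 t * (X 20 u * g) = X 20 u * (X 13 t * (X 22 (t * u) * g)) :=
  by simpa using rel (r := 13) (s := 20) (v := 22) (e := 0) (by decide +kernel) t u g

theorem r13_21 (t u : K) (g) : X 13 t * (X 21 u * g) = X 21 u * (X 13 t * g) :=
  com (by decide +kernel) t u g

theorem r13_22 (t u : K) (g) : X 13 t * (X 22 u * g) = X 22 u * (X 13 t * g) :=
  com (by decide +kernel) t u g

theorem r13_23 (t u : K) (g) : X 13 t * (X 23 u * g) = X 23 u * (X 13 t * g) :=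
  com (by decide +kernel) t u g

theorem r13_18 (t u : K) (g) : X 13 t * (X 18 u * g) = X 18 u * (X 13 t * g) :=
  com (by decide +kernel) t u g

theorem r12_14 (t u : K) (g) : X 12 t * (X 14 u * g) = X 14 u * (X 12 t * (X 15 (t * u) * g)) :=
  by simpa using rel (r := 12) (s := 14) (v := 15) (e := 0) (by decide +kernel) t u g

theorem r12_19 (t u : K) (g) : X 12 t * (X 19 u * g) = X 19 u * (X 12 t * (X 20 (t * u) * g)) :=
  by simpa using rel (r := 12) (s := 19) (v := 20) (e := 0) (by decide +kernel) t u g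

theorem r12_16 (t u : K) (g) : X 12 t * (X 16 u * g) = X 16 u * (X 12 t * (X 17 (t * u) * g)) :=
  by simpa using rel (r := 12) (s := 16) (v := 17) (e := 0) (by decide +kernel) t u g

theorem r12_15 (t u : K) (g) : X 12 t * (X 15 u * g) = X 15 u * (X 12 t * g) :=
  com (by decide +kernel) t u g

theorem r12_17 (t u : K) (g) : X 12 t * (X 17 u * g) = X 17 u * (X 12 t * g) :=
  com (by decide +kernel) t u g

theorem r12_20 (t u : K) (g) : X 12 t * (X 20 u * g) = X 20 u * (X 12 t * g) :=
  com (by decide +kernel) t u g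

theorem r12_21 (t u : K) (g) : X 12 t * (X 21 u * g) = X 21 u * (X 12 t * (X 22 (t * u) * g)) :=
  by simpa using rel (r := 12) (s := 21) (v := 22) (e := 0) (by decide +kernel) t u g

theorem r12_22 (t u : K) (g) : X 12 t * (X 22 u * g) = X 22 u * (X 12 t * g) :=
  com (by decide +kernel) t u g

theorem r12_23 (t u : K) (g) : X 12 t * (X 23 u * g) = X 23 u * (X 12 t * g) :=
  com (by decide +kernel) t u g

theorem r12_18 (t u : K) (g) : X 12 t * (X 18 u * g) = X 18 u * (X 12 t * g) :=
  com (by decide +kernel) t u g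

theorem r12_13 (t u : K) (g) : X 12 t * (X 13 u * g) = X 13 u * (X 12 t * g) :=
  com (by decide +kernel) t u g

variable [Finite K]

theorem xadd (r : ℕ) (t u : K) (g) : X r t * (X r u * g) = X r (t + u) * g := by
  rw [← mul_assoc, ← xN_add]

omit [Finite K] in
theorem xcongr {r : ℕ} {t u : K} {g h} (h1 : t = u) (h2 : g = h) : X r t * g = X r u * h := by
  rw [h1, h2]

end Cfsg.Agent.D4
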