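import Cfsg.Agent.Lib.D4.Weyl

/-! Diagonal, field and graph automorphisms acting on the normal form. -/

set_option autoImplicit false
set_option maxRecDepth 100000
set_option linter.unusedSimpArgs false

namespace Cfsg.Agent.D4

open Cfsg.Lie Cfsg.Agent.Chev Sum

variable {K : Type} [Field K]

/-- Diagonal entries. -/
noncomputable def ce (n : GL (Fin 4 ⊕ Fin 24) K) (r : ℕ) : K :=
  if h : r < 24 then (n : Matrix (Fin 4 ⊕ Fin 24) (Fin 4 ⊕ Fin 24) K) (inr ⟨r, h⟩) (inr ⟨r, h⟩) else 1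

/-- Field maps. -/
noncomputable abbrev gmap (σ : K →+* K) : GL (Fin 4 ⊕ Fin 24) K →* GL (Fin 4 ⊕ Fin 24) K :=
  Matrix.GeneralLinearGroup.map σ

theorem gmap_X (σ : K →+* K) (r : ℕ) (t : K) : gmap σ (X r t) = X r (σ t) := by
  unfold X xN
  split_ifs with h
  · ext1
    exact cmat_map σ true _ t
  · exact map_one _

theorem gmap_F (σ : K →+* K) (t u0 u1 u2 v0 v1 v2 w0 w1 w2 s z : K) :
    gmap σ (F t u0 u1 u2 v0 v1 v2 w0 w1 w2 s z) =
      F (σ t) (σ u0) (σ u1) (σ u2) (σ v0) (σ v1) (σ v2) (σ w0) (σ w1) (σ w2) (σ s) (σ z) := by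
  simp only [F, map_mul, gmap_X, map_neg, map_one]

variable [Finite K]

theorem mono_X {n : GL (Fin 4 ⊕ Fin 24) K} (h : (n, 1) ∈ (SD K).Mono) (r : ℕ) (t : K) (g) :
    n * (X r t * g) = X r (ce n r * t) * (n * g) := by
  unfold X xN ce
  split_ifs with hr
  · rw [← mul_assoc, ← mul_assoc]
    congr 1
    exact h.2.2 ⟨r, hr⟩ t
  · simp

theorem ce_ne {n : GL (Fin 4 ⊕ Fin 24) K} (h : (n, 1) ∈ (SD K).Mono) (r : ℕ) : ce n r ≠ 0 := by
  unfold ce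
  split_ifs with hr
  · exact Sys.Mono.c_ne h ⟨r, hr⟩
  · exact one_ne_zero

theorem X_inj {r : ℕ} (hr : r < 24) {t u : K} (h : X r t = X r u) : t = u := by
  rw [X, X, xN_eq ok4 hr, xN_eq ok4 hr] at h
  exact Sys.x_par_inj _ h

theorem ce_mul {n : GL (Fin 4 ⊕ Fin 24) K} (h : (n, 1) ∈ (SD K).Mono) {r s v : ℕ} {e : K}
    (_ : r < 24) (_ : s < 24) (hv : v < 24) (he : e ≠ 0)
    (H : ∀ (t u : K) g, X r t * (X s u * g) = X s u * (X r t * (X v (e * (t * u)) * g))) :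
    ce n v = ce n r * ce n s := by
  have h1 := congrArg (n * ·) (H 1 1 1)
  simp only [mono_X h] at h1
  rw [H] at h1
  have h2 := X_inj hv (mul_right_cancel (mul_left_cancel (mul_left_cancel h1)))
  exact mul_left_cancel₀ he (by linear_combination -h2)

theorem mono_F {n : GL (Fin 4 ⊕ Fin 24) K} (h : (n, 1) ∈ (SD K).Mono) {m l0 l1 l2 : K}
    (h14 : ce n 14 = m) (h18 : ce n 18 = l0) (h13 : ce n 13 = l1) (h12 : ce n 12 = l2)
    (t u0 u1 u2 v0 v1 v2 w0 w1 w2 s z : K) (g) :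
    n * (F t u0 u1 u2 v0 v1 v2 w0 w1 w2 s z * g) =
      F (m * t) (l0 * u0) (l1 * u1) (l2 * u2) (l0 * m * v0) (l1 * m * v1) (l2 * m * v2)
        (l1 * l2 * m * w0) (l2 * l0 * m * w1) (l0 * l1 * m * w2) (l0 * l1 * l2 * m * s)
        (l0 * l1 * l2 * m ^ 2 * z) * (n * g) := by
  have h19 := ce_mul h (r := 18) (s := 14) (v := 19) (e := -1) (by decide) (by decide) (by decide)
    (by simp) (fun t u g => by simpa using r18_14 t u g)
  have h16 := ce_mul h (r := 13) (s := 14) (v := 16) (e := 1) (by decide) (by decide) (by decide)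
    (by simp) (fun t u g => by simpa using r13_14 t u g)
  have h15 := ce_mul h (r := 12) (s := 14) (v := 15) (e := 1) (by decide) (by decide) (by decide)
    (by simp) (fun t u g => by simpa using r12_14 t u g)
  have h17 := ce_mul h (r := 12) (s := 16) (v := 17) (e := 1) (by decide) (by decide) (by decide)
    (by simp) (fun t u g => by simpa using r12_16 t u g)
  have h20 := ce_mul h (r := 12) (s := 19) (v := 20) (e := 1) (by decide) (by decide) (by decide)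
    (by simp) (fun t u g => by simpa using r12_19 t u g)
  have h21 := ce_mul h (r := 13) (s := 19) (v := 21) (e := 1) (by decide) (by decide) (by decide)
    (by simp) (fun t u g => by simpa using r13_19 t u g)
  have h22 := ce_mul h (r := 18) (s := 17) (v := 22) (e := -1) (by decide) (by decide) (by decide)
    (by simp) (fun t u g => by simpa using r18_17 t u g)
  have h23 := ce_mul h (r := 22) (s := 14) (v := 23) (e := -1) (by decide) (by decide) (by decide)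
    (by simp) (fun t u g => by simpa using r22_14 t u g)
  simp only [F, mul_assoc, one_mul, mono_X h, h23, h22, h21, h20, h17, h15, h16, h19, h14, h18,
    h13, h12]
  iterate 12 refine xcongr (by ring) ?_
  rfl

/-- The adjoint torus. -/
noncomputable def Dg (m l0 l1 l2 : Kˣ) : GL (Fin 4 ⊕ Fin 24) K :=
  (SD K).tor 0 l0 l0.ne_zero * (SD K).tor 1 m m.ne_zero * (SD K).tor 2 l1 l1.ne_zero *
    (SD K).tor 3 l2 l2.ne_zero

theorem Dg_mono (m l0 l1 l2 : Kˣ) : (Dg m l0 l1 l2, 1) ∈ (SD K).Mono := by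
  have := mul_mem (mul_mem (mul_mem ((SD K).tor_mono 0 l0 l0.ne_zero)
    ((SD K).tor_mono 1 m m.ne_zero)) ((SD K).tor_mono 2 l1 l1.ne_zero))
    ((SD K).tor_mono 3 l2 l2.ne_zero)
  simpa [Dg] using this

omit [Finite K] in
theorem ce_Dg (m l0 l1 l2 : Kˣ) {r : ℕ} (hr : r < 24) : ce (Dg m l0 l1 l2) r =
    (l0 : K) ^ rtD ⟨r, hr⟩ 0 * (m : K) ^ rtD ⟨r, hr⟩ 1 * (l1 : K) ^ rtD ⟨r, hr⟩ 2 *
      (l2 : K) ^ rtD ⟨r, hr⟩ 3 := by
  simp only [ce, dif_pos hr, Dg, Sys.tor, Units.val_mul, Matrix.diagonal_mul_diagonal,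
    Matrix.diagonal_apply_eq, RD.wt_inr, rt_eq]

theorem twok4 : twD4.cTw tabD4 4 24 = true := twokD4

omit [Finite K] in
theorem hP0 : ((twD4.P : ℕ) : K) = 0 := Nat.cast_zero

/-- The twisting data. -/
noncomputable abbrev T0 (θ : K →+* K) : Tw0 (SD K) := TwTab.mkTw0 ok4 twok4 θ hP0

theorem F_Γ (θ : K →+* K) (t u0 u1 u2 v0 v1 v2 w0 w1 w2 s z : K) :
    (F t u0 u1 u2 v0 v1 v2 w0 w1 w2 s z,
      F (θ t) (θ u2) (θ u0) (θ u1) (θ v2) (θ v0) (θ v1) (θ w2) (θ w0) (θ w1) (θ s) (θ z)) ∈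
      (T0 θ).Γ := by
  have h := (T0 θ).gmul (xN_Γ ok4 twok4 θ hP0 (r := 14) (r' := 14) (s := 0) (m := 1)
      (by decide +kernel) t) <|
    (T0 θ).gmul (xN_Γ ok4 twok4 θ hP0 (r := 19) (r' := 16) (s := 1) (m := 1)
      (by decide +kernel) (-v0)) <|
    (T0 θ).gmul (xN_Γ ok4 twok4 θ hP0 (r := 16) (r' := 15) (s := 0) (m := 1)
      (by decide +kernel) v1) <|
    (T0 θ).gmul (xN_Γ ok4 twok4 θ hP0 (r := 15) (r' := 19) (s := 1) (m := 1)
      (by decide +kernel) v2) <|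
    (T0 θ).gmul (xN_Γ ok4 twok4 θ hP0 (r := 17) (r' := 20) (s := 1) (m := 1)
      (by decide +kernel) w0) <|
    (T0 θ).gmul (xN_Γ ok4 twok4 θ hP0 (r := 20) (r' := 21) (s := 0) (m := 1)
      (by decide +kernel) (-w1)) <|
    (T0 θ).gmul (xN_Γ ok4 twok4 θ hP0 (r := 21) (r' := 17) (s := 1) (m := 1)
      (by decide +kernel) (-w2)) <|
    (T0 θ).gmul (xN_Γ ok4 twok4 θ hP0 (r := 22) (r' := 22) (s := 0) (m := 1)
      (by decide +kernel) (-s)) <|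
    (T0 θ).gmul (xN_Γ ok4 twok4 θ hP0 (r := 23) (r' := 23) (s := 0) (m := 1)
      (by decide +kernel) (-z)) <|
    (T0 θ).gmul (xN_Γ ok4 twok4 θ hP0 (r := 18) (r' := 13) (s := 0) (m := 1)
      (by decide +kernel) u0) <|
    (T0 θ).gmul (xN_Γ ok4 twok4 θ hP0 (r := 13) (r' := 12) (s := 0) (m := 1)
      (by decide +kernel) u1) <|
    (T0 θ).gmul (xN_Γ ok4 twok4 θ hP0 (r := 12) (r' := 18) (s := 0) (m := 1)
      (by decide +kernel) u2) <|
    (one_mem (T0 θ).Γ)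
  refine (congrArg (fun y => (_, y) ∈ (T0 θ).Γ) ?_).mpr h
  simp only [F, mul_assoc, one_mul, map_neg, pow_one, pow_zero, neg_mul, neg_neg, r19_14,
    r16_14, r16_19, r15_14, r15_19, r15_16, r17_14, r17_19, r17_16, r17_15, r20_14, r20_19,
    r20_16, r20_15, r20_17, r21_14, r21_19, r21_16, r21_15, r21_17, r21_20, r22_14, r22_19,
    r22_16, r22_15, r22_17, r22_20, r22_21, r23_14, r23_19, r23_16, r23_15, r23_17, r23_20,
    r23_21, r23_22, r18_14, r18_19, r18_16, r18_15, r18_17, r18_20, r18_21, r18_22, r18_23,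
    r13_14, r13_19, r13_16, r13_15, r13_17, r13_20, r13_21, r13_22, r13_23, r13_18, r12_14,
    r12_19, r12_16, r12_15, r12_17, r12_20, r12_21, r12_22, r12_23, r12_18, r12_13]

theorem exists_F {g : GL (Fin 4 ⊕ Fin 24) K} (hg : g ∈ (SD K).U ((SD K).PJ Set.univ)) :
    ∃ t u0 u1 u2 v0 v1 v2 w0 w1 w2 s z, g = F t u0 u1 u2 v0 v1 v2 w0 w1 w2 s z := by
  let Q : Subgroup (GL (Fin 4 ⊕ Fin 24) K) := subOfFin
    { carrier := {g | ∃ t u0 u1 u2 v0 v1 v2 w0 w1 w2 s z, g = F t u0 u1 u2 v0 v1 v2 w0 w1 w2 s z}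
      one_mem' := ⟨0, 0, 0, 0, 0, 0, 0, 0, 0, 0, 0, 0, by simp [F, xN_zero]⟩
      mul_mem' := by
        rintro _ _ ⟨_, _, _, _, _, _, _, _, _, _, _, _, rfl⟩ ⟨_, _, _, _, _, _, _, _, _, _, _, _, rfl⟩
        exact ⟨_, _, _, _, _, _, _, _, _, _, _, _, F_mul ..⟩ }
  have : (SD K).U ((SD K).PJ Set.univ) ≤ Q := Sys.U_le fun r hr t => by
    have h1 : 0 ≤ (SD K).rt r := hr.1
    rw [rt_eq] at h1
    have h2 : 12 ≤ r.val := (by decide : ∀ r : Fin 24, (∀ j, 0 ≤ rtD r j) → 12 ≤ r.val) r h1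
    obtain ⟨r, hr'⟩ := r
    rw [← xN_eq ok4 hr']
    simp only at h2
    interval_cases r
    · exact ⟨0, 0, 0, t, 0, 0, 0, 0, 0, 0, 0, 0, by simp [F, xN_zero]⟩
    · exact ⟨0, 0, t, 0, 0, 0, 0, 0, 0, 0, 0, 0, by simp [F, xN_zero]⟩
    · exact ⟨t, 0, 0, 0, 0, 0, 0, 0, 0, 0, 0, 0, by simp [F, xN_zero]⟩
    · exact ⟨0, 0, 0, 0, 0, 0, t, 0, 0, 0, 0, 0, by simp [F, xN_zero]⟩
    · exact ⟨0, 0, 0, 0, 0, t, 0, 0, 0, 0, 0, 0, by simp [F, xN_zero]⟩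
    · exact ⟨0, 0, 0, 0, 0, 0, 0, t, 0, 0, 0, 0, by simp [F, xN_zero]⟩
    · exact ⟨0, t, 0, 0, 0, 0, 0, 0, 0, 0, 0, 0, by simp [F, xN_zero]⟩
    · exact ⟨0, 0, 0, 0, (-t), 0, 0, 0, 0, 0, 0, 0, by simp [F, xN_zero]⟩
    · exact ⟨0, 0, 0, 0, 0, 0, 0, 0, (-t), 0, 0, 0, by simp [F, xN_zero]⟩
    · exact ⟨0, 0, 0, 0, 0, 0, 0, 0, 0, (-t), 0, 0, by simp [F, xN_zero]⟩
    · exact ⟨0, 0, 0, 0, 0, 0, 0, 0, 0, 0, (-t), 0, by simp [F, xN_zero]⟩
    · exact ⟨0, 0, 0, 0, 0, 0, 0, 0, 0, 0, 0, (-t), by simp [F, xN_zero]⟩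
  exact this hg

theorem F_mem (t u0 u1 u2 v0 v1 v2 w0 w1 w2 s z : K) :
    F t u0 u1 u2 v0 v1 v2 w0 w1 w2 s z ∈ (SD K).U ((SD K).PJ Set.univ) := by
  have h : ∀ r, 12 ≤ r → r < 24 → ∀ t : K, X r t ∈ (SD K).U ((SD K).PJ Set.univ) := by
    intro r h1 h2 t
    rw [X, xN_eq ok4 h2]
    refine Sys.x_mem_U (A := (SD K).PJ Set.univ) ⟨?_, fun _ h => absurd trivial h⟩ t
    change 0 ≤ (SD K).rt _
    rw [rt_eq]
    exact (by decide : ∀ r : Fin 24, 12 ≤ r.val → ∀ j, 0 ≤ rtD r j) ⟨r, h2⟩ h1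
  unfold F
  iterate 12 refine mul_mem (h _ (by decide) (by decide) _) ?_
  exact one_mem _

end Cfsg.Agent.D4
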