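import Cfsg.Agent.Lib.D4.Tor

/-! The twisted group as a `Tw` structure (adapted from Lib/Chev/TwW, WD4). -/

set_option autoImplicit false
set_option maxRecDepth 100000

namespace Cfsg.Agent.D4

open Cfsg.Lie Cfsg.Agent.Chev TwTab Sys

section
variable {T : Tab} {K : Type} [Field K] [Finite K]

theorem exists_tw {D : ChevalleyDatum} (ok : T.OK D.rank D.nroots)
    (hl : T.cLink D D.rank D.nroots = true) {V : TwTab} (h : V.cTw T D.rank D.nroots = true)
    (θ : K →+* K) (hP : (V.P : K) = 0) {rk : ℕ → ℕ}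
    (hc : T.cConn D.rank D.nroots V.cid rk = true) (Ws : Set (List (ℕ × K)))
    (hfix : ∀ w ∈ Ws, (wprod ok w, wprod ok w) ∈ (mkTw0 ok h θ hP).Γ)
    (hlev : ∀ w ∈ Ws, ∃ k < D.rank, (w.map Prod.fst).all (V.inB T D.rank k) = true)
    (g : ℕ → ℕ) (Ks : List (ℕ × List ℕ × List ℕ))
    (hK : ((allN D.rank fun i => Ks.any fun k => Nat.beq (V.cid i) (V.cid k.1)) &&
      Ks.all fun k => V.cStep T D.rank D.nroots k.1 g k.2.1 k.2.2) = true)
    (hA : ∀ k ∈ Ks, ∀ β ∈ k.2.1, ∀ c, ∃ w : List (ℕ × K), (w.map Prod.fst).all (fun r =>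
      posB T D.rank r && V.inB T D.rank k.1 r &&
        Nat.ble (fB T D.rank g β + 1) (fB T D.rank g r)) = true ∧
      ∃ w' ∈ Ws, wprod ok ((β, c) :: w) = wprod ok w')
    (hC : ∀ k ∈ Ks, ∀ β ∈ k.2.2, ∀ c, (-1) ^ V.sg β * θ c ^ V.mm β = c → [(β, c)] ∈ Ws)
    (hcrd : ∀ i < D.rank, ∃ w ∈ Ws, (w.map Prod.fst).all (fun r =>
      posB T D.rank r && V.inB T D.rank i r) = true ∧
      (w.map fun p => if p.1 = T.siN i then p.2 else 0).sum ≠ 0)
    (hV : ∀ k ∈ Ks, ∃ r c w, (r, c) :: w ∈ Ws ∧ c ≠ 0 ∧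
      ((r :: w.map Prod.fst).all (fun r => !(posB T D.rank r) && V.inB T D.rank k.1 r) &&
        (Nat.ble (r + 1) D.nroots && Nat.ble (fB T D.rank g r) (sumN D.rank fun j => g j * 8) &&
      (w.map Prod.fst).all fun s => Nat.ble (fB T D.rank g s + 1) (fB T D.rank g r))) = true) :
    ∃ W : Tw (Tab.mkSys ok K), W.toTw0 = mkTw0 ok h θ hP ∧ W.H = D.genSubgroup K Ws := by
  rw [gen_eq ok hl]
  have hmem : ∀ w ∈ Ws, wprod ok w ∈ Subgroup.closure (wprod ok '' Ws) := fun w hw =>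
    Subgroup.subset_closure ⟨w, hw, rfl⟩
  have hH : ∀ y ∈ Subgroup.closure (wprod ok '' Ws), (y, y) ∈ (mkTw0 ok h θ hP).Γ := by
    have : Subgroup.closure (wprod ok '' Ws) ≤ (mkTw0 ok h θ hP).Γ.comap
        ((MonoidHom.id _).prod (MonoidHom.id _)) :=
      (Subgroup.closure_le _).2 (by rintro _ ⟨w, hw, rfl⟩; exact hfix w hw)
    exact fun y hy => this hy
  simp only [Bool.and_eq_true, allN_iff, List.any_eq_true, List.all_eq_true, beq_t] at hK
  obtain ⟨hK1, hK2⟩ := hK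
  refine ⟨
    { toTw0 := mkTw0 ok h θ hP
      H := Subgroup.closure (wprod ok '' Ws)
      H_le := fun Q hQ => (Subgroup.closure_le _).2 ?_
      U_fix := fun i u hu hf => ?_
      crd := fun i => ?_
      V_ne := fun i => ?_
      conn := fun J h1 h2 h3 => Tab.conn_sound ok hc J h1 h2 h3 }, rfl, rfl⟩
  · rintro _ ⟨w, hw, rfl⟩
    obtain ⟨k, hk, h1⟩ := hlev w hw
    exact hQ _ (hmem w hw) (hfix w hw) ⟨k, hk⟩
      (wprod_mem ok (fun r hr t => xN_mem_G ok hr t) h1)
  · obtain ⟨k, hk, e⟩ := hK1 i i.2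
    change u ∈ (Tab.mkSys ok K).U ((Tab.mkSys ok K).PJ {j | V.cid j = V.cid i}) at hu
    rw [e] at hu
    refine U_fix_tab ok h θ hP _ hH (hK2 k hk) (fun β hβ c => ?_) (fun β hβ c hc => ?_) hu hf
    · obtain ⟨w, h1, w', hw', h2⟩ := hA k hk β hβ c
      refine ⟨wprod ok w, wprod_mem ok (fun r hr t => xN_mem_AJ ok hr t) h1, ?_⟩
      rw [wprod_cons, xN_eq ok β.2] at h2
      rw [h2]
      exact hmem w' hw'
    · have := hmem _ (hC k hk β hβ c hc)
      rwa [wprod_cons, wprod_nil, mul_one, xN_eq ok β.2] at this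
  · obtain ⟨w, hw, h1, h2⟩ := hcrd i i.2
    exact ⟨_, wprod_mem ok (fun r hr t => xN_mem_UP ok hr t) h1, hmem w hw,
      by rwa [crd_wprod ok h1]⟩
  · obtain ⟨k, hk, e⟩ := hK1 i i.2
    obtain ⟨r, c, w, hw, hc, h1⟩ := hV k hk
    rw [Bool.and_eq_true] at h1
    refine ⟨_, ?_, hmem _ hw, wprod_ne_one ok h1.2 hc⟩
    change _ ∈ (Tab.mkSys ok K).U {r | ¬ (Tab.mkSys ok K).Pos r ∧
      (Tab.mkSys ok K).In {j | V.cid j = V.cid i} r}
    rw [e]
    exact wprod_mem ok (fun r hr t => xN_mem_UN ok hr t) h1.1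

end

variable {K : Type} [Field K] [Finite K]

theorem exists_tw3 {q : ℕ} (θ : K →+* K) (hθ : ∀ x, θ x = x ^ q) (h3 : ∀ x, θ (θ (θ x)) = x) :
    ∃ W : Tw (SD K), W.toTw0 = T0 θ ∧ W.H = twistedD4 K q := by
  have hP : ((twD4.P : ℕ) : K) = 0 := Nat.cast_zero
  have hθ2 : ∀ x, θ (θ x) = x ^ q ^ 2 := fun x => by rw [hθ, hθ, ← pow_mul, sq]
  have hs : ∀ r ∈ [14, 9], ∀ t : K, θ t = t → [(r, t)] ∈ d4Words K q :=
    fun r hr t ht => Or.inl ⟨t, (hθ t).symm.trans ht, r, hr, rfl⟩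
  have hp : ∀ rs ∈ [(18, 13, 12), (5, 10, 11)], ∀ t : K,
      [(rs.1, t), (rs.2.1, θ t), (rs.2.2, θ (θ t))] ∈ d4Words K q :=
    fun r hr t => Or.inr ⟨t, r, hr, by rw [hθ2, hθ]⟩
  have f1 : ∀ r, (Nat.ble (r + 1) 24 && Nat.beq (twD4.rho r) r && Nat.beq (twD4.sg r) 0 &&
      Nat.beq (twD4.mm r) 1) = true → ∀ t : K, θ t = t →
      (wprod okD4 [(r, t)], wprod okD4 [(r, t)]) ∈ (mkTw0 okD4 twokD4 θ hP).Γ := by
    intro r hr t ht
    have := xN_Γ okD4 twokD4 θ hP hr t
    simpa [wprod_cons, wprod_nil, ht] using this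
  have f2 : ∀ a b c, (Nat.ble (a + 1) 24 && Nat.beq (twD4.rho a) b && Nat.beq (twD4.sg a) 0 &&
      Nat.beq (twD4.mm a) 1) = true → (Nat.ble (b + 1) 24 && Nat.beq (twD4.rho b) c &&
      Nat.beq (twD4.sg b) 0 && Nat.beq (twD4.mm b) 1) = true →
      (Nat.ble (c + 1) 24 && Nat.beq (twD4.rho c) a &&
      Nat.beq (twD4.sg c) 0 && Nat.beq (twD4.mm c) 1) = true →
      (∀ t u : K, xN okD4 a t * xN okD4 b u = xN okD4 b u * xN okD4 a t) →
      (∀ t u : K, xN okD4 a t * xN okD4 c u = xN okD4 c u * xN okD4 a t) → ∀ t : K,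
      (wprod okD4 [(a, t), (b, θ t), (c, θ (θ t))], wprod okD4 [(a, t), (b, θ t), (c, θ (θ t))]) ∈
        (mkTw0 okD4 twokD4 θ hP).Γ := by
    intro a b c ha hb hc h1 h2 t
    have := (mkTw0 okD4 twokD4 θ hP).gmul (xN_Γ okD4 twokD4 θ hP ha t)
      ((mkTw0 okD4 twokD4 θ hP).gmul (xN_Γ okD4 twokD4 θ hP hb (θ t))
        (xN_Γ okD4 twokD4 θ hP hc (θ (θ t))))
    simp only [pow_zero, pow_one, one_mul, h3] at this
    rw [← h2, ← mul_assoc (xN okD4 b (θ t)), ← h1, mul_assoc] at this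
    simpa [wprod_cons, wprod_nil] using this
  refine exists_tw okD4 linkD4 twokD4 θ hP twconnD4 (d4Words K q) ?_ ?_ (fld 0x2311 4)
    [(0, [18], []), (1, [], [14])] (by decide +kernel) ?_ ?_ ?_ ?_
  · rintro _ (⟨t, ht, r, hr, rfl⟩ | ⟨t, rs, hr, rfl⟩)
    · rw [← hθ] at ht
      simp only [List.mem_cons, List.not_mem_nil, or_false] at hr
      rcases hr with rfl | rfl <;> exact f1 _ (by decide +kernel) t ht
    · rw [← hθ2, ← hθ]
      simp only [List.mem_cons, List.not_mem_nil, or_false] at hr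
      rcases hr with rfl | rfl <;> exact f2 _ _ _ (by decide +kernel) (by decide +kernel)
        (by decide +kernel) (xN_comm okD4 (P := 0) Nat.cast_zero (by decide +kernel))
        (xN_comm okD4 (P := 0) Nat.cast_zero (by decide +kernel)) t
  · rintro _ (⟨t, ht, r, hr, rfl⟩ | ⟨t, rs, hr, rfl⟩)
    · simp only [List.mem_cons, List.not_mem_nil, or_false] at hr
      simp only [List.map_cons, List.map_nil]
      rcases hr with rfl | rfl <;> decide +kernel
    · simp only [List.mem_cons, List.not_mem_nil, or_false] at hr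
      simp only [List.map_cons, List.map_nil]
      rcases hr with rfl | rfl <;> decide +kernel
  · intro k hk β hβ c
    simp only [List.mem_cons, List.not_mem_nil, or_false] at hk
    rcases hk with rfl | rfl <;>
      simp only [List.mem_cons, List.not_mem_nil, or_false] at hβ <;> subst hβ
    exact ⟨[(13, θ c), (12, θ (θ c))], by simp only [List.map_cons, List.map_nil]; decide +kernel,
        _, hp (18, 13, 12) (by simp) c, rfl⟩
  · intro k hk β hβ c hc
    simp only [List.mem_cons, List.not_mem_nil, or_false] at hk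
    rcases hk with rfl | rfl <;>
      simp only [List.mem_cons, List.not_mem_nil, or_false] at hβ <;> subst hβ
    rw [show twD4.sg 14 = 0 by decide +kernel, show twD4.mm 14 = 1 by decide +kernel] at hc
    exact hs 14 (by simp) c (by simpa using hc)
  · intro i hi
    change i < 4 at hi
    interval_cases i
    · exact ⟨_, hp (18, 13, 12) (by simp) 1,
        by simp only [List.map_cons, List.map_nil]; decide +kernel,
        by rw [show tabD4.siN 0 = 18 by decide +kernel]; simp⟩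
    · exact ⟨_, hs 14 (by simp) 1 (map_one θ),
        by simp only [List.map_cons, List.map_nil]; decide +kernel,
        by rw [show tabD4.siN 1 = 14 by decide +kernel]; simp⟩
    · exact ⟨_, hp (18, 13, 12) (by simp) 1,
        by simp only [List.map_cons, List.map_nil]; decide +kernel,
        by rw [show tabD4.siN 2 = 13 by decide +kernel]; simp⟩
    · exact ⟨_, hp (18, 13, 12) (by simp) 1,
        by simp only [List.map_cons, List.map_nil]; decide +kernel,
        by rw [show tabD4.siN 3 = 12 by decide +kernel]; simp⟩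
  · intro k hk
    simp only [List.mem_cons, List.not_mem_nil, or_false] at hk
    rcases hk with rfl | rfl
    · exact ⟨_, _, _, hp (5, 10, 11) (by simp) 1, one_ne_zero,
        by simp only [List.map_cons, List.map_nil]; decide +kernel⟩
    · exact ⟨_, _, _, hs 9 (by simp) 1 (map_one θ), one_ne_zero,
        by simp only [List.map_cons, List.map_nil]; decide +kernel⟩

end Cfsg.Agent.D4
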