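import Cfsg.Agent.Lib.D4.Basic

/-!
The module `V = Q / Z`, and the trivial intersection property (docs/D4_PLAN.md, row TI).
-/

set_option autoImplicit false

namespace Cfsg.Agent.D4

open Cfsg.Agent.Fus Subgroup Equiv

variable {K : Type} [Field K] [Fintype K] [Tf K]

instance : SMul (kf K) (V K) :=
  ⟨fun c x => ⟨c * x.t, c * x.v, c * x.w, c * x.s, by simp, by simp⟩⟩

namespace V

@[simp] theorem smul_t (c : kf K) (x : V K) : (c • x).t = c * x.t := rfl
@[simp] theorem smul_v (c : kf K) (x : V K) : (c • x).v = c * x.v := rfl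
@[simp] theorem smul_w (c : kf K) (x : V K) : (c • x).w = c * x.w := rfl
@[simp] theorem smul_s (c : kf K) (x : V K) : (c • x).s = c * x.s := rfl
@[simp] theorem sub_t (x y : V K) : (x - y).t = x.t - y.t := by simp [sub_eq_add_neg]
@[simp] theorem sub_v (x y : V K) : (x - y).v = x.v - y.v := by simp [sub_eq_add_neg]
@[simp] theorem sub_w (x y : V K) : (x - y).w = x.w - y.w := by simp [sub_eq_add_neg]
@[simp] theorem sub_s (x y : V K) : (x - y).s = x.s - y.s := by simp [sub_eq_add_neg]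

end V

/-- The vector `(0, 0, 0, s)`. -/
def ev (s : kf K) : V K := ⟨0, 0, 0, s, by simp, by simp⟩

/-- The vector `(t, 0, 0, 0)`. -/
def fv (t : kf K) : V K := ⟨t, 0, 0, 0, by simp, by simp⟩

/-- The vector `(0, v, w, 0)`. -/
def mv (v w : K) : V K := ⟨0, v, w, 0, by simp, by simp⟩

@[simp] theorem ev_t (s : kf K) : (ev s).t = 0 := rfl
@[simp] theorem ev_v (s : kf K) : (ev s).v = 0 := rfl
@[simp] theorem ev_w (s : kf K) : (ev s).w = 0 := rfl
@[simp] theorem ev_s (s : kf K) : (ev s).s = s := rfl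
@[simp] theorem fv_t (s : kf K) : (fv s).t = s := rfl
@[simp] theorem fv_v (s : kf K) : (fv s).v = 0 := rfl
@[simp] theorem fv_w (s : kf K) : (fv s).w = 0 := rfl
@[simp] theorem fv_s (s : kf K) : (fv s).s = 0 := rfl
@[simp] theorem mv_t (v w : K) : (mv v w).t = 0 := rfl
@[simp] theorem mv_v (v w : K) : (mv v w).v = v := rfl
@[simp] theorem mv_w (v w : K) : (mv v w).w = w := rfl
@[simp] theorem mv_s (v w : K) : (mv v w).s = 0 := rfl
@[simp] theorem xx_t (u : K) (x : V K) : (xx u x).t = x.t := rfl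
@[simp] theorem xx_v (u : K) (x : V K) : (xx u x).v = x.v + x.t * u := rfl
@[simp] theorem xx_w (u : K) (x : V K) : (xx u x).w = x.w + cr u x.v + x.t * sh u := rfl
@[simp] theorem xx_s (u : K) (x : V K) :
    (xx u x).s = x.s + tr (u * x.w) + tr (sh u * x.v) + x.t * nm u := rfl
@[simp] theorem dv_t (l : Kˣ) (m : ku K) (σ : K ≃+* K) (x : V K) :
    (dv l m σ x).t = (m : Kˣ) * σ x.t := rfl
@[simp] theorem dv_v (l : Kˣ) (m : ku K) (σ : K ≃+* K) (x : V K) :
    (dv l m σ x).v = l * (m : Kˣ) * σ x.v := rfl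
@[simp] theorem dv_w (l : Kˣ) (m : ku K) (σ : K ≃+* K) (x : V K) :
    (dv l m σ x).w = sh (l : K) * (m : Kˣ) * σ x.w := rfl
@[simp] theorem dv_s (l : Kˣ) (m : ku K) (σ : K ≃+* K) (x : V K) :
    (dv l m σ x).s = nm (l : K) * (m : Kˣ) * σ x.s := rfl

theorem inL_ev (s : kf K) : InL (ev s) := ⟨rfl, rfl, rfl⟩

theorem InL.eq_ev {x : V K} (h : InL x) : x = ev ⟨x.s, x.hs⟩ := V.ext h.1 h.2.1 h.2.2 rfl

theorem InL.s_ne {x : V K} (h : InL x) (h0 : x ≠ 0) : x.s ≠ 0 := fun e =>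
  h0 (V.ext h.1 h.2.1 h.2.2 e)

theorem ev_one_ne : ev (1 : kf K) ≠ 0 := fun h => by simpa using congrArg V.s h

@[simp] theorem xx_zero (x : V K) : xx 0 x = x := by ext <;> simp

theorem xx_xx (u u' : K) (x : V K) : xx u (xx u' x) = xx (u + u') x := by
  ext <;> simp only [xx_t, xx_v, xx_w, xx_s, tr, sh, nm, cr, map_add, map_mul, th3, V.ht] <;> ring

theorem xx_add (u : K) (x y : V K) : xx u (x + y) = xx u x + xx u y := by
  ext <;> simp only [xx_t, xx_v, xx_w, xx_s, V.add_t, V.add_v, V.add_w, V.add_s, tr, sh, nm, cr,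
    map_add, map_mul] <;> ring

theorem xx_L (u : K) {x : V K} (h : InL x) : xx u x = x := by
  ext <;> simp [h.1, h.2.1, h.2.2]

theorem dv_xx (l : Kˣ) (m : ku K) (σ : K ≃+* K) (u : K) (x : V K) :
    dv l m σ (xx u x) = xx (l * σ u) (dv l m σ x) := by
  ext <;> simp only [xx_t, xx_v, xx_w, xx_s, dv_t, dv_v, dv_w, dv_s, tr, sh, nm, cr, map_add,
    map_mul, map_th, th3, th_ku] <;> ring

/-- `xx u` as a permutation. -/
def xp (u : K) : Perm (V K) :=
  ⟨xx u, xx (-u), fun x => by simp [xx_xx], fun x => by simp [xx_xx]⟩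

@[simp] theorem xp_apply (u : K) (x : V K) : xp u x = xx u x := rfl

theorem xp_mul (u u' : K) : xp u * xp u' = xp (u + u') := Perm.ext fun x => xx_xx u u' x

theorem xp_zero : xp (0 : K) = 1 := Perm.ext fun x => xx_zero x

theorem xp_pow (u : K) (n : ℕ) : xp u ^ n = xp (n * u) := by
  induction n with
  | zero => simp [xp_zero]
  | succ n ih => rw [pow_succ, ih, xp_mul]; congr 1; push_cast; ring

@[simp] theorem th_bf (x y : V K) : th (bf x y) = bf x y := by simp [bf]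

theorem bf_xx (u : K) (x y : V K) : bf (xx u x) (xx u y) = bf x y := by
  simp only [bf, xx_t, xx_v, xx_w, xx_s, tr, sh, nm, cr, map_add, map_mul, th3, V.ht]; ring

theorem bf_dv (l : Kˣ) (m : ku K) (σ : K ≃+* K) (x y : V K) :
    bf (dv l m σ x) (dv l m σ y) = nm (l : K) * (m : Kˣ) ^ 2 * σ (bf x y) := by
  simp only [bf, dv_t, dv_v, dv_w, dv_s, tr, sh, nm, map_add, map_sub, map_mul, map_th, th3, th_ku]
  ring

theorem bf_smul_left (c : kf K) (x y : V K) : bf (c • x) y = c * bf x y := by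
  simp only [bf, V.smul_t, V.smul_v, V.smul_w, V.smul_s, tr, map_mul, th_kf]; ring

theorem bf_neg_left (x y : V K) : bf (-x) y = -bf x y := by
  simp only [bf, V.neg_t, V.neg_v, V.neg_w, V.neg_s, tr, map_mul, map_neg]; ring

theorem bf_comm (x y : V K) : bf x y = -bf y x := by simp only [bf]; ring

@[simp] theorem bf_zero_left (x : V K) : bf 0 x = 0 := by simp [bf]

theorem bf_L {e : V K} (h : InL e) (x : V K) : bf e x = -(x.t * e.s) := by
  simp [bf, h.1, h.2.1, h.2.2]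

theorem eq_of_bf {x y : V K} (h : ∀ z, bf x z = bf y z) : x = y := by
  refine V.ext ?_ (sub_eq_zero.1 (eq_zero_of_tr fun r => ?_))
    (sub_eq_zero.1 (eq_zero_of_tr fun r => ?_)) ?_
  · simpa [bf] using h (ev 1)
  · have := h (mv 0 r)
    simp only [bf, mv_t, mv_v, mv_w, mv_s, zero_mul, mul_zero, tr_zero] at this
    rw [sub_mul, tr_sub]; linear_combination -this
  · have := h (mv r 0)
    simp only [bf, mv_t, mv_v, mv_w, mv_s, zero_mul, mul_zero, tr_zero] at this
    rw [mul_comm, mul_sub, tr_sub]; linear_combination this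
  · simpa [bf] using h (fv 1)

theorem inL_of_perp {y : V K} (h : ∀ m : V K, m.t = 0 → bf y m = 0) : InL y := by
  refine ⟨?_, eq_zero_of_tr fun r => ?_, eq_zero_of_tr fun r => ?_⟩
  · simpa [bf] using h (ev 1) rfl
  · simpa [bf] using h (mv 0 r) rfl
  · simpa [bf, mul_comm] using h (mv r 0) rfl

/-- The fixed points of `xx u` (singular ones in characteristic two). -/
theorem fix_iff {u : K} (hu : u ≠ 0) {m : V K} : (xx u m = m ∧ ((2 : K) = 0 → qf m = 0)) ↔
    m.t = 0 ∧ m.v = 0 ∧ tr (u * m.w) = 0 := by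
  refine ⟨fun ⟨h, hq⟩ => ?_, fun ⟨h₁, h₂, h₃⟩ => ⟨by ext <;> simp [h₁, h₂, h₃], fun _ => by
    simp [qf, h₁, h₂]⟩⟩
  have ht : m.t = 0 := by simpa [hu] using congrArg V.v h
  obtain ⟨c, hc, h2, hv⟩ := of_cr_eq_zero hu (v := m.v) (by simpa [ht] using congrArg V.w h)
  have hs : tr (u * m.w) + 3 * (c * nm u) = 0 := by
    have := congrArg V.s h
    simp only [xx_s, ht, zero_mul, add_zero, hv] at this
    rw [mul_left_comm, tr_smul hc, mul_comm (sh u), tr_mul_sh] at this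
    linear_combination this
  have hc0 : c = 0 := by
    by_cases h2' : (2 : K) = 0
    · have := hq h2'
      rw [qf, ht, hv, mul_assoc, tr_smul hc] at this
      have : c * c * nm u = 0 := by linear_combination c * hs - this - c * c * nm u * h2'
      simpa [nm_ne_zero hu] using this
    · exact (mul_eq_zero.1 h2).resolve_left h2'
  exact ⟨ht, by simp [hv, hc0], by simpa [hc0] using hs⟩

/-- The hypotheses on the automizer acting on `V`. -/
structure Hyp (p : ℕ) (A T : Subgroup (Perm (V K))) : Prop where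
  syl : IsSylowIn p T A
  memT : ∀ α, α ∈ T ↔ ∃ u, ∀ x, α x = xx u x
  add : ∀ α ∈ A, ∀ x y, α (x + y) = α x + α y
  hb : ∀ α ∈ A, ∀ x y x' y', bf x y = bf x' y' → bf (α x) (α y) = bf (α x') (α y')
  hq : (2 : K) = 0 → ∀ α ∈ A, ∀ x, qf x = 0 → qf (α x) = 0
  nrm : ∀ α ∈ A, StabL α → ∀ u, ∃ u', ∀ x, α (xx u x) = xx u' (α x)

namespace Hyp

variable {p : ℕ} {A T : Subgroup (Perm (V K))} (h : Hyp p A T) {α : Perm (V K)}
include h

theorem xp_mem (u : K) : xp u ∈ A := h.syl.le ((h.memT _).2 ⟨u, fun _ => rfl⟩)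

theorem map_zero (hα : α ∈ A) : α 0 = 0 := by simpa using h.add α hα 0 0

theorem map_neg (hα : α ∈ A) (x : V K) : α (-x) = -α x :=
  eq_neg_of_add_eq_zero_left (by rw [← h.add α hα, neg_add_cancel, h.map_zero hα])

theorem map_sub (hα : α ∈ A) (x y : V K) : α (x - y) = α x - α y := by
  rw [sub_eq_add_neg, h.add α hα, h.map_neg hα, sub_eq_add_neg]

theorem ne_zero (hα : α ∈ A) {x : V K} (hx : x ≠ 0) : α x ≠ 0 := fun e =>
  hx (α.injective (e.trans (h.map_zero hα).symm))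

theorem perp (hα : α ∈ A) {x y : V K} (e : bf x y = 0) : bf (α x) (α y) = 0 := by
  rw [h.hb α hα x y 0 0 (by simp [e]), h.map_zero hα, bf_zero_left]

theorem perp' (hα : α ∈ A) {x y : V K} (e : bf (α x) y = 0) : bf x (α⁻¹ y) = 0 := by
  simpa using h.perp (inv_mem hα) e

theorem perp'' (hα : α ∈ A) {x y : V K} (e : bf x (α⁻¹ y) = 0) : bf (α x) y = 0 := by
  simpa using h.perp hα e

theorem stab_of (hα : α ∈ A) {e : V K} (he : InL e) (h0 : e ≠ 0) (he' : InL (α e)) :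
    StabL α := fun x hx => inL_of_perp fun m hm => h.perp'' hα <| by
  have := h.perp' hα (show bf (α e) m = 0 by rw [bf_L he', hm]; simp)
  rw [bf_L he] at this
  rw [bf_L hx, show (α⁻¹ m).t = 0 by simpa [he.s_ne h0] using this]; simp

theorem stab_inv (hα : α ∈ A) (hs : StabL α) : StabL α⁻¹ :=
  h.stab_of (inv_mem hα) (hs _ (inL_ev 1)) (h.ne_zero hα ev_one_ne) (by simpa using inL_ev 1)

/-- Images of the line `ℓ` are stable under scalars. -/
theorem smul_L (hα : α ∈ A) {e : V K} (he : InL e) (c : kf K) : InL (α⁻¹ (c • α e)) := by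
  rcases eq_or_ne e 0 with rfl | h0
  · have : c • (0 : V K) = 0 := by ext <;> simp
    rw [h.map_zero hα, this, h.map_zero (inv_mem hα)]
    exact ⟨rfl, rfl, rfl⟩
  refine inL_of_perp fun m hm => ?_
  refine h.perp'' (inv_mem hα) ?_
  rw [bf_smul_left, inv_inv, h.perp hα (by rw [bf_L he, hm]; simp), mul_zero]

theorem fix_map (hα : α ∈ A) {u u' : K} (hu : u ≠ 0) (hu' : u' ≠ 0)
    (e : ∀ x, α (xx u x) = xx u' (α x)) {m : V K} (hm : m.t = 0 ∧ m.v = 0 ∧ tr (u * m.w) = 0) :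
    (α m).t = 0 ∧ (α m).v = 0 ∧ tr (u' * (α m).w) = 0 := by
  rw [← fix_iff hu] at hm
  exact (fix_iff hu').1 ⟨by rw [← e, hm.1], fun h2 => h.hq h2 α hα _ (hm.2 h2)⟩

variable [CharP K p]

/-- A conjugate of `xx u` stabilising `ℓ` lies in `T`. -/
theorem conj_mem (hα : α ∈ A) {u : K} (hs : StabL (α⁻¹ * xp u * α)) :
    ∃ u', ∀ x, α (xx u' x) = xx u (α x) := by
  have hm : α⁻¹ * xp u * α ∈ A := mul_mem (mul_mem (inv_mem hα) (h.xp_mem u)) hα
  have hp : (α⁻¹ * xp u * α) ^ p ^ 1 = 1 := by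
    have := conj_pow (a := α⁻¹) (b := xp u) (i := p)
    rw [inv_inv] at this
    rw [pow_one, this, xp_pow]
    simp [xp_zero]
  have : α⁻¹ * xp u * α ∈ T := h.syl.le_of_le_normalizer (zpowers_le.2 hm)
    (isPGroup_zpowers_of_pow hp) (zpowers_le.2 (mem_normalizer_fintype fun t ht => by
      obtain ⟨a, ea⟩ := (h.memT t).1 ht
      obtain ⟨b, eb⟩ := h.nrm _ hm hs a
      exact (h.memT _).2 ⟨b, fun x => by
        rw [Perm.mul_apply, Perm.mul_apply, ea, eb, Perm.coe_inv, apply_symm_apply]⟩)) (mem_zpowers _)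
  obtain ⟨u', e⟩ := (h.memT _).1 this
  exact ⟨u', fun x => by rw [← e]; simp⟩

/-- Trivial intersection. -/
theorem ti (hα : α ∈ A) {u u' : K} (hu : u ≠ 0) (e : ∀ x, α (xx u x) = xx u' (α x)) :
    StabL α := by
  by_contra hs
  have hu' : u' ≠ 0 := by
    rintro rfl
    have := congrArg V.v (α.injective ((e (fv 1)).trans (xx_zero _)))
    simp [hu] at this
  have he := h.fix_map hα hu hu' e (m := ev 1) ⟨rfl, rfl, by simp⟩
  obtain ⟨y, hy, hy'⟩ := exists_perp_not (α (ev 1)).w u'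
  obtain ⟨u₃, e₃⟩ := h.conj_mem hα (u := y) (h.stab_of (mul_mem (mul_mem (inv_mem hα)
    (h.xp_mem y)) hα) (inL_ev 1) ev_one_ne (by
      have : xx y (α (ev 1)) = α (ev 1) := by ext <;> simp [he.1, he.2.1, mul_comm y, hy]
      simpa [this] using inL_ev 1))
  obtain ⟨w, hw, hw'⟩ := exists_tr_two hu' hy' (c := 0) (d := 1) (by simp) (by simp)
  have hc := h.fix_map (inv_mem hα) hu' hu (fun x => α.injective (by simp [e]))
    (m := mv 0 w) ⟨rfl, rfl, hw⟩
  set c := α⁻¹ (mv 0 w)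
  have e₄ : α (xx u₃ c - c) = ev 1 := by
    rw [h.map_sub hα, e₃]
    ext <;> simp [c, hw']
  refine hs (h.stab_of hα (e := xx u₃ c - c) ⟨by simp, by simp [hc.1], by simp [hc.1, hc.2.1]⟩
    (fun h0 => ev_one_ne (K := K) (by rw [← e₄, h0, h.map_zero hα])) (e₄ ▸ inL_ev 1))

/-- A nontrivial `xx u` fixes no nonzero vector on another line of the orbit. -/
theorem ti' (hα : α ∈ A) {e : V K} (he : InL e) (h0 : e ≠ 0) {u : K} (hu : u ≠ 0)
    (hf : xx u (α e) = α e) : StabL α := by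
  obtain ⟨u', e'⟩ := h.conj_mem hα (u := u) (h.stab_of (mul_mem (mul_mem (inv_mem hα)
    (h.xp_mem u)) hα) he h0 (by simpa [hf] using he))
  refine h.ti hα (fun h0 => ?_) e'
  have := congrArg V.v (e' (α⁻¹ (fv 1)))
  simp [h0, hu.symm] at this

theorem stab_of_M (hα : α ∈ A) {e : V K} (he : InL e) (h0 : e ≠ 0) (h₁ : (α e).t = 0)
    (h₂ : (α e).v = 0) : StabL α := by
  obtain ⟨y, hy, hy'⟩ := exists_perp (α e).w
  exact h.ti' hα he h0 hy (by ext <;> simp [h₁, h₂, mul_comm y, hy'])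

end Hyp

end Cfsg.Agent.D4
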