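import Cfsg.Agent.Lib.D4.Inj

/-! Weyl elements acting on the normal form. -/

set_option autoImplicit false
set_option maxRecDepth 100000
set_option linter.unusedSimpArgs false

namespace Cfsg.Agent.D4

open Cfsg.Lie Cfsg.Agent.Chev

variable {K : Type} [Field K]

theorem xzero [Finite K] (r : ℕ) (g) : X r (0 : K) * g = g := by rw [X, xN_zero, one_mul]

/-- A Weyl element. -/
noncomputable def nb : GL (Fin 4 ⊕ Fin 24) K :=
  X 14 1 * (X 9 (-1) * (X 14 1))

theorem nb_conj {r v e : ℕ}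
    (h : ((([(14, 0, 1), (9, 1, 1), (14, 0, 1)] ++ [(r, 0, 2)]) ++
      ([(v, e, 2)] ++ [(14, 0, 1), (9, 1, 1), (14, 0, 1)]) : List (ℕ × ℕ × ℕ)).all
      (fun q => Nat.ble (q.1 + 1) 24) && eqW (4 + 24) 0
      (([(14, 0, 1), (9, 1, 1), (14, 0, 1)] ++ [(r, 0, 2)]).map
        fun q : ℕ × ℕ × ℕ => tabD4.xl 4 24 q.1 q.2.1 1 q.2.2)
      (([(v, e, 2)] ++ [(14, 0, 1), (9, 1, 1), (14, 0, 1)]).map
        fun q : ℕ × ℕ × ℕ => tabD4.xl 4 24 q.1 q.2.1 1 q.2.2)) = true)
    (t : K) (g) : nb * (X r t * g) = X v ((-1) ^ e * t) * (nb * g) := by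
  obtain ⟨φ, h2, -⟩ := exists_φ t 0 0 0 0
  have := wprod_eq ok4 (P := 0) Nat.cast_zero φ h
  simp only [List.map_cons, List.map_nil, wprod_cons, wprod_nil, pow_zero, one_mul, mul_one, h2,
    map_one, List.cons_append, List.nil_append, pow_one] at this
  rw [← mul_assoc, ← mul_assoc]
  congr 1
  simpa only [nb, mul_assoc] using this

theorem nb19 (t : K) (g) : nb * (X 19 t * g) = X 18 (-t) * (nb * g) := by
  simpa using nb_conj (r := 19) (v := 18) (e := 1) (by decide +kernel) t g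

theorem nb16 (t : K) (g) : nb * (X 16 t * g) = X 13 t * (nb * g) := by
  simpa using nb_conj (r := 16) (v := 13) (e := 0) (by decide +kernel) t g

theorem nb15 (t : K) (g) : nb * (X 15 t * g) = X 12 t * (nb * g) := by
  simpa using nb_conj (r := 15) (v := 12) (e := 0) (by decide +kernel) t g

theorem nb17 (t : K) (g) : nb * (X 17 t * g) = X 17 t * (nb * g) := by
  simpa using nb_conj (r := 17) (v := 17) (e := 0) (by decide +kernel) t g

theorem nb20 (t : K) (g) : nb * (X 20 t * g) = X 20 t * (nb * g) := by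
  simpa using nb_conj (r := 20) (v := 20) (e := 0) (by decide +kernel) t g

theorem nb21 (t : K) (g) : nb * (X 21 t * g) = X 21 t * (nb * g) := by
  simpa using nb_conj (r := 21) (v := 21) (e := 0) (by decide +kernel) t g

theorem nb22 (t : K) (g) : nb * (X 22 t * g) = X 23 t * (nb * g) := by
  simpa using nb_conj (r := 22) (v := 23) (e := 0) (by decide +kernel) t g

theorem nb23 (t : K) (g) : nb * (X 23 t * g) = X 22 (-t) * (nb * g) := by
  simpa using nb_conj (r := 23) (v := 22) (e := 1) (by decide +kernel) t g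

theorem nb18 (t : K) (g) : nb * (X 18 t * g) = X 19 t * (nb * g) := by
  simpa using nb_conj (r := 18) (v := 19) (e := 0) (by decide +kernel) t g

theorem nb13 (t : K) (g) : nb * (X 13 t * g) = X 16 (-t) * (nb * g) := by
  simpa using nb_conj (r := 13) (v := 16) (e := 1) (by decide +kernel) t g

theorem nb12 (t : K) (g) : nb * (X 12 t * g) = X 15 (-t) * (nb * g) := by
  simpa using nb_conj (r := 12) (v := 15) (e := 1) (by decide +kernel) t g

theorem nb_F [Finite K] (u0 u1 u2 v0 v1 v2 w0 w1 w2 s z : K) (g) :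
    nb * (F 0 u0 u1 u2 v0 v1 v2 w0 w1 w2 s z * g) =
      F 0 (v0) (v1) (v2) (-u0) (-u1) (-u2) (w0 - u1 * v2 - u2 * v1) (w1 - u0 * v2 - u2 * v0)
        (w2 - u0 * v1 - u1 * v0) (-z + v0 * w0 + v1 * w1 + v2 * w2 - u0 * v1 * v2 - u1
        * v0 * v2 - u2 * v0 * v1) (s - u0 * w0 - u1 * w1 - u2 * w2 + u0 * u1 * v2 + u0
        * u2 * v1 + u1 * u2 * v0) * (nb * g) := by
  simp only [F, mul_assoc, one_mul, xzero, xadd, nb19, nb16, nb15, nb17, nb20, nb21, nb22, nb23,
    nb18, nb13, nb12, r19_14, r16_14, r16_19, r15_14, r15_19, r15_16, r17_14, r17_19, r17_16,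
    r17_15, r20_14, r20_19, r20_16, r20_15, r20_17, r21_14, r21_19, r21_16, r21_15, r21_17,
    r21_20, r22_14, r22_19, r22_16, r22_15, r22_17, r22_20, r22_21, r23_14, r23_19, r23_16,
    r23_15, r23_17, r23_20, r23_21, r23_22, r18_14, r18_19, r18_16, r18_15, r18_17, r18_20,
    r18_21, r18_22, r18_23, r13_14, r13_19, r13_16, r13_15, r13_17, r13_20, r13_21, r13_22,
    r13_23, r13_18, r12_14, r12_19, r12_16, r12_15, r12_17, r12_20, r12_21, r12_22, r12_23,
    r12_18, r12_13]
  iterate 11 refine xcongr (by ring) ?_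
  rfl

/-- A Weyl element. -/
noncomputable def na : GL (Fin 4 ⊕ Fin 24) K :=
  X 18 1 * (X 13 1 * (X 12 1 * (X 5 (-1) * (X 10 (-1) * (X 11 (-1) * (X 18 1 * (X 13 1 * (X 12
    1))))))))

theorem na_conj {r v e : ℕ}
    (h : ((([(18, 0, 1), (13, 0, 1), (12, 0, 1), (5, 1, 1), (10, 1, 1), (11, 1, 1), (18, 0, 1), (13, 0, 1), (12, 0, 1)] ++ [(r, 0, 2)]) ++
      ([(v, e, 2)] ++ [(18, 0, 1), (13, 0, 1), (12, 0, 1), (5, 1, 1), (10, 1, 1), (11, 1, 1), (18, 0, 1), (13, 0, 1), (12, 0, 1)]) : List (ℕ × ℕ × ℕ)).all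
      (fun q => Nat.ble (q.1 + 1) 24) && eqW (4 + 24) 0
      (([(18, 0, 1), (13, 0, 1), (12, 0, 1), (5, 1, 1), (10, 1, 1), (11, 1, 1), (18, 0, 1), (13, 0, 1), (12, 0, 1)] ++ [(r, 0, 2)]).map
        fun q : ℕ × ℕ × ℕ => tabD4.xl 4 24 q.1 q.2.1 1 q.2.2)
      (([(v, e, 2)] ++ [(18, 0, 1), (13, 0, 1), (12, 0, 1), (5, 1, 1), (10, 1, 1), (11, 1, 1), (18, 0, 1), (13, 0, 1), (12, 0, 1)]).map
        fun q : ℕ × ℕ × ℕ => tabD4.xl 4 24 q.1 q.2.1 1 q.2.2)) = true)
    (t : K) (g) : na * (X r t * g) = X v ((-1) ^ e * t) * (na * g) := by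
  obtain ⟨φ, h2, -⟩ := exists_φ t 0 0 0 0
  have := wprod_eq ok4 (P := 0) Nat.cast_zero φ h
  simp only [List.map_cons, List.map_nil, wprod_cons, wprod_nil, pow_zero, one_mul, mul_one, h2,
    map_one, List.cons_append, List.nil_append, pow_one] at this
  rw [← mul_assoc, ← mul_assoc]
  congr 1
  simpa only [na, mul_assoc] using this

theorem na14 (t : K) (g) : na * (X 14 t * g) = X 22 (-t) * (na * g) := by
  simpa using na_conj (r := 14) (v := 22) (e := 1) (by decide +kernel) t g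

theorem na19 (t : K) (g) : na * (X 19 t * g) = X 17 t * (na * g) := by
  simpa using na_conj (r := 19) (v := 17) (e := 0) (by decide +kernel) t g

theorem na16 (t : K) (g) : na * (X 16 t * g) = X 20 t * (na * g) := by
  simpa using na_conj (r := 16) (v := 20) (e := 0) (by decide +kernel) t g

theorem na15 (t : K) (g) : na * (X 15 t * g) = X 21 t * (na * g) := by
  simpa using na_conj (r := 15) (v := 21) (e := 0) (by decide +kernel) t g

theorem na17 (t : K) (g) : na * (X 17 t * g) = X 19 (-t) * (na * g) := by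
  simpa using na_conj (r := 17) (v := 19) (e := 1) (by decide +kernel) t g

theorem na20 (t : K) (g) : na * (X 20 t * g) = X 16 (-t) * (na * g) := by
  simpa using na_conj (r := 20) (v := 16) (e := 1) (by decide +kernel) t g

theorem na21 (t : K) (g) : na * (X 21 t * g) = X 15 (-t) * (na * g) := by
  simpa using na_conj (r := 21) (v := 15) (e := 1) (by decide +kernel) t g

theorem na22 (t : K) (g) : na * (X 22 t * g) = X 14 t * (na * g) := by
  simpa using na_conj (r := 22) (v := 14) (e := 0) (by decide +kernel) t g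

theorem na23 (t : K) (g) : na * (X 23 t * g) = X 23 t * (na * g) := by
  simpa using na_conj (r := 23) (v := 23) (e := 0) (by decide +kernel) t g

theorem na_F [Finite K] (t v0 v1 v2 w0 w1 w2 s z : K) (g) :
    na * (F t 0 0 0 v0 v1 v2 w0 w1 w2 s z * g) =
      F (-s) 0 0 0 (w0) (w1) (w2) (-v0) (-v1) (-v2) (t) (z + s * t - v0 * w0 - v1 * w1 - v2 *
        w2) * (na * g) := by
  simp only [F, mul_assoc, one_mul, xzero, xadd, na14, na19, na16, na15, na17, na20, na21, na22,
    na23, r19_14, r16_14, r16_19, r15_14, r15_19, r15_16, r17_14, r17_19, r17_16, r17_15,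
    r20_14, r20_19, r20_16, r20_15, r20_17, r21_14, r21_19, r21_16, r21_15, r21_17, r21_20,
    r22_14, r22_19, r22_16, r22_15, r22_17, r22_20, r22_21, r23_14, r23_19, r23_16, r23_15,
    r23_17, r23_20, r23_21, r23_22, r18_14, r18_19, r18_16, r18_15, r18_17, r18_20, r18_21,
    r18_22, r18_23, r13_14, r13_19, r13_16, r13_15, r13_17, r13_20, r13_21, r13_22, r13_23,
    r13_18, r12_14, r12_19, r12_16, r12_15, r12_17, r12_20, r12_21, r12_22, r12_23, r12_18,
    r12_13]
  iterate 9 refine xcongr (by ring) ?_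
  rfl

end Cfsg.Agent.D4
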