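import Cfsg.Agent.Lib.D4.Basic
import Cfsg.Agent.Lib.SP4.SL2
import Cfsg.Agent.Lib.ST.Act
import Cfsg.Agent.Lib.U5.Ess3

/-!
Row Y: `Z₃` is invariant as soon as `Z₂` is.
-/

set_option autoImplicit false

namespace Cfsg.Agent.D4

open Cfsg.Agent.Fus Cfsg.Agent.Fus2 Subgroup

variable {K : Type} [Field K] [Fintype K] [Tf K]

namespace Yr

theorem fld (h2 : (2 : K) ≠ 0) {b y y' : K} (hb : b ≠ 0) (hy : y ≠ 0) (l : K → K)
    (hl : ∀ w, cr b (l w) = w) (h : ∀ α, cr y' (α + l (cr y α)) = cr y α) :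
    th (b / y) = b / y := by
  have b₁ := th_ne_zero hb
  have b₂ := th_ne_zero b₁
  have y₁ := th_ne_zero hy
  have y₂ := th_ne_zero y₁
  obtain ⟨e₀, e₁, e₂⟩ := dedekind
    (a := th y' * (1 / th y + 1 / th b) + th (th y') * (1 / th (th y) + 1 / th (th b)) - 2)
    (b := th y' * (1 / y + 1 / b) - th (th y') * (th y / (th (th y) * y) + th b / (th (th b) * b)))
    (c := th (th y') * (1 / y + 1 / b) - th y' * (th (th y) / (y * th y) + th (th b) / (b * th b)))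
    fun m => by
      have := h ((-(y / sh y) * m + th m / th (th y) + th (th m) / th y) / 2)
      rw [cr_inv h2 hy, show l m = (-(b / sh b) * m + th m / th (th b) + th (th m) / th b) / 2 from
        sub_eq_zero.1 (eq_zero_of_cr h2 hb (by rw [cr_sub_right, hl, cr_inv h2 hb, sub_self]))] at this
      simp only [cr, sh, map_div₀, map_add, map_mul, map_neg, map_ofNat, th3] at this
      linear_combination (exp := 1) 2 * this - (th y' * (-(th (th y) / (y * th y) * th (th m)) +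
        m / th y + th m / y + (-(th (th b) / (b * th b) * th (th m)) + m / th b + th m / b)) +
        th (th y') * (-(th y / (th (th y) * y) * th m) + th (th m) / y + m / th (th y) +
        (-(th b / (th (th b) * b) * th m) + th (th m) / b + m / th (th b)))) * (mul_inv_cancel₀ h2)
  have h' : th y' ≠ 0 := fun h0 => h2 (by rw [h0, map_zero] at e₀; linear_combination -e₀)
  have e₃ := mul_left_cancel₀ h' (show th y' * (1 / y + 1 / b) ^ 2 = th y' *
    ((th y / (th (th y) * y) + th b / (th (th b) * b)) *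
      (th (th y) / (y * th y) + th (th b) / (b * th b))) by
    linear_combination (1 / y + 1 / b) * e₁ + (th y / (th (th y) * y) + th b / (th (th b) * b)) * e₂)
  field_simp at e₃
  have e₄ : y * b * (th y * th (th b) - th (th y) * th b) ^ 2 = 0 := by linear_combination -e₃
  have e₅ := pow_eq_zero_iff two_ne_zero |>.1 ((mul_eq_zero.1 e₄).resolve_left (mul_ne_zero hy hb))
  refine fix_of_th_th ?_
  simp only [map_div₀]
  field_simp
  linear_combination e₅

variable {G : Type*} [Group G]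

/-- A coordinate of the quotient by `Y`. -/
structure Co (A T : Subgroup (MulAut G)) (ι : K → G) (c : G → K) : Prop where
  mul : ∀ x y, c (x * y) = c x + c y
  zero : ∀ a, c (ι a) = 0
  tau : ∀ y, ∃ t ∈ T, ∀ x, t x = x * ι (cr y (c x))
  perp : ∀ β ∈ A, ∀ a b n, β (ι a) = ι n → tr (c (β (ι b)) * n) = 0

/-- The data on `E / Z₂`. -/
structure Dat (p : ℕ) (A T : Subgroup (MulAut G)) (ι : K → G) (u v : G → K) : Prop where
  pg : IsPGroup p G
  syl : IsSylowIn p T A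
  add : ∀ a b, ι (a + b) = ι a * ι b
  inj : ∀ a, ι a = 1 → a = 0
  cen : ∀ x a, x * ι a = ι a * x
  fix : ∀ t ∈ T, ∀ a, t (ι a) = ι a
  cu : Co A T ι u
  cv : Co A T ι v
  mem : ∀ x, u x = 0 → v x = 0 → ∃ a, x = ι a

variable [Finite G] {p : ℕ} [Fact p.Prime] {A T : Subgroup (MulAut G)} {ι : K → G} {u v c : G → K}
  (h : Dat p A T ι u v) {β : MulAut G}
include h

omit [Finite G] [Fact p.Prime] in
theorem Dat.one : ι 0 = 1 := left_eq_mul.1 ((congrArg ι (add_zero 0)).symm.trans (h.add 0 0))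

omit [Finite G] [Fact p.Prime] in
theorem Dat.ext {a b : K} (e : ι a = ι b) : a = b :=
  sub_eq_zero.1 (h.inj _ (mul_right_cancel (b := ι b) (by rw [← h.add, sub_add_cancel, e, one_mul])))

theorem Dat.ti (hc : Co A T ι c) (hβ : β ∈ A) {a b n : K} (hb : c (β (ι b)) ≠ 0)
    (e : β (ι a) = ι n) : a = 0 := by
  obtain ⟨y, hy⟩ := exists_cr_of_perp hb (hc.perp β hβ a b n e)
  obtain ⟨t, ht, et⟩ := hc.tau y
  have := SP4.orb h.pg h.syl hβ (h.syl.le ht) (z := ι b) (n := ι n) (fun t ht => h.fix t ht b)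
    (fun t ht => by rw [← e, MulAut.inv_apply_self, h.fix t ht]) (h.fix t ht n)
    (by rw [et, cr_comm, hy])
  exact h.inj a (β.injective (by rw [e, this, map_one]))

theorem Dat.all (hβ : β ∈ A) {a n : K} (ha : a ≠ 0) (e : β (ι a) = ι n) (b : K) :
    ∃ n', β (ι b) = ι n' :=
  h.mem _ (by_contra fun hb => ha (h.ti h.cu hβ hb e)) (by_contra fun hb => ha (h.ti h.cv hβ hb e))

theorem Dat.ker (hc : Co A T ι c) (hβ : β ∈ A) (hn : ∀ a n, β (ι a) = ι n → a = 0) {b y : K}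
    (hb : b ≠ 0) (e : cr y (c (β (ι b))) = 0) (b' : K) : cr y (c (β (ι b'))) = 0 := by
  obtain ⟨t, ht, et⟩ := hc.tau y
  obtain ⟨n, hn'⟩ := h.all (mul_mem (mul_mem (inv_mem hβ) (h.syl.le ht)) hβ) hb (n := b)
    (by simp [et, e, h.one]) b'
  have e₁ : β (ι (n - b')) = ι (cr y (c (β (ι b')))) := by
    refine mul_left_cancel (a := β (ι b')) ?_
    rw [← map_mul, ← h.add, add_sub_cancel, ← hn', ← et]
    simp
  rw [hn _ _ e₁, h.one, map_one] at e₁
  exact h.inj _ e₁.symm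

theorem Dat.fin (hc : Co A T ι c) (hβ : β ∈ A) (hn : ∀ a n, β (ι a) = ι n → a = 0)
    (hi : ∀ b, c (β (ι b)) = 0 → b = 0) : False := by
  have ad : ∀ a b, c (β (ι (a + b))) = c (β (ι a)) + c (β (ι b)) := fun a b => by
    rw [h.add, map_mul, hc.mul]
  obtain ⟨φ, hφ⟩ : ∃ φ : K → K, ∀ α, c (β (ι (φ α))) = α :=
    (Finite.injective_iff_surjective.1 ((injective_iff_map_eq_zero
      (AddMonoidHom.mk' (fun b => c (β (ι b))) ad)).2 hi)).hasRightInverse
  have φi : ∀ b, φ (c (β (ι b))) = b := fun b => sub_eq_zero.1 (hi _ (by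
    have := ad (φ (c (β (ι b))) - b) b
    rw [sub_add_cancel, hφ] at this
    linear_combination -this))
  by_cases h2 : (2 : K) = 0
  · have := h.ker hc hβ hn one_ne_zero (y := c (β (ι 1))) (by rw [cr_self, h2, zero_mul])
    exact one_ne_zero (hi 1 (eq_zero_of_cr_all fun m => by rw [cr_comm, ← hφ m, this]))
  have B : ∀ γ ∈ A, ∀ b w α, α ≠ 0 → γ (ι b) = β (ι (φ α)) * ι w →
      ∃ y, ∀ b', ∃ α', γ (ι b') = β (ι (φ α')) * ι (cr y α') := fun γ hγ b w α hα e => by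
    obtain ⟨y, hy⟩ := exists_cr h2 hα w
    obtain ⟨t, ht, et⟩ := hc.tau y
    refine ⟨y, fun b' => ?_⟩
    obtain ⟨n, hn⟩ := h.all (mul_mem (inv_mem (mul_mem (h.syl.le ht) hβ)) hγ) (a := b) (n := φ α)
      (fun hb => hα (by
        have := congrArg c e
        rw [hb, h.one, map_one, ← h.one, hc.mul, hφ, hc.zero, hc.zero, add_zero] at this
        exact this.symm))
      (by rw [MulAut.mul_apply, e, MulAut.inv_apply, MulEquiv.symm_apply_eq, MulAut.mul_apply, et,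
        hφ, cr_comm, hy]) b'
    rw [MulAut.mul_apply, MulAut.inv_apply, MulEquiv.symm_apply_eq, MulAut.mul_apply, et] at hn
    exact ⟨_, by rw [φi, hn]⟩
  obtain ⟨c', hc', h₀⟩ : ∃ c', Co A T ι c' ∧ c' (β⁻¹ (ι 1)) ≠ 0 := by
    by_contra hh
    push Not at hh
    obtain ⟨a, ha⟩ := h.mem _ (hh u h.cu) (hh v h.cv)
    have := hn a 1 (by rw [← ha, MulAut.apply_inv_self])
    rw [this, h.one, map_eq_one_iff _ (MulEquiv.injective _)] at ha
    exact one_ne_zero (h.inj _ ha)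
  obtain ⟨r, hr, er⟩ := hc'.tau 1
  let l : K → K := fun w => c (β (ι (cr 1 (c' (β⁻¹ (ι w))))))
  have hρ := mul_mem (mul_mem hβ (h.syl.le hr)) (inv_mem hβ)
  have ρ₁ : ∀ w, (β * r * β⁻¹) (ι w) = β (ι (φ (l w))) * ι w := fun w => by
    rw [MulAut.mul_apply, MulAut.mul_apply, er, map_mul, MulAut.apply_inv_self, φi, h.cen]
  have ρ₂ : ∀ a, (β * r * β⁻¹) (β (ι a)) = β (ι a) := fun a => by simp [h.fix r hr]
  have un : ∀ α w α' w', β (ι (φ α)) * ι w = β (ι (φ α')) * ι w' → α = α' ∧ w = w' :=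
    fun α w α' w' e => by
      have := congrArg c e
      simp only [hc.mul, hφ, hc.zero, add_zero] at this
      exact ⟨this, h.ext (mul_left_cancel (this ▸ e))⟩
  obtain ⟨b, hb⟩ := B _ hρ 1 1 (l 1) (fun e => h₀ (eq_zero_of_cr h2 one_ne_zero (hi _ e))) (ρ₁ 1)
  have hl : ∀ w, cr b (l w) = w := fun w => by
    obtain ⟨α, e⟩ := hb w
    obtain ⟨rfl, e⟩ := un _ _ _ _ ((ρ₁ w).symm.trans e)
    exact e.symm
  have hb0 : b ≠ 0 := fun e => one_ne_zero ((hl 1).symm.trans (by rw [e, cr_zero_left]))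
  obtain ⟨ω, hω⟩ := exists_th_ne K
  have hω0 : ω ≠ 0 := fun e => hω (by rw [e, map_zero])
  obtain ⟨t, ht, et⟩ := hc.tau (b / ω)
  have e₁ : ∀ α, (β * r * β⁻¹ * t * β) (ι (φ α)) =
      β (ι (φ (α + l (cr (b / ω) α)))) * ι (cr (b / ω) α) := fun α => by
    rw [MulAut.mul_apply, MulAut.mul_apply, et, hφ, map_mul, ρ₂, ρ₁, ← mul_assoc, ← map_mul,
      ← h.add, ← φi (φ α + _), ad, hφ, hφ]
  obtain ⟨α, hα⟩ : ∃ α, α + l (cr (b / ω) α) ≠ 0 := by
    by_contra hh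
    push Not at hh
    have : b / ω + b = 0 := eq_zero_of_cr_all fun α => by
      rw [cr_comm, cr_add_left, ← hl (cr (b / ω) α), ← cr_add_right, add_comm, hh, cr_zero_right]
    have : ω = -1 := by field_simp at this; linear_combination this * b⁻¹ - (1 + ω) * mul_inv_cancel₀ hb0
    exact hω (by rw [this, map_neg, map_one])
  obtain ⟨y, hy⟩ := B _ (mul_mem (mul_mem hρ (h.syl.le ht)) hβ) _ _ _ hα (e₁ α)
  have := fld h2 hb0 (div_ne_zero hb0 hω0) l hl (y' := y) fun α => by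
    obtain ⟨α', e⟩ := hy (φ α)
    obtain ⟨rfl, e⟩ := un _ _ _ _ ((e₁ α).symm.trans e)
    exact e.symm
  rw [div_div_cancel₀ hb0] at this
  exact hω this

theorem Dat.main (hβ : β ∈ A) (b : K) : ∃ n, β (ι b) = ι n := by
  by_contra hb
  have hn : ∀ a n, β (ι a) = ι n → a = 0 := fun a n e => by_contra fun ha => hb (h.all hβ ha e b)
  by_cases hu : ∀ b, u (β (ι b)) = 0 → b = 0
  · exact h.fin h.cu hβ hn hu
  push Not at hu
  obtain ⟨a, h₁, h₂⟩ := hu
  refine h.fin h.cv hβ hn fun a' e => ?_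
  obtain ⟨n, e'⟩ := h.mem _ (eq_zero_of_cr_all fun y =>
    h.ker h.cu hβ hn h₂ (by rw [h₁, cr_zero_right]) a') e
  exact hn _ _ e'

end Yr

theorem eq_mod_Z2 {x y : P K} (hx : x ∈ R K) (hy : y ∈ R K) :
    x⁻¹ * y ∈ Z2 K ↔ x.u = y.u ∧ x.v = y.v ∧ x.w = y.w := by
  have hx : x.t = 0 := hx
  have hy : y.t = 0 := hy
  simp only [mem_Z2, P.mul_t, P.mul_u, P.mul_v, P.mul_w, P.inv_t, P.inv_u, P.inv_v, P.inv_w, hx, hy,
    cr_neg_left]
  refine ⟨fun ⟨_, h₁, h₂, h₃⟩ => ?_, fun ⟨h₁, h₂, h₃⟩ => by simp [h₁, h₂, h₃]⟩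
  have e : x.v = y.v := by linear_combination -h₂
  exact ⟨by linear_combination -h₁, e, by rw [e] at h₃; linear_combination -h₃⟩

theorem R_le_normalizer {E : Subgroup (P K)} (h₃ : Z3 K ≤ E) (hR : E ≤ R K) :
    R K ≤ normalizer (E : Set (P K)) := fun g hg => mem_normalizer_of_conj_mem fun e he => by
  simpa using E.mul_mem he (h₃ (icj_R_mem hg (hR he)))

theorem yy : YStmt := by
  intro K _ _ _ p _ _ E h₃ hR H hS hZ β hβ x hx
  have hi : ST.Inva H.subtype ((Z2 K).subgroupOf E) := fun a y hy => by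
    have := hZ a a.2 y hy
    rwa [afn_coe] at this
  let ι : K → E ⧸ (Z2 K).subgroupOf E := fun w => QuotientGroup.mk ⟨xr 0 0 w, h₃ (xr_mem_Z3 w)⟩
  have eq : ∀ a b : E, (a : E ⧸ (Z2 K).subgroupOf E) = b ↔
      a.1.u = b.1.u ∧ a.1.v = b.1.v ∧ a.1.w = b.1.w := fun a b =>
    QuotientGroup.eq.trans (eq_mod_Z2 (hR a.2) (hR b.2))
  obtain ⟨u, hu⟩ : ∃ u : E ⧸ (Z2 K).subgroupOf E → K, ∀ a : E, u a = a.1.u :=
    ⟨fun y => y.out.1.u, fun a => ((eq _ _).1 (QuotientGroup.out_eq' _)).1⟩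
  obtain ⟨v, hv⟩ : ∃ v : E ⧸ (Z2 K).subgroupOf E → K, ∀ a : E, v a = a.1.v :=
    ⟨fun y => y.out.1.v, fun a => ((eq _ _).1 (QuotientGroup.out_eq' _)).2.1⟩
  have t0 : ∀ a : E, a.1.t = 0 := fun a => hR a.2
  have tau : ∀ a b, ∃ t ∈ ((autInducedBy ⊤ E).subgroupOf H).map (ST.quotAut hi),
      ∀ y, t y = y * ι (cr a (v y) - cr b (u y)) := fun a b => by
    have hN := R_le_normalizer h₃ hR (xr_mem_R a b 0)
    have hc := conjAut_mem_autInducedBy (mem_top _) hN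
    refine ⟨_, ⟨⟨_, hS.le hc⟩, hc, rfl⟩, fun y => ?_⟩
    obtain ⟨y, rfl⟩ := QuotientGroup.mk_surjective y
    rw [ST.quotAut_mk, ← QuotientGroup.mk_mul, eq, hu, hv]
    refine ⟨(conj_u _ _).trans ?_, (conj_v _ _).trans ?_, (conj_w _ _).trans ?_⟩ <;>
      simp [xr, t0, cr_comm b, add_sub_assoc]
  have perp : ∀ γ ∈ (⊤ : Subgroup H).map (ST.quotAut hi), ∀ a b n, γ (ι a) = ι n →
      tr (u (γ (ι b)) * n) = 0 ∧ tr (v (γ (ι b)) * n) = 0 := by
    rintro _ ⟨γ, -, rfl⟩ a b n e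
    rw [ST.quotAut_mk, hu, hv]
    have c₁ := U5.E3.afn_comm γ.1 (h₃ (xr_mem_Z3 b)) (h₃ (xr_mem_Z3 a))
      (comm_Z3 (xr_mem_Z3 b) (xr_mem_Z3 a))
    rw [afn_apply _ (h₃ (xr_mem_Z3 b)), afn_apply _ (h₃ (xr_mem_Z3 a))] at c₁
    rw [ST.quotAut_mk, QuotientGroup.eq, mem_subgroupOf] at e
    have c₂ := comm_Z2 e (hR (γ.1 ⟨_, h₃ (xr_mem_Z3 b)⟩).2)
    have c₃ := commute_iff.1 ((Commute.mul_right c₁ c₂.symm).eq)
    simpa [xr, t0, eq_comm] using c₃.2.2
  have D : Yr.Dat p ((⊤ : Subgroup H).map (ST.quotAut hi))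
      (((autInducedBy ⊤ E).subgroupOf H).map (ST.quotAut hi)) ι u v :=
    { pg := ((pg K p).to_subgroup E).to_quotient _
      syl := (isSylowIn_of_not_dvd le_top (hS.isPGroup.comap_of_injective _ (subtype_injective H))
        (by rw [relIndex_top_right]; exact hS.not_dvd_relIndex)).map _
      add := fun a b => by rw [← QuotientGroup.mk_mul, eq]; simp [xr]
      inj := fun a h => ((eq _ 1).1 h).2.2
      cen := fun y a => by
        obtain ⟨y, rfl⟩ := QuotientGroup.mk_surjective y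
        rw [← QuotientGroup.mk_mul, ← QuotientGroup.mk_mul, eq]
        simp [xr, t0, add_comm]
      fix := by
        rintro _ ⟨t, ht, rfl⟩ a
        obtain ⟨g, -, e⟩ := Fus.mem_autInducedBy_iff.1 ht
        rw [ST.quotAut_mk, eq_comm, QuotientGroup.eq, mem_subgroupOf, coe_mul, coe_inv, e]
        exact icj_mem_Z2 g (xr_mem_Z3 a)
      cu := ⟨fun y z => by
          obtain ⟨y, rfl⟩ := QuotientGroup.mk_surjective y
          obtain ⟨z, rfl⟩ := QuotientGroup.mk_surjective z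
          rw [← QuotientGroup.mk_mul, hu, hu, hu]; rfl, fun a => hu _,
        fun y => by simpa [cr_neg_left] using tau 0 (-y), fun γ h a b n e => (perp γ h a b n e).1⟩
      cv := ⟨fun y z => by
          obtain ⟨y, rfl⟩ := QuotientGroup.mk_surjective y
          obtain ⟨z, rfl⟩ := QuotientGroup.mk_surjective z
          rw [← QuotientGroup.mk_mul, hv, hv, hv]; simp [t0], fun a => hv _,
        fun y => by simpa using tau y 0, fun γ h a b n e => (perp γ h a b n e).2⟩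
      mem := fun y h₁ h₂ => by
        obtain ⟨y, rfl⟩ := QuotientGroup.mk_surjective y
        exact ⟨y.1.w, (eq _ _).2 ⟨(hu y).symm.trans h₁, (hv y).symm.trans h₂, rfl⟩⟩ }
  obtain ⟨n, hn⟩ := D.main (β := ST.quotAut hi ⟨β, hβ⟩) ⟨_, mem_top _, rfl⟩ x.w
  rw [show ι x.w = (⟨x, h₃ hx⟩ : E) from (eq _ _).2 ⟨hx.2.1.symm, hx.2.2.symm, rfl⟩,
    ST.quotAut_mk, eq] at hn
  rw [afn_apply _ (h₃ hx)]
  exact ⟨t0 _, hn.1, hn.2.1⟩

end Cfsg.Agent.D4
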